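import Cfsg.Agent.JFourAmalgam.ActWords

/-!
# Kernel checks for the facts on the action: tables
-/

set_option autoImplicit false
set_option maxRecDepth 100000

namespace CfsgLib.JFourAmalgam.Cert

open CfsgLib.JankoFour

/-- A check. -/
theorem tables_A : tablesOK 0 4 = true := by decide +kernel

end CfsgLib.JFourAmalgam.Cert
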