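import Cfsg.Agent.JFourAmalgam.ActWords

/-!
# Kernel checks for the facts on the action: the further letters
-/

set_option autoImplicit false
set_option maxRecDepth 100000

namespace CfsgLib.JFourAmalgam.Cert

open CfsgLib.JankoFour

/-- A check. -/
theorem extra_ok : ((List.range 14).all fun j => (extraWords.getD j []).all isH && sameR tab2 [18 + j] (extraWords.getD j [])) = true := by decide +kernel

/-- A check. -/
theorem extra_good : (extraRows.all fun L => (L.length == 112) && L.all fun a => Nat.blt a lane) = true := by decide +kernel

end CfsgLib.JFourAmalgam.Cert
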