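import Cfsg.Agent.JFourAmalgam.ActWords

/-!
# Kernel checks for the facts on the action: squares, commutators, t, elements of order three
-/

set_option autoImplicit false
set_option maxRecDepth 100000

namespace CfsgLib.JFourAmalgam.Cert

open CfsgLib.JankoFour CfsgLib.JankoFourRep

/-- A check. -/
theorem table_t : tableOK [3] tBits tMat = true := by decide +kernel

/-- A check. -/
theorem table_three : tableOK wLet 0 threeMat = true := by decide +kernel

/-- A check. -/
theorem bSquare_ok : ((List.range 12).all fun i => eqE (bWord i ++ bWord i) []) = true := by decide +kernel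

/-- A check. -/
theorem bComm_ok : ((List.range 12).all fun j => (List.range j).all fun i => eqE (bWord i ++ bWord j) ((if (qUpper.getD i 0).testBit j then zW else []) ++ bWord j ++ bWord i)) = true := by decide +kernel

/-- A check. -/
theorem comm_z_ok : ((List.range 16).all (fun k => eqE (pWord k ++ zW) (zW ++ pWord k)) && (List.range 12).all (fun i => eqE (bWord i ++ zW) (zW ++ bWord i)) && eqE ([3] ++ zW) (zW ++ [3]) && eqE ([29] ++ zW) (zW ++ [29]) && eqE ([30] ++ zW) (zW ++ [30]) && eqE ([31] ++ zW) (zW ++ [31])) = true := by decide +kernel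

/-- A check. -/
theorem five_ok : eqE ((List.range 10).flatMap fun _ => fiveWord.flatMap pWord) [] = true := by decide +kernel

/-- A check. -/
theorem three_ok : (eqE [29, 29, 29] [] && eqE [30, 30, 30] [] && eqE [31, 31, 31] [] && eqE [30, 29] [29, 30] && eqE [31, 29] [29, 31] && eqE [31, 30] [29, 30, 31] && eqE [3, 29] [29, 3]) = true := by decide +kernel

/-- A check. -/
theorem conj_ok : ((List.range 16).all threeOK) = true := by decide +kernel

/-- The images of one vector under the normal forms. -/
def formImage (x : ℕ × ℕ × ℕ) : ℕ :=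
  evalRow tab2 (List.replicate x.1 30 ++ List.replicate x.2.1 31 ++ List.replicate x.2.2 29) 2

theorem forms_ok : ∀ i j k i' j' k' : Fin 3, formImage (i.val, j.val, k.val) = formImage (i'.val, j'.val, k'.val) →
    i = i' ∧ j = j' ∧ k = k' := by decide +kernel

/-- A vector moved by `zJ`. -/
theorem z_moves : evalRow tab2 zW 8 < 2 ^ 112 ∧ evalRow tab2 zW 8 ≠ 8 := by decide +kernel

end CfsgLib.JFourAmalgam.Cert
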