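import Cfsg.Agent.JankoFour.Packed

/-!
# A variant of the packed evaluation for the kernel

The same functions as `pmulFrom` and `evalPack`, by `List.rec`, with one more lane for a vector in general
position. The kernel caches by the lowest word of a number, so with this lane the time is linear in the length
of a word.
-/

set_option autoImplicit false

namespace CfsgLib.JFourAmalgam.Cert

open CfsgLib.JankoFour CfsgLib.JankoFourRep

/-- All packed rows times the rows from a bit. -/
noncomputable def pmulR (ones : ℕ) (L : List ℕ) : ℕ → ℕ → ℕ :=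
  @List.rec ℕ (fun _ => ℕ → ℕ → ℕ) (fun _ _ => 0)
    (fun a _ ih P k => Nat.xor (Nat.mul (Nat.land (Nat.shiftRight P k) ones) a) (ih P (Nat.succ k))) L

/-- Packed rows times a word. -/
noncomputable def evalR (ones : ℕ) (G : ℕ → List ℕ) (w : List ℕ) : ℕ → ℕ :=
  @List.rec ℕ (fun _ => ℕ → ℕ) (fun P => P)
    (fun c _ ih P => CosetEnum.force (pmulR ones (G c) P 0) ih) w

/-- A vector in general position. -/
def seed : ℕ := 0x5d1c0a7e93b24f6881e3c79d2a51

/-- Two words have the same product. -/
noncomputable def sameR (G : ℕ → List ℕ) (v w : List ℕ) : Bool :=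
  CosetEnum.force (lanesOne 113) fun o => CosetEnum.force (pack (seed :: oneL)) fun P =>
    Nat.beq (evalR o G v P) (evalR o G w P)

theorem pmulR_eq (ones : ℕ) : ∀ (L : List ℕ) (P k : ℕ), pmulR ones L P k = pmulFrom ones L P k
  | [], _, _ => rfl
  | a :: L, P, k => by
    show Nat.xor _ (pmulR ones L P (k + 1)) = _
    rw [pmulR_eq ones L P (k + 1)]
    rfl

theorem evalR_eq (ones : ℕ) (G : ℕ → List ℕ) : ∀ (w : List ℕ) (P : ℕ), evalR ones G w P = evalPack ones G w P
  | [], _ => rfl
  | c :: w, P => by
    show CosetEnum.force (pmulR ones (G c) P 0) (evalR ones G w) = _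
    rw [pmulR_eq, CosetEnum.force_eq, evalR_eq ones G w, evalPack, CosetEnum.force_eq]

/-- Equal evaluations give equal products. -/
theorem prod_eq_of_sameR {G : ℕ → List ℕ} (hG : Good G) {v w : List ℕ} (h : sameR G v w = true) :
    (v.map fun c => toMat (G c)).prod = (w.map fun c => toMat (G c)).prod := by
  refine prod_eq_of_sameProd hG ?_
  have h1 : ∀ r ∈ oneL, r < lane := by decide +kernel
  have h2 : ∀ r ∈ seed :: oneL, r < lane := by decide +kernel
  simp only [sameR, CosetEnum.force_eq, evalR_eq] at h
  have h' := Nat.eq_of_beq_eq_true h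
  have e : (seed :: oneL).length = 113 := by simp [oneL]
  rw [← e, (evalL_bound hG v _ h2).1, (evalL_bound hG w _ h2).1] at h'
  have hrows := pack_injective _ _ (by simp) (evalL_bound hG v _ h2).2 (evalL_bound hG w _ h2).2 h'
  rw [List.map_cons, List.map_cons, List.cons.injEq] at hrows
  simp only [sameProd, CosetEnum.force_eq]
  rw [show 112 = oneL.length by simp [oneL], (evalL_bound hG v oneL h1).1, (evalL_bound hG w oneL h1).1, hrows.2]
  simp

end CfsgLib.JFourAmalgam.Cert
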