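import Cfsg.Agent.JFourAmalgam.ActLetters

/-!
# The facts on the action of the parabolic and of `t` on the extraspecial subgroup
-/

set_option autoImplicit false
set_option maxRecDepth 100000

namespace CfsgLib.JFourAmalgam.Cert

open CfsgLib.JankoFour CfsgLib.JankoFourRep CfsgLib.Mathieu Matrix Frame

local notation "J" => Cfsg.Spor.J4

theorem comm_checks : (∀ k < 16, pElem k * zJ = zJ * pElem k) ∧ (∀ i < 12, oBasis i * zJ = zJ * oBasis i) ∧
    tJ * zJ = zJ * tJ ∧ ∀ c ∈ [29, 30, 31], el c * zJ = zJ * el c := by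
  have h := comm_z_ok
  simp only [Bool.and_eq_true, List.all_eq_true, List.mem_range] at h
  obtain ⟨⟨⟨⟨⟨hp, hb⟩, ht⟩, h29⟩, h30⟩, h31⟩ := h
  have one : ∀ {c : ℕ}, eqE ([c] ++ zW) (zW ++ [c]) = true → el c * zJ = zJ * el c := fun h => by
    have e := eq_of_eqE h
    rwa [ev2_append, ev2_append, ev2_one, ev2_zW] at e
  refine ⟨fun k hk => ?_, fun i hi => ?_, el_t ▸ one ht, fun c hc => ?_⟩
  · have e := eq_of_eqE (hp k hk)
    rwa [ev2_append, ev2_append, ev2_pWord hk, ev2_zW] at e
  · have e := eq_of_eqE (hb i hi)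
    rwa [ev2_append, ev2_append, ev2_bWord hi, ev2_zW] at e
  · simp only [List.mem_cons, List.not_mem_nil, or_false] at hc
    rcases hc with rfl | rfl | rfl
    exacts [one h29, one h30, one h31]

theorem square_basis (i : ℕ) (hi : i < 12) : oBasis i * oBasis i = 1 := by
  have h := eq_of_eqE (List.all_eq_true.1 bSquare_ok i (List.mem_range.2 hi))
  rwa [ev2_append, ev2_bWord hi, ev2_nil] at h

theorem comm_basis {i j : ℕ} (hj : j < 12) (hij : i < j) : oBasis i * oBasis j =
    (if (qUpper.getD i 0).testBit j then zJ else 1) * (oBasis j * oBasis i) := by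
  have h := eq_of_eqE (List.all_eq_true.1 (List.all_eq_true.1 bComm_ok j (List.mem_range.2 hj)) i
    (List.mem_range.2 hij))
  rw [ev2_append, ev2_append, ev2_append, ev2_bWord hj, ev2_bWord (lt_trans hij hj), mul_assoc] at h
  rw [h]
  congr 1
  split_ifs <;> [exact ev2_zW; rfl]

theorem zJ_ne_one' : zJ ≠ 1 := fun h => by
  have hw : ∀ c ∈ zW, c < 32 := by decide
  have h1 : Matrix.vecMul (vecOf 8) (rep (ev2 zW)).val = vecOf 8 := by
    rw [ev2_zW, h, map_one, Units.val_one, Matrix.vecMul_one]
  rw [rep_ev2 hw, ← vecOf_evalRow tab2 (fun c => (tab2_good c).1)] at h1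
  exact z_moves.2 (vecOf_inj z_moves.1 (by norm_num) h1)

theorem oJ_le_pJ : oJ ≤ pJ := by
  rw [oJ_eq, Subgroup.closure_le]
  intro a ha
  rw [Set.mem_union, Set.mem_singleton_iff, Set.mem_ofPred_eq] at ha
  rcases ha with e | ⟨i, hi, e⟩ <;> rw [e]
  · exact zJ_mem_pJ
  · refine mem_pJ ?_ (comm_checks.2.1 i hi)
    rw [← ev2_bWord hi, bWord]
    split_ifs with h
    · rw [qList_word _ ((by decide +kernel : ∀ i < 6, ∀ a ∈ oLists.getD (i + 1) [], a < 11) i h)]
      refine Subgroup.list_prod_mem _ fun a ha => ?_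
      obtain ⟨b, hb, rfl⟩ := List.mem_map.1 ha
      exact basicMem b ((by decide +kernel : ∀ i < 6, ∀ a ∈ oLists.getD (i + 1) [], a < 11) i h b hb)
    · rw [ev2_one]
      exact el_mem_HJ (by omega) (by omega)

theorem pElem_mem' {k : ℕ} (hk : k < 16) : pElem k ∈ pJ := by
  refine mem_pJ ?_ (comm_checks.1 k hk)
  rw [← ev2_pWord hk, pWord]
  split_ifs with h
  · rw [ev2_one, el_low (by omega)]
    exact basicMem k h
  · rw [ev2_one]
    exact el_mem_HJ (by omega) (by omega)

theorem el_mem_pJ {c : ℕ} (hc : c ∈ [29, 30, 31]) : el c ∈ pJ := by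
  refine mem_pJ ?_ (comm_checks.2.2.2 c hc)
  simp only [List.mem_cons, List.not_mem_nil, or_false] at hc
  exact el_mem_HJ (by omega) (by omega)

/-! ### The order of `oJ` -/

/-- The involution in `oJ`. -/
abbrev zE : oJ := zO

theorem zE_comm (x : oJ) : x * zE = zE * x :=
  Subtype.ext (Subgroup.mem_centralizer_singleton_iff.1 (Subgroup.mem_inf.1 (oJ_le_pJ x.2)).2)

/-- The centre generated by the involution. -/
def oZ : Subgroup oJ := Subgroup.zpowers zE

instance : oZ.Normal := ⟨fun n hn g => by
  obtain ⟨k, rfl⟩ := Subgroup.mem_zpowers_iff.1 hn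
  rw [((show Commute g zE from zE_comm g).zpow_right k).eq, mul_inv_cancel_right]
  exact hn⟩

theorem card_oZ : Nat.card oZ = 2 := by
  haveI : Fact (Nat.Prime 2) := ⟨Nat.prime_two⟩
  rw [oZ, Nat.card_zpowers]
  exact orderOf_eq_prime (Subtype.ext (by rw [pow_two]; exact zJ_sq))
    fun h => zJ_ne_one' (congrArg Subtype.val h)

theorem zE_mem : zE ∈ oZ := Subgroup.mem_zpowers _

theorem closure_bO : Subgroup.closure ({zE} ∪ Set.range fun i : Fin 12 => bO i) = (⊤ : Subgroup oJ) := by
  refine eq_top_iff.2 ?_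
  rintro ⟨x, hx⟩ -
  have hx' := hx
  rw [oJ_eq] at hx'
  induction hx' using Subgroup.closure_induction with
  | mem a ha =>
    rw [Set.mem_union, Set.mem_singleton_iff, Set.mem_ofPred_eq] at ha
    rcases ha with e | ⟨i, hi, e⟩
    · exact Subgroup.subset_closure (Or.inl (Subtype.ext e))
    · exact Subgroup.subset_closure (Or.inr ⟨⟨i, hi⟩, Subtype.ext ((coe_bO hi).trans e.symm)⟩)
  | one => exact one_mem _
  | mul a b ha hb iha ihb =>
    have ha' : a ∈ oJ := by rw [oJ_eq]; exact ha
    have hb' : b ∈ oJ := by rw [oJ_eq]; exact hb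
    exact mul_mem (iha ha') (ihb hb')
  | inv a ha iha =>
    have ha' : a ∈ oJ := by rw [oJ_eq]; exact ha
    exact inv_mem (iha ha')

/-- The class modulo the centre. -/
def oQ : oJ →* oJ ⧸ oZ := QuotientGroup.mk' oZ

theorem oQ_z : oQ zE = 1 := (QuotientGroup.eq_one_iff _).2 zE_mem

theorem oQ_bO_comm (i j : Fin 12) : oQ (bO i) * oQ (bO j) = oQ (bO j) * oQ (bO i) := by
  have key : ∀ i j : Fin 12, i < j → oQ (bO i) * oQ (bO j) = oQ (bO j) * oQ (bO i) := fun i j h => by
    have e : bO (i : ℕ) * bO (j : ℕ) = (if (qUpper.getD i.val 0).testBit j.val then zE else 1) *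
        (bO (j : ℕ) * bO (i : ℕ)) := Subtype.ext (by
      rw [Subgroup.coe_mul, Subgroup.coe_mul, Subgroup.coe_mul, coe_bO i.isLt, coe_bO j.isLt,
        comm_basis j.isLt h]
      split_ifs <;> rfl)
    have e' := congrArg oQ e
    rw [map_mul, map_mul, map_mul] at e'
    rw [e']
    split_ifs <;> simp [oQ_z]
  rcases lt_trichotomy i j with h | h | h
  · exact key i j h
  · rw [h]
  · exact (key j i h).symm

theorem oQ_comm (x y : oJ) : oQ x * oQ y = oQ y * oQ x := by
  have key : ∀ (S : oJ ⧸ oZ), (∀ i : Fin 12, S * oQ (bO i) = oQ (bO i) * S) → ∀ y : oJ, S * oQ y = oQ y * S := by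
    intro S hS y
    have hy : y ∈ Subgroup.closure ({zE} ∪ Set.range fun i : Fin 12 => bO i) := closure_bO ▸ Subgroup.mem_top y
    induction hy using Subgroup.closure_induction with
    | mem a ha =>
      rcases ha with e | ⟨i, rfl⟩
      · rw [Set.mem_singleton_iff.1 e, oQ_z, mul_one, one_mul]
      · exact hS i
    | one => simp
    | mul a b _ _ iha ihb => rw [map_mul, ← mul_assoc, iha, mul_assoc, ihb, mul_assoc]
    | inv a _ iha => rw [map_inv]; exact ((show Commute S (oQ a) from iha).inv_right).eq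
  exact key _ (fun i => (key _ (fun j => oQ_bO_comm i j) x).symm) y

/-- The products of the basis modulo the centre. -/
noncomputable def oPhi (v : V12) : oJ ⧸ oZ :=
  ((List.finRange 12).map fun i => if v i = 1 then oQ (bO i) else 1).prod

theorem oQ_surj_phi (q : oJ ⧸ oZ) : ∃ v, oPhi v = q := by
  letI : CommGroup (oJ ⧸ oZ) := { (inferInstance : Group (oJ ⧸ oZ)) with
    mul_comm := fun a b => by
      induction a using QuotientGroup.induction_on with | _ a =>
      induction b using QuotientGroup.induction_on with | _ b =>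
      exact oQ_comm a b }
  have hadd : ∀ v w, oPhi (v + w) = oPhi v * oPhi w := fun v w => by
    rw [oPhi, oPhi, oPhi, ← List.prod_map_mul]
    refine congrArg List.prod (List.map_congr_left fun i _ => ?_)
    have hsq : oQ (bO i) * oQ (bO i) = 1 := by
      rw [← map_mul, show bO (i : ℕ) * bO (i : ℕ) = 1 from Subtype.ext (by
        rw [Subgroup.coe_mul, coe_bO i.isLt]; exact square_basis i i.isLt), map_one]
    rw [Pi.add_apply]
    rcases (by decide : ∀ a : ZMod 2, a = 0 ∨ a = 1) (v i) with a | a <;>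
      rcases (by decide : ∀ a : ZMod 2, a = 0 ∨ a = 1) (w i) with b | b <;>
      simp [a, b, hsq, (by decide : (1 : ZMod 2) + 1 = 0)]
  let P : Multiplicative V12 →* oJ ⧸ oZ :=
    MonoidHom.mk' (fun v => oPhi v.toAdd) fun v w => hadd v.toAdd w.toAdd
  suffices h : q ∈ P.range by
    obtain ⟨v, hv⟩ := h
    exact ⟨v.toAdd, hv⟩
  induction q using QuotientGroup.induction_on with | _ x =>
  show oQ x ∈ P.range
  have hx : x ∈ Subgroup.closure ({zE} ∪ Set.range fun i : Fin 12 => bO i) := closure_bO ▸ Subgroup.mem_top x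
  have hle : Subgroup.closure ({zE} ∪ Set.range fun i : Fin 12 => bO i) ≤ P.range.comap oQ := by
    rw [Subgroup.closure_le]
    rintro a (e | ⟨i, rfl⟩)
    · show oQ a ∈ P.range
      rw [Set.mem_singleton_iff.1 e, oQ_z]
      exact one_mem _
    · refine ⟨Multiplicative.ofAdd (Pi.single i 1), ?_⟩
      show oPhi (Pi.single i 1) = oQ (bO i)
      rw [oPhi, List.prod_map_eq_pow_single i _ (fun j hj _ => by
          simp only [Pi.single_apply, hj, if_false, zero_ne_one]),
        List.count_eq_one_of_mem (List.nodup_finRange 12) (List.mem_finRange i), pow_one,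
        Pi.single_eq_same, if_pos rfl]
  exact hle hx

/-- Whether an element commutes with a basis element. -/
noncomputable def oChi (j : Fin 12) (x : oJ) : ZMod 2 :=
  open Classical in if x * bO j = bO j * x then 0 else 1

theorem comm_cases (x : oJ) (j : Fin 12) : x * bO j = bO j * x ∨ x * bO j = zE * (bO j * x) := by
  have h := oQ_comm x (bO j)
  rw [← map_mul, ← map_mul] at h
  obtain ⟨k, hk⟩ := Subgroup.mem_zpowers_iff.1 (QuotientGroup.eq.1 h.symm)
  have h2 : zE * zE = 1 := Subtype.ext zJ_sq
  rcases Int.even_or_odd' k with ⟨m, rfl | rfl⟩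
  · left
    rw [_root_.zpow_mul, _root_.zpow_two, h2, _root_.one_zpow] at hk
    exact (inv_mul_eq_one.1 hk.symm).symm
  · right
    rw [_root_.zpow_add_one, _root_.zpow_mul, _root_.zpow_two, h2, _root_.one_zpow, one_mul] at hk
    rw [← zE_comm, eq_inv_mul_iff_mul_eq.1 hk]

theorem oChi_mul (j : Fin 12) (x y : oJ) : oChi j (x * y) = oChi j x + oChi j y := by
  classical
  have hne : ∀ w : oJ, zE * w ≠ w := fun w h =>
    zJ_ne_one' (congrArg Subtype.val (mul_eq_right.1 h))
  have val : ∀ u : oJ, u * bO j = (if oChi j u = 0 then 1 else zE) * (bO j * u) := fun u => by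
    rcases comm_cases u j with e | e
    · rw [oChi, if_pos e, if_pos rfl, one_mul]; exact e
    · rw [oChi, if_neg (fun e' => hne _ (e.symm.trans e')), if_neg one_ne_zero]; exact e
  have hz : ∀ (c : Prop) [Decidable c] (u : oJ), u * (if c then 1 else zE) = (if c then 1 else zE) * u := by
    intro c _ u
    split_ifs
    · simp
    · exact zE_comm u
  have e : x * y * bO j = (if oChi j y = 0 then 1 else zE) * (if oChi j x = 0 then 1 else zE) *
      (bO j * (x * y)) := by
    rw [mul_assoc x, val y, ← mul_assoc x, hz, mul_assoc _ x, ← mul_assoc x, val x]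
    simp only [mul_assoc]
  have h2 : zE * zE = 1 := Subtype.ext zJ_sq
  rcases zmod2_cases' (oChi j x) with a | a <;> rcases zmod2_cases' (oChi j y) with b | b <;>
    rw [a, b] at e ⊢ <;> simp [h2] at e
  · rw [oChi, if_pos e]; rfl
  · rw [oChi, if_neg fun e' => hne _ (e.symm.trans e')]; rfl
  · rw [oChi, if_neg fun e' => hne _ (e.symm.trans e')]; rfl
  · rw [oChi, if_pos e]; rfl
where
  zmod2_cases' (a : ZMod 2) : a = 0 ∨ a = 1 := by revert a; decide

/-- The rows of the inverse of the commutator form. -/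
def formInv : List ℕ := [64, 448, 3328, 1408, 2880, 2560, 19, 10, 30, 48, 12, 52]

theorem form_inv : (toM formInv) * (toM qUpper + (toM qUpper)ᵀ) = 1 := by decide +kernel

theorem card_oJ' : Nat.card oJ = 2 ^ 13 := by
  haveI : Finite J := NModel.Facts.finite facts
  have h1 : Nat.card (oJ ⧸ oZ) ≤ 4096 := by
    have h := Nat.card_le_card_of_surjective oPhi oQ_surj_phi
    simpa using h
  have h2 : 4096 ≤ Nat.card (oJ ⧸ oZ) := by
    let T : oJ →* Multiplicative V12 := MonoidHom.mk' (fun x => Multiplicative.ofAdd fun j => oChi j x)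
      fun x y => congrArg Multiplicative.ofAdd (funext fun j => oChi_mul j x y)
    have hle : oZ ≤ T.ker := Subgroup.zpowers_le.2 (congrArg Multiplicative.ofAdd (funext fun j => by
      rw [oChi, if_pos (zE_comm _).symm]
      rfl))
    let Q : oJ ⧸ oZ →* Multiplicative V12 := QuotientGroup.lift oZ T hle
    have hval : ∀ i j : Fin 12, oChi j (bO i) = (toM qUpper + (toM qUpper)ᵀ) i j := by
      classical
      intro i j
      have key : ∀ i j : Fin 12, i < j → oChi j (bO i) = toM qUpper i j ∧ oChi i (bO j) = toM qUpper i j := by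
        intro i j h
        have e : bO (i : ℕ) * bO (j : ℕ) = (if (qUpper.getD i.val 0).testBit j.val then zE else 1) *
            (bO (j : ℕ) * bO (i : ℕ)) := Subtype.ext (by
          rw [Subgroup.coe_mul, Subgroup.coe_mul, Subgroup.coe_mul, coe_bO i.isLt, coe_bO j.isLt,
            comm_basis j.isLt h]
          split_ifs <;> rfl)
        rw [toM_apply, bz]
        by_cases hb : (qUpper.getD i.val 0).testBit j.val = true
        · rw [if_pos hb] at e ⊢
          have hne : bO (i : ℕ) * bO (j : ℕ) ≠ bO (j : ℕ) * bO (i : ℕ) := fun e' =>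
            zJ_ne_one' (congrArg Subtype.val (mul_eq_right.1 (e.symm.trans e')))
          exact ⟨if_neg hne, if_neg fun e' => hne e'.symm⟩
        · rw [if_neg hb, one_mul] at e
          rw [if_neg hb]
          exact ⟨if_pos e, if_pos e.symm⟩
      rw [Matrix.add_apply, Matrix.transpose_apply]
      rcases lt_trichotomy i j with h | h | h
      · rw [(key i j h).1, upper_facts j i h.le, add_zero]
      · subst h; rw [oChi, if_pos rfl, upper_facts i i le_rfl, add_zero]
      · rw [(key j i h).2, upper_facts i j h.le, zero_add]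
    have hsurj : Function.Surjective Q := by
      intro w
      let L : V12 →+ V12 := AddMonoidHom.mk' (fun v => Matrix.vecMul v (toM qUpper + (toM qUpper)ᵀ))
        fun a b => Matrix.add_vecMul _ _ _
      have hrange : ∀ v, Multiplicative.ofAdd (L v) ∈ Q.range := by
        intro v
        have : L v = ∑ i, v i • fun j => oChi j (bO i) := by
          show Matrix.vecMul v _ = _
          rw [Matrix.vecMul_eq_sum]
          refine Finset.sum_congr rfl fun i _ => funext fun j => ?_
          show v i * (toM qUpper + (toM qUpper)ᵀ) i j = v i * oChi j (bO i)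
          rw [hval]
        rw [this]
        suffices key : ∀ s : Finset (Fin 12),
            Multiplicative.ofAdd (∑ i ∈ s, v i • fun j => oChi j (bO i)) ∈ Q.range from key _
        intro s
        induction s using Finset.induction_on with
        | empty => rw [Finset.sum_empty]; exact one_mem _
        | insert i s hi ih =>
        rw [Finset.sum_insert hi, ofAdd_add]
        refine mul_mem ?_ ih
        rcases oChi_mul.zmod2_cases' (v i) with a | a <;> rw [a]
        · rw [zero_smul]; exact one_mem _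
        · rw [one_smul]; exact ⟨oQ (bO i), rfl⟩
      obtain ⟨q, hq⟩ := hrange (Matrix.vecMul w.toAdd (toM formInv))
      refine ⟨q, hq.trans (congrArg Multiplicative.ofAdd ?_)⟩
      show Matrix.vecMul (Matrix.vecMul w.toAdd (toM formInv)) _ = w.toAdd
      rw [Matrix.vecMul_vecMul, form_inv, Matrix.vecMul_one]
    have h := Nat.card_le_card_of_surjective Q hsurj
    simpa using h
  rw [Subgroup.card_eq_card_quotient_mul_card_subgroup oZ, card_oZ, le_antisymm h1 h2]
  norm_num

/-! ### Normalisation -/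

theorem norm_gen {g : J} (hz : g * zJ = zJ * g)
    (h : ∀ i < 12, g⁻¹ * oBasis i * g ∈ oJ) : g ∈ Subgroup.normalizer (oJ : Set J) := by
  haveI : Finite J := NModel.Facts.finite facts
  have hle : oJ.map (MulAut.conj g⁻¹).toMonoidHom ≤ oJ := by
    conv_lhs => rw [oJ_eq]
    rw [MonoidHom.map_closure, Subgroup.closure_le]
    rintro _ ⟨a, ha, rfl⟩
    rw [Set.mem_union, Set.mem_singleton_iff, Set.mem_ofPred_eq] at ha
    show g⁻¹ * a * g⁻¹⁻¹ ∈ oJ
    rw [inv_inv]
    rcases ha with e | ⟨i, hi, e⟩ <;> rw [e]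
    · rw [mul_assoc, ← hz, inv_mul_cancel_left]; exact zJ_mem
    · exact h i hi
  have heq := Subgroup.eq_of_le_of_card_ge hle
    (Subgroup.card_map_of_injective (MulAut.conj g⁻¹).injective).ge
  refine inv_mem_iff.1 (Subgroup.mem_normalizer_iff.2 fun x => ?_)
  constructor
  · intro hx
    have := Subgroup.mem_map_of_mem (MulAut.conj g⁻¹).toMonoidHom hx
    rw [heq] at this
    exact this
  · intro hx
    rw [← heq] at hx
    obtain ⟨y, hy, e⟩ := hx
    rwa [show x = y from (MulAut.conj g⁻¹).injective (show g⁻¹ * x * g⁻¹⁻¹ = _ from e.symm)]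

theorem mem_oJ_of_modZ {a : J} {n : ℕ} (h : ModZ a (selProd n)) : a ∈ oJ := by
  have hs : selProd n ∈ oJ := by
    rw [← coe_selO n]; exact (selO n).2
  rcases h with e | e <;> rw [e]
  exacts [hs, mul_mem zJ_mem hs]

theorem tab_p' {k : ℕ} (hk : k < 16) {i : ℕ} (hi : i < 12) :
    ModZ ((pElem k)⁻¹ * oBasis i * pElem k) (selProd ((pMats.getD k []).getD i 0)) := by
  have key : ∀ lo hi', tablesOK lo hi' = true → lo ≤ k → k < hi' →
      tableOK (pWord k) (pBits.getD k 0) (pMats.getD k []) = true := fun lo hi' h h1 h2 => by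
    have := List.all_eq_true.1 h (k - lo) (List.mem_range.2 (by omega))
    rwa [Nat.add_sub_cancel' h1] at this
  rw [← ev2_pWord hk]
  rcases (by omega : k < 4 ∨ (4 ≤ k ∧ k < 8) ∨ (8 ≤ k ∧ k < 12) ∨ 12 ≤ k) with h | h | h | h
  · exact modZ_of_table (key 0 4 tables_A (by omega) h) hi
  · exact modZ_of_table (key 4 8 tables_B h.1 h.2) hi
  · exact modZ_of_table (key 8 12 tables_C h.1 h.2) hi
  · exact modZ_of_table (key 12 16 tables_D h hk) hi

theorem tab_t' {i : ℕ} (hi : i < 12) : ModZ (tJ⁻¹ * oBasis i * tJ) (selProd (tMat.getD i 0)) := by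
  have := modZ_of_table table_t hi
  rwa [ev2_one, el_t] at this

theorem dJ_norm : ∀ d ∈ dJ, ∀ q ∈ oJ, d * q * d⁻¹ ∈ oJ := by
  have hle : dJ ≤ Subgroup.normalizer (oJ : Set J) := by
    rw [dJ_eq, Subgroup.closure_le]
    rintro a ((⟨i, hi, rfl⟩ | ⟨w, hw, rfl⟩) | rfl)
    · have e : pElem i = qJ i := if_pos hi
      have hi16 : i < 16 := by omega
      exact e ▸ norm_gen (comm_checks.1 i hi16) fun j hj => mem_oJ_of_modZ (tab_p' hi16 hj)
    · obtain ⟨n, hn, rfl⟩ := List.getElem_of_mem hw
      have hn5 : n < 5 := hn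
      have e : pElem (11 + n) = HBound.wv pWords[n] := by
        rw [pElem, if_neg (by omega), Nat.add_sub_cancel_left, List.getD_eq_getElem _ _ hn] <;> rfl
      exact e ▸ norm_gen (comm_checks.1 _ (by omega)) fun j hj => mem_oJ_of_modZ (tab_p' (by omega) hj)
    · exact norm_gen comm_checks.2.2.1 fun j hj => mem_oJ_of_modZ (tab_t' hj)
  exact fun d hd q hq => (Subgroup.mem_normalizer_iff.1 (hle hd) q).1 hq

/-! ### The group of order 27 -/

theorem three_sylow' : ∃ R : Subgroup J, R ≤ pJ ∧ Nat.card R = 27 ∧ el 29 ∈ R ∧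
    ∀ r ∈ R, el 29 * r = r * el 29 := by
  haveI : Finite J := NModel.Facts.finite facts
  set w := el 29
  set a := el 30
  set b := el 31
  have h := three_ok
  simp only [Bool.and_eq_true] at h
  obtain ⟨⟨⟨⟨⟨⟨hw, ha⟩, hb⟩, haw⟩, hbw⟩, hba⟩, -⟩ := h
  have cube : ∀ {c : ℕ}, eqE [c, c, c] [] = true → el c ^ 3 = 1 := fun h => by
    have e := eq_of_eqE h
    rw [ev2_cons, ev2_cons, ev2_one, ev2_nil] at e
    rw [pow_succ, pow_two, mul_assoc, e]
  have haw' : Commute a w := by simpa [ev2_cons, ev2_nil, Commute, SemiconjBy] using eq_of_eqE haw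
  have hbw' : Commute b w := by simpa [ev2_cons, ev2_nil, Commute, SemiconjBy] using eq_of_eqE hbw
  have hba' : b * a = w * (a * b) := by simpa [ev2_cons, ev2_nil] using eq_of_eqE hba
  let f : Fin 3 × Fin 3 × Fin 3 → J := fun x => a ^ x.1.val * b ^ x.2.1.val * w ^ x.2.2.val
  have form : ∀ i j k : ℕ, a ^ i * b ^ j * w ^ k ∈ Set.range f := fun i j k => by
    refine ⟨(⟨i % 3, Nat.mod_lt _ (by norm_num)⟩, ⟨j % 3, Nat.mod_lt _ (by norm_num)⟩,
      ⟨k % 3, Nat.mod_lt _ (by norm_num)⟩), ?_⟩
    have red : ∀ (g : J), g ^ 3 = 1 → ∀ m, g ^ (m % 3) = g ^ m := fun g hg m => by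
      conv_rhs => rw [← Nat.div_add_mod m 3, pow_add, pow_mul, hg, one_pow, one_mul]
    simp only [f, red a (cube ha), red b (cube hb), red w (cube hw)]
  have bj : ∀ j : ℕ, b ^ j * a = a * b ^ j * w ^ j := by
    intro j
    induction j with
    | zero => simp
    | succ j ih =>
      calc b ^ (j + 1) * a = b ^ j * (b * a) := by rw [pow_succ, mul_assoc]
        _ = w * (b ^ j * a) * b := by
          rw [hba', ← mul_assoc, (hbw'.pow_left j).eq]; simp only [mul_assoc]
        _ = _ := by
          rw [ih, pow_succ b, pow_succ' w]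
          have e1 : w * (a * b ^ j * w ^ j) * b = a * b ^ j * (w * w ^ j * b) := by
            rw [← mul_assoc w, (haw'.mul_left (hbw'.pow_left j)).symm.eq]
            simp only [mul_assoc]
          rw [e1, ((hbw'.symm.mul_left (hbw'.symm.pow_left j))).eq]
          simp only [mul_assoc]
  let R : Subgroup J := Subgroup.closure {a, b, w}
  have hR : (R : Set J) = Set.range f := by
    refine Set.Subset.antisymm (fun x hx => ?_) ?_
    · have hx' : x ∈ Submonoid.closure ({a, b, w} : Set J) := by
        rw [← Subgroup.closure_toSubmonoid_of_finite]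
        exact hx
      induction hx' using Submonoid.closure_induction_right with
      | one => exact ⟨(0, 0, 0), by simp [f]⟩
      | mul_right x hxS y hy ih =>
        obtain ⟨⟨i, j, k⟩, rfl⟩ := ih (by
          show x ∈ R.toSubmonoid
          rw [Subgroup.closure_toSubmonoid_of_finite]
          exact hxS)
        simp only [f]
        rcases hy with e | e | e <;> rw [e]
        · rw [mul_assoc _ (w ^ k.val), ((haw'.symm.pow_left k.val)).eq, ← mul_assoc, mul_assoc (a ^ i.val),
            bj, ← mul_assoc, ← mul_assoc, ← pow_succ, mul_assoc _ (w ^ j.val), ← pow_add]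
          exact form _ _ _
        · rw [mul_assoc _ (w ^ k.val), ((hbw'.symm.pow_left k.val)).eq, ← mul_assoc, mul_assoc (a ^ i.val),
            ← pow_succ]
          exact form _ _ _
        · rw [mul_assoc _ (w ^ k.val), ← pow_succ]
          exact form _ _ _
    · rintro _ ⟨x, rfl⟩
      exact mul_mem (mul_mem (pow_mem (Subgroup.subset_closure (by simp)) _)
        (pow_mem (Subgroup.subset_closure (by simp)) _)) (pow_mem (Subgroup.subset_closure (by simp)) _)
  have hval : ∀ x : Fin 3 × Fin 3 × Fin 3, Matrix.vecMul (vecOf 2) (rep (f x)).val =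
      vecOf (formImage (x.1.val, x.2.1.val, x.2.2.val)) := fun x => by
    have e : f x = ev2 (List.replicate x.1.val 30 ++ List.replicate x.2.1.val 31 ++
        List.replicate x.2.2.val 29) := by
      simp [f, ev2, a, b, w, mul_assoc]
    rw [e, rep_ev2 fun c hc => by simp [List.mem_replicate] at hc; omega, formImage,
      vecOf_evalRow tab2 fun c => (tab2_good c).1]
  have hlt : ∀ x : Fin 3 × Fin 3 × Fin 3, formImage (x.1.val, x.2.1.val, x.2.2.val) < 2 ^ 112 := by
    decide +kernel
  have hinj : Function.Injective f := fun x y e => by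
    have h' := congrArg (fun g : J => Matrix.vecMul (vecOf 2) (rep g).val) e
    simp only [hval] at h'
    obtain ⟨e1, e2, e3⟩ := forms_ok _ _ _ _ _ _ (vecOf_inj (hlt x) (hlt y) h')
    exact Prod.ext e1 (Prod.ext e2 e3)
  refine ⟨R, (Subgroup.closure_le _).2 ?_, ?_, Subgroup.subset_closure (by simp), fun r hr => ?_⟩
  · rintro x (e | e | e) <;> rw [e]
    exacts [el_mem_pJ (by simp), el_mem_pJ (by simp), el_mem_pJ (by simp)]
  · show Nat.card (R : Set J) = 27
    rw [hR, Nat.card_range_of_injective hinj]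
    simp
  · have hr' : r ∈ Set.range f := hR ▸ hr
    obtain ⟨⟨i, j, k⟩, rfl⟩ := hr'
    exact ((((haw'.pow_left i.val).mul_left (hbw'.pow_left j.val)).mul_left
      ((Commute.refl w).pow_left k.val)).symm).eq

theorem three_ne_one : HBound.wv threeWord ≠ 1 := fun h1 => by
  have hw : ∀ c ∈ [29], c < 32 := by decide
  have h2 : Matrix.vecMul (vecOf 2) (rep (ev2 [29])).val = vecOf 2 := by
    rw [ev2_one, el_three, h1, map_one, Units.val_one, Matrix.vecMul_one]
  rw [rep_ev2 hw, ← vecOf_evalRow tab2 (fun c => (tab2_good c).1)] at h2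
  exact (by decide +kernel : evalRow tab2 [29] 2 < 2 ^ 112 ∧ evalRow tab2 [29] 2 ≠ 2).2
    (vecOf_inj (by decide +kernel) (by norm_num) h2)

/-- **The facts on the action.** -/
theorem actFacts : ActFacts where
  oJ_le := oJ_le_pJ
  card_oJ := card_oJ'
  norm := dJ_norm
  pElem_mem k hk := pElem_mem' hk
  three_mem := el_three ▸ el_mem_pJ (by simp)
  three_order := by
    haveI : Fact (Nat.Prime 3) := ⟨Nat.prime_three⟩
    have h := three_ok
    simp only [Bool.and_eq_true] at h
    have e := eq_of_eqE h.1.1.1.1.1.1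
    rw [ev2_cons, ev2_cons, ev2_one, ev2_nil, el_three] at e
    exact orderOf_eq_prime (by rw [pow_succ, pow_two, mul_assoc, e]) three_ne_one
  three_sylow := by
    obtain ⟨R, h1, h2, h3, h4⟩ := three_sylow'
    rw [el_three] at h3 h4
    exact ⟨R, h1, h2, h3, h4⟩
  t_comm := comm_checks.2.2.1
  five_pow := by
    have e := eq_of_eqE five_ok
    rw [ev2_nil] at e
    rw [← e]
    have hf : ev2 (fiveWord.flatMap pWord) = pProd fiveWord := by
      simp [List.flatMap_cons, fiveWord, pProd, ev2_append, ev2_pWord]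
    rw [← hf]
    have hrep : ∀ (n : ℕ) (l : List ℕ), ev2 (List.replicate n l).flatten = ev2 l ^ n := fun n l => by
      rw [ev2_flatten, List.map_replicate, List.prod_replicate]
    rw [← hrep]
    simp only [List.flatMap, List.map_const', List.length_range]
  square := square_basis
  comm i hi j hj hij := by
    rw [comm_basis hj hij]
    group
  tab_p k hk i hi := tab_p' hk hi
  tab_three i hi := by
    have := modZ_of_table table_three hi
    rwa [wLet, ev2_one, el_three] at this
  tab_t i hi := tab_t' hi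

/-- `t` commutes with the element of order three. -/
theorem t_three : tJ * HBound.wv threeWord * tJ⁻¹ * (HBound.wv threeWord)⁻¹ ∈ oJ := by
  rw [tJ_comm_three, mul_inv_cancel_right, mul_inv_cancel]
  exact one_mem _

/-- The tabulated elements normalise the subgroup generated by `oJ` and the element of order three. -/
theorem pElem_three {k : ℕ} (hk : k < 16) : ∃ q ∈ oJ,
    pElem k * HBound.wv threeWord * (pElem k)⁻¹ = q * HBound.wv threeWord ∨
    pElem k * HBound.wv threeWord * (pElem k)⁻¹ = q * (HBound.wv threeWord)⁻¹ := by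
  have e := eq_of_eqE (List.all_eq_true.1 conj_ok k (List.mem_range.2 hk))
  rw [ev2_append, ev2_append, ev2_append, wLet, ev2_one, el_three, ev2_pWord hk, ev2_selWord,
    if_neg (by simp), one_mul] at e
  refine ⟨selProd (threeConj.getD k (0, false)).1, mem_oJ_of_modZ (Or.inl rfl), ?_⟩
  cases hb : (threeConj.getD k (0, false)).2
  · left
    rw [hb, if_neg (by simp), ev2_one, el_three] at e
    rw [e, mul_inv_cancel_right]
  · right
    rw [hb, if_pos rfl, ev2_append, ev2_one, el_three] at e
    have h3 : HBound.wv threeWord ^ 3 = 1 := actFacts.three_order ▸ pow_orderOf_eq_one _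
    rw [e, mul_inv_cancel_right, inv_eq_of_mul_eq_one_right
      (show HBound.wv threeWord * (HBound.wv threeWord * HBound.wv threeWord) = 1 by
        rw [← mul_assoc, ← pow_two, ← pow_succ, h3])]

end CfsgLib.JFourAmalgam.Cert
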