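import Cfsg.Agent.JFourAmalgam.Defs
import Cfsg.Agent.JFourAmalgam.CertTables

/-!
# The elements whose actions are tabulated
-/

set_option autoImplicit false

namespace CfsgLib.JFourAmalgam.Cert

open CfsgLib.JankoFour

/-- The basis of `oJ` modulo its centre: six products in the normal subgroup, then six words. -/
def oBasis (i : ℕ) : Cfsg.Spor.J4 :=
  if i < 6 then qList (oLists.getD (i + 1) []) else HBound.wv (oWords.getD (i - 6) [])

/-- The elements of `pJ` tabulated in `pMats`, in the same order. -/
def pElem (i : ℕ) : Cfsg.Spor.J4 := if i < 11 then qJ i else HBound.wv (pWords.getD (i - 11) [])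

/-- The product in `pJ` of the tabulated elements of a word. -/
def pProd (w : List ℕ) : Cfsg.Spor.J4 := (w.map pElem).prod

end CfsgLib.JFourAmalgam.Cert
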