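import Cfsg.Agent.JFourType.M22Facts

/-!
# The orders of the elements of `M22`
-/

set_option autoImplicit false
set_option maxRecDepth 10000
set_option linter.style.haveILetI false

namespace CfsgLib.JFourAmalgam

open Cfsg CfsgLib.Mathieu CfsgLib.Schur.Pc CfsgLib.SporadicOut CfsgLib.TwoBlockMathieu
open CfsgLib.JFourType

/-- Exponents of the centralizers of the representatives and of the Sylow 2-subgroup. -/
def ordersOK : Bool :=
  TwoBlockMathieu.M22Data.cert.cls.all (fun c =>
    [3, 5, 7, 11].contains c.r && c.L.all fun t => powId t (if c.r == 3 then 6 else c.r)) &&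
  Data.syl.all (fun t => powId t 8)

theorem ordersOK_holds : ordersOK = true := by decide +kernel

open TwoBlockMathieu.M22Data in
/-- Three times the order of an element divides one of six numbers. -/
theorem orders_M22 (g : M22g) :
    ∃ m ∈ [12, 15, 18, 21, 24, 33], 3 * orderOf g ∣ m := by
  have hk := ordersOK_holds
  simp only [ordersOK, Bool.and_eq_true, List.all_eq_true, List.contains_iff_mem] at hk
  obtain ⟨hcls, hsyl⟩ := hk
  by_cases hodd : ∃ p : ℕ, p.Prime ∧ Odd p ∧ p ∣ orderOf g
  · obtain ⟨p, hp, hpo, hdvd⟩ := hodd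
    set y := g ^ (orderOf g / p) with hy
    have hy1 : orderOf y = p := orderOf_pow_orderOf_div (orderOf_pos g).ne' hdvd
    obtain ⟨i, hi⟩ := exists_isConj_elt valid (g := y) (by rw [hy1]; exact hpo)
      (fun e => by rw [e, orderOf_one] at hy1; exact hp.ne_one hy1.symm)
    obtain ⟨c, hc⟩ := isConj_iff.1 hi
    obtain ⟨t, ht, r⟩ := centralizer_tables valid i (g := c * g * c⁻¹) (by
      rw [Subgroup.mem_centralizer_singleton_iff, ← hc, hy]
      simp only [mul_assoc, inv_mul_cancel_left]
      rw [← mul_assoc g (g ^ (orderOf g / p)), ((Commute.refl g).pow_right _).eq, mul_assoc])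
    obtain ⟨hr, hL⟩ := hcls cert.cls[i] (List.getElem_mem _)
    have h := (pow_eq_one_iff_powId r _).1 (hL t ht)
    rw [conj_pow, conj_eq_one_iff] at h
    have h' := orderOf_dvd_of_pow_eq_one h
    simp only [List.mem_cons, List.not_mem_nil, or_false] at hr
    rcases hr with e | e | e | e <;> rw [e] at h' <;> simp at h'
    · exact ⟨18, by simp, (show (3 : ℕ) * orderOf g ∣ 3 * _ from mul_dvd_mul_left 3 h').trans (by norm_num)⟩
    · exact ⟨15, by simp, (show (3 : ℕ) * orderOf g ∣ 3 * _ from mul_dvd_mul_left 3 h').trans (by norm_num)⟩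
    · exact ⟨21, by simp, (show (3 : ℕ) * orderOf g ∣ 3 * _ from mul_dvd_mul_left 3 h').trans (by norm_num)⟩
    · exact ⟨33, by simp, (show (3 : ℕ) * orderOf g ∣ 3 * _ from mul_dvd_mul_left 3 h').trans (by norm_num)⟩
  · refine ⟨24, by simp, show 3 * orderOf g ∣ 3 * 8 from mul_dvd_mul_left 3 ?_⟩
    have h2 : IsPGroup 2 (Subgroup.zpowers g) := by
      refine IsPGroup.of_card (n := (orderOf g).primeFactorsList.length) ?_
      rw [Nat.card_zpowers]
      exact Nat.eq_prime_pow_of_unique_prime_dvd (orderOf_pos g).ne' fun {q} hq hd =>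
        hq.eq_two_or_odd'.resolve_right fun ho => hodd ⟨q, hq, ho, hd⟩
    obtain ⟨c, hc⟩ := exists_conj_mem_sylGroup h2
    obtain ⟨t, ht, r⟩ := (coe_sylGroup ▸ hc g (Subgroup.mem_zpowers g) :
      c * g * c⁻¹ ∈ inList Data.syl)
    have h := (pow_eq_one_iff_powId r _).1 (hsyl t ht)
    rw [conj_pow, conj_eq_one_iff] at h
    exact orderOf_dvd_of_pow_eq_one h

end CfsgLib.JFourAmalgam
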