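import Cfsg.Agent.JFourAmalgam.Defs
import Cfsg.Agent.JFourAmalgam.M22Orders
import Cfsg.Agent.JFourType.ThreeSylow
import Cfsg.Agent.JFourSeven.M22Torus

/-!
# The side of the group in the recognition of the fourth Janko group

Facts on a group of Janko-four type through its `Shape`: the image of `oJ` is `E`, an element of
order five of the centralizer is squared by one of order four modulo `E`, inner involutions modulo
`E` have rank four and inner elements have small order modulo `E`, and centralizers of hyperplanes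
of `E` are small.
-/

set_option autoImplicit false
set_option linter.style.haveILetI false
set_option linter.unusedSectionVars false

namespace CfsgLib.JFourAmalgam

open Cfsg CfsgLib.LargeExtraspecial CfsgLib.JFourType Module
open scoped commutatorElement

/-- A normal 2-subgroup of `Aut M22` is trivial. -/
theorem eq_bot_of_normal_two {O : Subgroup (MulAut M22g)} (hn : O.Normal) (h2 : IsPGroup 2 O) :
    O = ⊥ := by
  haveI : Fact (Nat.Prime 2) := ⟨Nat.prime_two⟩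
  haveI := simple_M22g
  set W := O.comap (MulAut.conj : M22g →* MulAut M22g) with hW
  have hWbot : W = ⊥ := by
    refine (hn.comap _ : W.Normal).eq_bot_or_eq_top.resolve_right fun e => ?_
    have hmap : IsPGroup 2 (W.map (MulAut.conj : M22g →* MulAut M22g)) :=
      h2.to_le (Subgroup.map_comap_le _ _)
    obtain ⟨n, hn⟩ := IsPGroup.iff_card.1 hmap
    have hW' : W = ⊤ := e
    rw [Subgroup.card_map_of_injective conj_injective_M22g, hW', Subgroup.card_top,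
      show Nat.card M22g = 443520 from Mathieu.card_SporM22] at hn
    exact absurd (Nat.prime_three.dvd_of_dvd_pow (show 3 ∣ 2 ^ n by rw [← hn]; norm_num)) (by norm_num)
  refine (Subgroup.eq_bot_iff_forall _).2 fun σ hσ => DFunLike.ext _ _ fun a => ?_
  have h : MulAut.conj (σ a * a⁻¹) ∈ O := by
    have e : MulAut.conj (σ a * a⁻¹) = σ * (MulAut.conj a * σ⁻¹ * (MulAut.conj a)⁻¹) := by
      rw [map_mul, map_inv, conj_map_eq a σ a]
      group
    rw [e]
    exact mul_mem hσ (hn.conj_mem _ (inv_mem hσ) _)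
  have h' : σ a * a⁻¹ ∈ W := h
  rw [hWbot, Subgroup.mem_bot, mul_inv_eq_one] at h'
  rw [h']
  rfl

variable {G : Type*} [Group G] [Finite G]

/-- The extraspecial subgroup of a shape is the largest normal 2-subgroup of the centralizer. -/
theorem E_eq_twoCore (S : Shape G) : S.E = Cfsg.twoCoreOfCentralizer S.z := by
  haveI : Fact (Nat.Prime 2) := ⟨Nat.prime_two⟩
  show S.E = (Cfsg.pCore 2 ↥S.H).map S.H.subtype
  have hE : S.E.subgroupOf S.H ≤ Cfsg.pCore 2 ↥S.H := le_sSup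
    (show (S.E.subgroupOf S.H).Normal ∧ IsPGroup 2 ↥(S.E.subgroupOf S.H) from
      ⟨⟨fun y hy g => S.conj_mem g.2 hy⟩,
        S.isPGroup_E.of_equiv (Subgroup.subgroupOfEquivOfLe S.E_le_H).symm⟩)
  refine le_antisymm (fun x hx => ⟨⟨x, S.E_le_H hx⟩, hE hx, rfl⟩) ?_
  · intro x' hx'
    obtain ⟨⟨x, hx⟩, hxO, rfl⟩ := Subgroup.mem_map.1 hx'
    have h2 : IsPGroup 2 ↥(Cfsg.pCore 2 ↥S.H) := LargeExtraspecial.isPGroup_pCore 2 _
    have hbot : (Cfsg.pCore 2 ↥S.H).map S.pivHom = ⊥ := eq_bot_of_normal_two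
      ((LargeExtraspecial.pCore_normal' 2 _).map S.pivHom fun σ => by
        obtain ⟨g, hg, e⟩ := Shape.piv_surj (S := S) σ
        exact ⟨⟨g, hg⟩, e⟩) (h2.map S.pivHom)
    have h1 : S.piv x = 1 := Subgroup.mem_bot.1 (hbot ▸ Subgroup.mem_map_of_mem S.pivHom hxO)
    obtain ⟨e, he, k, rfl⟩ := (Shape.piv_eq_one hx).1 h1
    obtain ⟨n, hn⟩ := h2 ⟨_, hxO⟩
    have hn' : (e * S.p ^ k) ^ 2 ^ n = 1 :=
      congrArg (fun u : ↥(Cfsg.pCore 2 ↥S.H) => ((u : S.H) : G)) hn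
    -- modulo `E` a power of `p` has odd order
    suffices hk : S.p ^ k ∈ S.E from mul_mem he hk
    haveI hNn : (S.E.subgroupOf S.H).Normal := ⟨fun y hy g => S.conj_mem g.2 hy⟩
    let q := QuotientGroup.mk' (S.E.subgroupOf S.H)
    have he1 : q ⟨e, S.E_le_H he⟩ = 1 := (QuotientGroup.eq_one_iff _).2 he
    have hq : q (⟨S.p, S.p_mem_H⟩ ^ (k * 2 ^ n)) = 1 := by
      rw [pow_mul, map_pow, map_pow, ← one_mul (q ⟨S.p, S.p_mem_H⟩ ^ k), ← he1, ← map_pow, ← map_mul,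
        ← map_pow]
      rw [show ((⟨e, S.E_le_H he⟩ : S.H) * ⟨S.p, S.p_mem_H⟩ ^ k) ^ 2 ^ n = 1 from
        Subtype.ext (by simpa using hn')]
      exact (map_one q).trans he1.symm
    have hmem : S.p ^ (k * 2 ^ n) ∈ S.E := by
      simpa [q, Subgroup.mem_subgroupOf] using (QuotientGroup.eq_one_iff _).1 hq
    have h3 := orderOf_dvd_of_pow_eq_one (S.p_pow_mem_E hmem)
    rw [S.p3] at h3
    have hk3 : 3 ∣ k := (Nat.Coprime.pow_right n (by norm_num : Nat.Coprime 3 2)).dvd_of_dvd_mul_right h3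
    rw [S.p_pow_mod, Nat.mod_eq_zero_of_dvd hk3, pow_zero]
    exact one_mem _

variable {S : Shape G}

/-- Inner means commuting with `p` modulo `E`. -/
theorem inner_iff_comm_mod_E {g : G} (hg : g ∈ S.H) :
    S.Inner g ↔ g * S.p * g⁻¹ * S.p⁻¹ ∈ S.E := by
  constructor
  · intro hi
    obtain ⟨e, he, c, hc, rfl⟩ := (Shape.inner_iff hg).1 hi
    rw [show e * c * S.p * (e * c)⁻¹ * S.p⁻¹ = e * (c * S.p * c⁻¹ * e⁻¹ * S.p⁻¹) by group,
      mul_inv_eq_iff_eq_mul.2 (S.mem_C.1 hc).2]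
    exact mul_mem he (S.conj_mem S.p_mem_H (inv_mem he))
  · intro h
    obtain ⟨e, he, n, hn, rfl, h1 | h1⟩ := Shape.decompose hg
    · exact (Shape.inner_iff hg).2 ⟨e, he, n, S.mem_C.2 ⟨S.mem_H.1 hn, h1⟩, rfl⟩
    · exfalso
      -- then `p ^ 2` would lie in `E`
      rw [show e * n * S.p * (e * n)⁻¹ * S.p⁻¹ = e * (n * S.p * n⁻¹ * e⁻¹ * S.p⁻¹) by group, h1] at h
      have h2 : S.p⁻¹ * e⁻¹ * S.p⁻¹ ∈ S.E := by
        have := mul_mem (inv_mem he) h
        rwa [inv_mul_cancel_left] at this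
      have h3 : S.p⁻¹ * e⁻¹ * S.p ∈ S.E := S.conj_mem' S.p_mem_H (inv_mem he)
      have h4 : S.p ^ 2 ∈ S.E := by
        have := mul_mem (inv_mem h2) h3
        rwa [show (S.p⁻¹ * e⁻¹ * S.p⁻¹)⁻¹ * (S.p⁻¹ * e⁻¹ * S.p) = S.p ^ 2 by rw [pow_two]; group] at this
      have := orderOf_dvd_of_pow_eq_one (S.p_pow_mem_E h4)
      rw [S.p3] at this
      norm_num at this

/-! ### (a) The image of `oJ` -/

/-- The element of order three of the model. -/
local notation "wJ" => JankoFour.HBound.wv threeWord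

/-- The image of `oJ` is `E`. The hypotheses are facts of the model: `wJ` has order three, lies in
`pJ`, fixes only `⟨zJ⟩` in the normalised subgroup `oJ` of order `2 ^ 13`, and is central in some
subgroup of order 27 of `pJ`. -/
theorem map_oJ {z : G} (N : NMap G z) (hJ : Cfsg.IsOfJankoFourTypeAt z)
    (hle : oJ ≤ pJ) (hcard : Nat.card oJ = 2 ^ 13) (hzo : zJ ∈ oJ)
    (hw : wJ ∈ pJ) (hw3 : orderOf wJ = 3) (hnorm : ∀ o ∈ oJ, wJ * o * (wJ)⁻¹ ∈ oJ)
    (hfix : ∀ o ∈ oJ, wJ * o = o * wJ → o = 1 ∨ o = zJ)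
    (hR : ∃ R : Subgroup Cfsg.Spor.J4, R ≤ pJ ∧ Nat.card R = 27 ∧ wJ ∈ R ∧
      ∀ r ∈ R, wJ * r = r * wJ) :
    (oJ.subgroupOf JankoFour.HJ).map N.e = Cfsg.twoCoreOfCentralizer z := by
  obtain ⟨P, hP⟩ := hJ
  obtain ⟨S, hSz, -⟩ := Shape.exists_of_isOfJankoFourTypeWith hP
  set O := oJ.subgroupOf JankoFour.HJ with hOdef
  have hoHJ : oJ ≤ JankoFour.HJ := hle.trans inf_le_left
  have hzH : zJ ∈ JankoFour.HJ := hoHJ hzo
  have hcom : ∀ a ∈ pJ, a * zJ = zJ * a := fun a ha => Subgroup.mem_centralizer_singleton_iff.1 ha.2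
  have hmapH : ∀ (a : Cfsg.Spor.J4) (ha : a ∈ pJ), N.e ⟨a, ha.1⟩ ∈ S.H := fun a ha => by
    have e : N.e (⟨a, ha.1⟩ * ⟨zJ, hzH⟩) = N.e (⟨zJ, hzH⟩ * ⟨a, ha.1⟩) :=
      congrArg N.e (Subtype.ext (hcom a ha))
    rw [map_mul, map_mul, N.map_z] at e
    rw [Shape.mem_H, hSz]
    exact e
  obtain ⟨R, hRp, hR27, hwR, hRc⟩ := hR
  set R' := (R.subgroupOf JankoFour.HJ).map N.e with hR'def
  have hR'H : R' ≤ S.H := by
    rintro _ ⟨⟨r, hr⟩, hrR, rfl⟩
    exact hmapH r (hRp hrR)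
  have hR'27 : Nat.card R' = 27 := by
    rw [hR'def, Subgroup.card_map_of_injective N.inj,
      Nat.card_congr (Subgroup.subgroupOfEquivOfLe (hRp.trans inf_le_left)).toEquiv, hR27]
  obtain ⟨T, hTz, hfull⟩ := Shape.exists_full hR'H hR'27
  set y := N.e ⟨wJ, hw.1⟩ with hy
  have hyR : y ∈ R' := ⟨⟨wJ, hw.1⟩, hwR, rfl⟩
  obtain ⟨k, hk⟩ := hfull.central_mem hyR (by
    rintro _ ⟨⟨r, hr⟩, hrR, rfl⟩
    rw [hy, ← map_mul, ← map_mul]
    exact congrArg N.e (Subtype.ext (hRc r hrR)))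
  have hTE : T.E = Cfsg.twoCoreOfCentralizer z := by rw [E_eq_twoCore T, hTz, hSz]
  have hmapT : ∀ (a : Cfsg.Spor.J4) (ha : a ∈ pJ), N.e ⟨a, ha.1⟩ ∈ T.H := fun a ha => by
    rw [Shape.mem_H, hTz]
    exact S.mem_H.1 (hmapH a ha)
  have hzT : N.e ⟨zJ, hzH⟩ = T.z := by rw [N.map_z, hTz, hSz]
  have hz2 : zJ * zJ = 1 := by
    have : N.e (⟨zJ, hzH⟩ * ⟨zJ, hzH⟩) = N.e 1 := by
      rw [map_mul, map_one, hzT, T.z_mul_z]
    have h := N.inj this
    rw [Subtype.ext_iff, Subgroup.coe_mul, Subgroup.coe_one] at h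
    exact h
  have hwcube : wJ ^ 3 = 1 := hw3 ▸ pow_orderOf_eq_one wJ
  -- every element of `oJ` is a commutator with `wJ` up to the centre
  haveI : Finite oJ := Nat.finite_of_card_ne_zero (by rw [hcard]; norm_num)
  let Z : Subgroup oJ := Subgroup.zpowers ⟨zJ, hzo⟩
  have hZ : ∀ c : oJ, c ∈ Z ↔ (c : Cfsg.Spor.J4) = 1 ∨ (c : Cfsg.Spor.J4) = zJ := fun c => by
    refine ⟨fun hc => ?_, fun hc => ?_⟩
    · obtain ⟨i, rfl⟩ := Subgroup.mem_zpowers_iff.1 hc
      have h2 : (⟨zJ, hzo⟩ : oJ) ^ 2 = 1 := Subtype.ext (by simpa [pow_two] using hz2)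
      rcases Int.even_or_odd i with ⟨j, rfl⟩ | ⟨j, rfl⟩
      · left
        rw [← two_mul, zpow_mul, show (⟨zJ, hzo⟩ : oJ) ^ (2 : ℤ) = 1 from h2, one_zpow]
        rfl
      · right
        rw [zpow_add_one, zpow_mul, show (⟨zJ, hzo⟩ : oJ) ^ (2 : ℤ) = 1 from h2, one_zpow, one_mul]
    · rcases hc with e | e
      · rw [show c = 1 from Subtype.ext e]; exact one_mem _
      · rw [show c = ⟨zJ, hzo⟩ from Subtype.ext e]; exact Subgroup.mem_zpowers _
  have hzc : ∀ a ∈ oJ, Commute a zJ := fun a ha => hcom a (hle ha)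
  have hwz : Commute wJ zJ := hcom _ hw
  let d : oJ → oJ := fun a => ⟨(a : Cfsg.Spor.J4) * (wJ * (a : Cfsg.Spor.J4)⁻¹ * (wJ)⁻¹),
    mul_mem a.2 (hnorm _ (inv_mem a.2))⟩
  have hsurj : ∀ o : oJ, ∃ a : oJ, (QuotientGroup.mk (d a) : oJ ⧸ Z) = QuotientGroup.mk o := by
    haveI : Finite (oJ ⧸ Z) := inferInstance
    let F : oJ ⧸ Z → oJ ⧸ Z := fun q => Quotient.liftOn' q (fun a => QuotientGroup.mk (d a))
      fun a b hab => by
        rw [QuotientGroup.leftRel_apply] at hab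
        refine congrArg QuotientGroup.mk (Subtype.ext ?_)
        show (a : Cfsg.Spor.J4) * (wJ * (a : Cfsg.Spor.J4)⁻¹ * (wJ)⁻¹) =
          (b : Cfsg.Spor.J4) * (wJ * (b : Cfsg.Spor.J4)⁻¹ * (wJ)⁻¹)
        rcases (hZ _).1 hab with e | e <;> simp only [Subgroup.coe_mul, Subgroup.coe_inv] at e <;>
          rw [inv_mul_eq_iff_eq_mul] at e <;> rw [e]
        · rw [mul_one]
        · rw [mul_inv_rev, inv_eq_of_mul_eq_one_right hz2]
          calc (a : Cfsg.Spor.J4) * (wJ * (a : Cfsg.Spor.J4)⁻¹ * (wJ)⁻¹)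
              = a * (zJ * zJ) * (wJ * (a : Cfsg.Spor.J4)⁻¹ * (wJ)⁻¹) := by rw [hz2, mul_one]
            _ = a * zJ * (zJ * wJ) * (a : Cfsg.Spor.J4)⁻¹ * (wJ)⁻¹ := by group
            _ = a * zJ * (wJ * zJ) * (a : Cfsg.Spor.J4)⁻¹ * (wJ)⁻¹ := by rw [hwz.eq]
            _ = a * zJ * (wJ * (zJ * (a : Cfsg.Spor.J4)⁻¹) * (wJ)⁻¹) := by group
    have hF : Function.Injective F := by
      intro q q'
      induction q using QuotientGroup.induction_on with | _ a =>
      induction q' using QuotientGroup.induction_on with | _ b =>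
      intro h
      have h' : (QuotientGroup.mk (d a) : oJ ⧸ Z) = QuotientGroup.mk (d b) := h
      rw [QuotientGroup.eq, hZ] at h'
      simp only [d, Subgroup.coe_mul, Subgroup.coe_inv] at h'
      set u := (a : Cfsg.Spor.J4)⁻¹ * b with hu
      have hkey : wJ * u * (wJ)⁻¹ = u ∨ wJ * u * (wJ)⁻¹ = zJ * u := by
        rcases h' with e | e
        · left
          rw [inv_mul_eq_one] at e
          calc wJ * u * (wJ)⁻¹
              = (a : Cfsg.Spor.J4)⁻¹ * ((a : Cfsg.Spor.J4) * (wJ * (a : Cfsg.Spor.J4)⁻¹ * (wJ)⁻¹)) *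
                (wJ * (b : Cfsg.Spor.J4) * (wJ)⁻¹) := by rw [hu]; group
            _ = (a : Cfsg.Spor.J4)⁻¹ * ((b : Cfsg.Spor.J4) * (wJ * (b : Cfsg.Spor.J4)⁻¹ * (wJ)⁻¹)) *
                (wJ * (b : Cfsg.Spor.J4) * (wJ)⁻¹) := by rw [e]
            _ = u := by rw [hu]; group
        · right
          rw [inv_mul_eq_iff_eq_mul] at e
          have hz' : zJ * u = u * zJ := (hzc u (mul_mem (inv_mem a.2) b.2)).symm.eq
          calc wJ * u * (wJ)⁻¹
              = (a : Cfsg.Spor.J4)⁻¹ * ((a : Cfsg.Spor.J4) * (wJ * (a : Cfsg.Spor.J4)⁻¹ * (wJ)⁻¹) * zJ) * zJ *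
                (wJ * (b : Cfsg.Spor.J4) * (wJ)⁻¹) := by
                  rw [show ∀ x : Cfsg.Spor.J4, (a : Cfsg.Spor.J4)⁻¹ * (x * zJ) * zJ = (a : Cfsg.Spor.J4)⁻¹ * (x * (zJ * zJ))
                    from fun x => by group, hz2, mul_one, hu]
                  group
            _ = (a : Cfsg.Spor.J4)⁻¹ * ((b : Cfsg.Spor.J4) * (wJ * (b : Cfsg.Spor.J4)⁻¹ * (wJ)⁻¹)) * zJ *
                (wJ * (b : Cfsg.Spor.J4) * (wJ)⁻¹) := by rw [e]
            _ = u * (wJ * (b : Cfsg.Spor.J4)⁻¹ * (wJ)⁻¹ * zJ) * (wJ * (b : Cfsg.Spor.J4) * (wJ)⁻¹) := by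
                  rw [hu]; group
            _ = u * (zJ * (wJ * (b : Cfsg.Spor.J4)⁻¹ * (wJ)⁻¹)) * (wJ * (b : Cfsg.Spor.J4) * (wJ)⁻¹) := by
                  rw [((hwz.mul_left (hzc _ (inv_mem b.2))).mul_left hwz.inv_left).eq]
            _ = zJ * u := by rw [hz']; group
      refine QuotientGroup.eq.2 ((hZ _).2 ?_)
      simp only [Subgroup.coe_mul, Subgroup.coe_inv]
      rw [← hu]
      refine hfix u (mul_mem (inv_mem a.2) b.2) ?_
      rcases hkey with e | e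
      · exact mul_inv_eq_iff_eq_mul.1 e
      · exfalso
        have e2 : ∀ x, wJ * (zJ * x) * (wJ)⁻¹ = zJ * (wJ * x * (wJ)⁻¹) := fun x => by
          rw [← mul_assoc wJ, hwz.eq]
          group
        have e3 : wJ ^ 3 * u * (wJ ^ 3)⁻¹ = wJ * (wJ * (wJ * u * (wJ)⁻¹) * (wJ)⁻¹) * (wJ)⁻¹ := by
          rw [pow_succ, pow_two]; group
        rw [hwcube, e, e2, e, e2, e2, e, ← mul_assoc zJ zJ (_ : Cfsg.Spor.J4), hz2, one_mul, one_mul,
          inv_one, mul_one, right_eq_mul] at e3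
        have h1 : N.e ⟨zJ, hzH⟩ = 1 := by
          rw [show (⟨zJ, hzH⟩ : JankoFour.HJ) = 1 from Subtype.ext e3, map_one]
        exact T.sub.ne_one (hzT ▸ h1)
    intro o
    obtain ⟨q, hq⟩ := (Finite.injective_iff_surjective.1 hF) (QuotientGroup.mk o)
    obtain ⟨a, rfl⟩ := QuotientGroup.mk_surjective q
    exact ⟨a, hq⟩
  -- the images
  have hinner : ∀ o ∈ oJ, ∀ ho : o ∈ JankoFour.HJ, T.Inner (N.e ⟨o, ho⟩) := by
    intro o hoo ho
    obtain ⟨a, ha⟩ := hsurj ⟨o, hoo⟩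
    rw [QuotientGroup.eq, hZ] at ha
    simp only [d, Subgroup.coe_mul, Subgroup.coe_inv] at ha
    have hc : T.Inner (N.e ⟨a, hoHJ a.2⟩ * y * (N.e ⟨a, hoHJ a.2⟩)⁻¹ * y⁻¹) :=
      Shape.inner_comm (hmapT _ hw) (hmapT _ (hle a.2))
    have hc' : T.Inner (N.e ⟨(a : Cfsg.Spor.J4) * (wJ * (a : Cfsg.Spor.J4)⁻¹ * (wJ)⁻¹),
        hoHJ (mul_mem a.2 (hnorm _ (inv_mem a.2)))⟩) := by
      convert hc using 1
      rw [hy, ← map_inv, ← map_inv, ← map_mul, ← map_mul, ← map_mul]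
      refine congrArg N.e (Subtype.ext ?_)
      simp [mul_assoc]
    rcases ha with e | e <;> rw [inv_mul_eq_iff_eq_mul] at e
    · convert hc' using 3
      rw [mul_one] at e
      exact e
    · have := Shape.inner_mul (hmapT _ (hle (mul_mem a.2 (hnorm _ (inv_mem a.2))))) (hmapT _ (hle hzo))
        hc' (by rw [show N.e ⟨zJ, (hle hzo).1⟩ = T.z from hzT]; exact Shape.inner_E T.sub.z_mem)
      rw [← map_mul] at this
      convert this using 3
      exact e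
  have himage : O.map N.e ≤ T.E := by
    rintro _ ⟨⟨o, ho⟩, hoo, rfl⟩
    obtain ⟨a, ha⟩ := hsurj ⟨o, hoo⟩
    rw [QuotientGroup.eq, hZ] at ha
    simp only [d, Subgroup.coe_mul, Subgroup.coe_inv] at ha
    have hd : N.e ⟨(a : Cfsg.Spor.J4) * (wJ * (a : Cfsg.Spor.J4)⁻¹ * (wJ)⁻¹),
        hoHJ (mul_mem a.2 (hnorm _ (inv_mem a.2)))⟩ ∈ T.E := by
      obtain ⟨e, he, c, hc, hec⟩ :=
        (Shape.inner_iff (hmapT _ (hle a.2))).1 (hinner _ a.2 (hoHJ a.2))
      have e1 : N.e ⟨(a : Cfsg.Spor.J4) * (wJ * (a : Cfsg.Spor.J4)⁻¹ * (wJ)⁻¹),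
          hoHJ (mul_mem a.2 (hnorm _ (inv_mem a.2)))⟩ =
          N.e ⟨a, hoHJ a.2⟩ * y * (N.e ⟨a, hoHJ a.2⟩)⁻¹ * y⁻¹ := by
        rw [hy, ← map_inv, ← map_inv, ← map_mul, ← map_mul, ← map_mul]
        refine congrArg N.e (Subtype.ext ?_)
        simp [mul_assoc]
      rw [e1, hec, hk]
      have hcp : Commute c (T.p ^ k) := (show Commute c T.p from (T.mem_C.1 hc).2).pow_right k
      rw [show e * c * T.p ^ k * (e * c)⁻¹ * (T.p ^ k)⁻¹ =
        e * (c * T.p ^ k * c⁻¹ * e⁻¹ * (T.p ^ k)⁻¹) by group, mul_inv_eq_iff_eq_mul.2 hcp.eq]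
      exact mul_mem he (T.conj_mem (T.p_pow_mem k) (inv_mem he))
    rcases ha with e | e <;> rw [inv_mul_eq_iff_eq_mul] at e
    · convert hd using 2
      rw [mul_one] at e
      exact Subtype.ext e
    · have := mul_mem hd (show N.e ⟨zJ, hzH⟩ ∈ T.E by rw [hzT]; exact T.sub.z_mem)
      rw [← map_mul] at this
      convert this using 2
      exact Subtype.ext e
  rw [← hTE]
  refine Subgroup.eq_of_le_of_card_ge himage ?_
  rw [T.card_E, Subgroup.card_map_of_injective N.inj,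
    Nat.card_congr (Subgroup.subgroupOfEquivOfLe hoHJ).toEquiv, hcard]

/-! ### (b) Elements of order five -/

/-- An element of order five of the centralizer is squared modulo `E` by one of order four modulo
`E` which commutes with `p`. -/
theorem exists_normalising_five (S : Shape G) {k : G} (hk : k ∈ S.H) (h5 : orderOf k = 5) :
    ∃ g ∈ S.C, g ^ 4 ∈ S.E ∧ g ^ 2 ∉ S.E ∧ g * k * g⁻¹ * (k ^ 2)⁻¹ ∈ S.E := by
  haveI : Fact (Nat.Prime 5) := ⟨by norm_num⟩
  have hki : S.Inner k := Shape.inner_of_odd hk (by rw [h5]; decide)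
  obtain ⟨e, he, c, hc, rfl⟩ := (Shape.inner_iff hk).1 hki
  have hcH := S.C_le_H hc
  haveI hN : (S.E.subgroupOf S.H).Normal := ⟨fun x hx g => S.conj_mem g.2 hx⟩
  let q := QuotientGroup.mk' (S.E.subgroupOf S.H)
  have q_one : ∀ {x : G} (hx : x ∈ S.H), q ⟨x, hx⟩ = 1 ↔ x ∈ S.E := fun hx =>
    (QuotientGroup.eq_one_iff _).trans Subgroup.mem_subgroupOf
  have hqk : q ⟨e * c, hk⟩ = q ⟨c, hcH⟩ := by
    rw [show (⟨e * c, hk⟩ : S.H) = ⟨e, S.E_le_H he⟩ * ⟨c, hcH⟩ from rfl, map_mul,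
      (q_one _).2 he, one_mul]
  have hc5 : c ^ 5 ∈ S.E := by
    refine (q_one (pow_mem hcH 5)).1 ?_
    rw [show (⟨c ^ 5, pow_mem hcH 5⟩ : S.H) = ⟨c, hcH⟩ ^ 5 from rfl, map_pow, ← hqk, ← map_pow,
      show (⟨e * c, hk⟩ : S.H) ^ 5 = 1 from Subtype.ext (by
        rw [SubmonoidClass.coe_pow, ← h5, pow_orderOf_eq_one]; rfl), map_one]
  have hc1 : S.bar c ≠ 1 := fun h1 => by
    obtain ⟨j, -, hj⟩ := Shape.eq_of_piv_eq_one hc ((Shape.bar_eq_one_iff (Shape.inner_of_C hc)).1 h1)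
    have hcE : c ∈ S.E := by
      have h6 : c ^ 6 ∈ S.E := by
        rcases hj with e | e <;> rw [e]
        · rw [← pow_mul, mul_comm, show 6 * j = 3 * (2 * j) by ring, pow_mul, S.p_pow_three, one_pow]
          exact one_mem _
        · rw [((show Commute S.p S.z from S.p_comm).symm.pow_right j).mul_pow, ← pow_mul, mul_comm j,
            show 6 * j = 3 * (2 * j) by ring, pow_mul S.p, S.p_pow_three, one_pow, mul_one]
          exact pow_mem S.sub.z_mem 6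
      have := mul_mem (inv_mem hc5) h6
      rwa [pow_succ _ 5, inv_mul_cancel_left] at this
    obtain ⟨n, hn⟩ := S.isPGroup_E ⟨e * c, mul_mem he hcE⟩
    have hpow : (e * c) ^ 2 ^ n = 1 := congrArg Subtype.val hn
    have := orderOf_dvd_of_pow_eq_one hpow
    rw [h5] at this
    exact absurd ((Nat.Prime.dvd_of_dvd_pow (by norm_num) this) : 5 ∣ 2) (by norm_num)
  have hb5 : orderOf (S.bar c) = 5 :=
    orderOf_eq_prime (by rw [← Shape.bar_pow hc, Shape.bar_E hc5]) hc1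
  obtain ⟨-, -, ⟨a, ha, ha4⟩, -⟩ := JFourSeven.exists_torus (Or.inl hb5)
  obtain ⟨g0, hg0, hga⟩ := Shape.exists_bar (S := S) a
  have ha4 := ha4 hb5
  set g := g0 ^ 9 with hgdef
  have hg : g ∈ S.C := pow_mem hg0 9
  have hgb : S.bar g = a := by
    rw [hgdef, Shape.bar_pow hg0, hga, show 9 = 4 * 2 + 1 by norm_num, pow_succ, pow_mul, ha4, one_pow,
      one_mul]
  refine ⟨g, hg, ?_, ?_, ?_⟩
  · have h1 : S.piv (g0 ^ 4) = 1 := by
      rw [← Shape.bar_eq_one_iff (Shape.inner_of_C (pow_mem hg0 4)), Shape.bar_pow hg0, hga, ha4]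
    rw [hgdef, ← pow_mul, mul_comm, pow_mul]
    obtain ⟨j, -, hj | hj⟩ := Shape.eq_of_piv_eq_one (pow_mem hg0 4) h1 <;> rw [hj]
    · rw [← pow_mul, show j * 9 = 3 * (3 * j) by ring, pow_mul, S.p_pow_three, one_pow]
      exact one_mem _
    · rw [((show Commute S.p S.z from S.p_comm).symm.pow_right j).mul_pow, ← pow_mul,
        show j * 9 = 3 * (3 * j) by ring, pow_mul S.p, S.p_pow_three, one_pow, mul_one]
      exact pow_mem S.sub.z_mem 9
  · intro h2
    have h := Shape.bar_E (S := S) h2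
    rw [Shape.bar_pow hg, hgb] at h
    have h4 : S.bar c ^ 4 = S.bar c := by
      calc S.bar c ^ 4 = (S.bar c ^ 2) ^ 2 := by rw [← pow_mul]
        _ = (a * S.bar c * a⁻¹) ^ 2 := by rw [ha]
        _ = a * S.bar c ^ 2 * a⁻¹ := conj_pow ..
        _ = a * (a * S.bar c * a⁻¹) * a⁻¹ := by rw [ha]
        _ = a ^ 2 * S.bar c * (a ^ 2)⁻¹ := by rw [pow_two]; group
        _ = S.bar c := by rw [h]; group
    rw [pow_succ] at h4
    have h3 := orderOf_dvd_of_pow_eq_one (mul_eq_right.1 h4)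
    rw [hb5] at h3
    norm_num at h3
  · set d := g * c * g⁻¹ with hd
    have hdC : d ∈ S.C := mul_mem (mul_mem hg hc) (inv_mem hg)
    obtain ⟨j, hj3, hj⟩ := Shape.eq_of_piv_eq_one
      (mul_mem (inv_mem (pow_mem hc 2)) hdC)
      ((Shape.bar_eq_one_iff (Shape.inner_of_C (mul_mem (inv_mem (pow_mem hc 2)) hdC))).1 (by
        rw [Shape.bar_mul (S.C_le_H (inv_mem (pow_mem hc 2))) (S.C_le_H hdC)
          (Shape.inner_of_C (inv_mem (pow_mem hc 2))) (Shape.inner_of_C hdC),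
          Shape.bar_inv (pow_mem hc 2), Shape.bar_pow hc, hd, Shape.bar_conj hg hc, hgb, ha,
          inv_mul_cancel]))
    -- modulo `E` the error is killed by the fifth power
    have hgH := S.C_le_H hg
    have hqd : q ⟨d, S.C_le_H hdC⟩ = q ⟨c, hcH⟩ ^ 2 * q ⟨S.p, S.p_mem_H⟩ ^ j := by
      rw [← map_pow, ← map_pow, ← map_mul]
      rcases hj with e | e <;> rw [inv_mul_eq_iff_eq_mul] at e
      · exact congrArg q (Subtype.ext e)
      · rw [show (⟨d, S.C_le_H hdC⟩ : S.H) =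
          ⟨c, hcH⟩ ^ 2 * (⟨S.z, S.z_mem_H⟩ * ⟨S.p, S.p_mem_H⟩ ^ j) from Subtype.ext e, map_mul,
          map_mul, (q_one _).2 S.sub.z_mem, one_mul, ← map_mul]
    have hcp : Commute (q ⟨c, hcH⟩) (q ⟨S.p, S.p_mem_H⟩) :=
      Commute.map (Subtype.ext (S.mem_C.1 hc).2 : (⟨c, hcH⟩ : S.H) * ⟨S.p, S.p_mem_H⟩ = _ * _) q
    have hqc5 : q ⟨c, hcH⟩ ^ 5 = 1 := by
      rw [← map_pow]
      exact (q_one (pow_mem hcH 5)).2 hc5
    have hp5 : q ⟨S.p, S.p_mem_H⟩ ^ (j * 5) = 1 := by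
      have h := congrArg (fun u => u ^ 5) hqd
      rw [((hcp.pow_left 2).pow_right j).mul_pow, ← pow_mul _ 2 5, mul_comm 2 5, pow_mul _ 5 2, hqc5,
        one_pow, one_mul, ← pow_mul] at h
      rw [← h, ← map_pow]
      refine (q_one (pow_mem (S.C_le_H hdC) 5)).2 ?_
      rw [hd, conj_pow]
      exact S.conj_mem hgH hc5
    have hj0 : j = 0 := by
      rw [← map_pow] at hp5
      have h := S.p_pow_mem_E ((q_one (S.p_pow_mem (j * 5))).1 hp5)
      have h3 := orderOf_dvd_of_pow_eq_one h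
      rw [S.p3] at h3
      omega
    refine (q_one (mul_mem (mul_mem (mul_mem hgH hk) (inv_mem hgH)) (inv_mem (pow_mem hk 2)))).1 ?_
    have e2 : (⟨g * (e * c) * g⁻¹ * ((e * c) ^ 2)⁻¹, mul_mem (mul_mem (mul_mem hgH hk) (inv_mem hgH))
        (inv_mem (pow_mem hk 2))⟩ : S.H) =
        ⟨g, hgH⟩ * ⟨e * c, hk⟩ * (⟨g, hgH⟩)⁻¹ * ((⟨e * c, hk⟩ : S.H) ^ 2)⁻¹ := rfl
    rw [e2, map_mul, map_mul, map_mul, map_inv, map_inv, map_pow, hqk, ← map_inv, ← map_mul,
      ← map_mul, show (⟨g, hgH⟩ : S.H) * ⟨c, hcH⟩ * (⟨g, hgH⟩)⁻¹ = ⟨d, S.C_le_H hdC⟩ from rfl, hqd,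
      hj0, pow_zero, mul_one, mul_inv_cancel]

/-! ### (c) Inner elements modulo `E` -/

/-- An element commuting with `p` modulo `E` which squares into `E` has rank four outside it. -/
theorem rank_four (S : Shape G) {g : G} (hg : g ∈ S.H) (hp : g * S.p * g⁻¹ * S.p⁻¹ ∈ S.E)
    (h2 : g ^ 2 ∈ S.E) (hne : g ∉ S.E) : S.rk g = 4 :=
  Shape.rk_eq_four hg ((inner_iff_comm_mod_E hg).2 hp) (pow_two g ▸ h2) hne

/-- An element commuting with `p` modulo `E` has small order modulo `E`. -/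
theorem exists_pow_mem (S : Shape G) {g : G} (hg : g ∈ S.H) (hp : g * S.p * g⁻¹ * S.p⁻¹ ∈ S.E) :
    ∃ m ∈ [12, 15, 18, 21, 24, 33], g ^ m ∈ S.E := by
  have hi := (inner_iff_comm_mod_E hg).2 hp
  obtain ⟨m, hm, hdvd⟩ := orders_M22 (S.bar g)
  refine ⟨m, hm, ?_⟩
  obtain ⟨e, he, c, hc, rfl⟩ := (Shape.inner_iff hg).1 hi
  have hbar : S.bar (e * c) = S.bar c := Shape.bar_mul_E he (S.C_le_H hc) (Shape.inner_of_C hc)
  rw [hbar] at hdvd
  obtain ⟨r, hr⟩ := hdvd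
  set o := orderOf (S.bar c) with ho
  have h1 : S.piv (c ^ o) = 1 := by
    rw [← Shape.bar_eq_one_iff (Shape.inner_of_C (pow_mem hc _)), Shape.bar_pow hc, ho,
      pow_orderOf_eq_one]
  have hcm : c ^ m ∈ S.E := by
    rw [hr, show 3 * o * r = o * (3 * r) by ring, pow_mul, pow_mul]
    refine pow_mem ?_ r
    obtain ⟨j, -, hj | hj⟩ := Shape.eq_of_piv_eq_one (pow_mem hc o) h1 <;> rw [hj]
    · rw [← pow_mul, mul_comm, pow_mul, S.p_pow_three, one_pow]
      exact one_mem _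
    · rw [((show Commute S.p S.z from S.p_comm).symm.pow_right j).mul_pow, ← pow_mul, mul_comm j,
        pow_mul S.p, S.p_pow_three, one_pow, mul_one]
      exact pow_mem S.sub.z_mem 3
  haveI hN : (S.E.subgroupOf S.H).Normal := ⟨fun x hx g => S.conj_mem g.2 hx⟩
  let q := QuotientGroup.mk' (S.E.subgroupOf S.H)
  have h : q ((⟨e, S.E_le_H he⟩ * ⟨c, S.C_le_H hc⟩) ^ m) = 1 := by
    rw [map_pow, map_mul, show q ⟨e, S.E_le_H he⟩ = 1 from (QuotientGroup.eq_one_iff _).2 he, one_mul,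
      ← map_pow]
    exact (QuotientGroup.eq_one_iff _).2 hcm
  exact Subgroup.mem_subgroupOf.1 ((QuotientGroup.eq_one_iff
    (N := S.E.subgroupOf S.H) ((⟨e, S.E_le_H he⟩ * ⟨c, S.C_le_H hc⟩ : S.H) ^ m)).1 h)

/-! ### (d) Small centralizers -/

/-- Only `⟨z⟩` centralises `E`. -/
theorem inf_centralizer_E (S : Shape G) :
    S.H ⊓ Subgroup.centralizer (S.E : Set G) = Subgroup.zpowers S.z := by
  refine le_antisymm (fun x hx => ?_) (Subgroup.zpowers_le.2 ⟨S.z_mem_H,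
    Subgroup.mem_centralizer_iff.2 fun y hy => S.sub.z_comm hy⟩)
  rcases S.sub.mem_of_commutes (fun y hy => Subgroup.mem_centralizer_iff.1 hx.2 y hy) with e | e <;>
    rw [e]
  · exact one_mem _
  · exact Subgroup.mem_zpowers _

/-- An element of the centralizer fixing a hyperplane of `E` lies in the double centralizer. -/
theorem mem_of_fix_hyperplane (S : Shape G) {e h : G} (he : e ∈ S.E) (he1 : e ≠ 1) (hez : e ≠ S.z)
    (hh : h ∈ S.H) (hc : ∀ x ∈ S.E, x * e = e * x → x * h = h * x) :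
    h = 1 ∨ h = S.z ∨ h = e ∨ h = S.z * e := by
  by_cases hE : h ∈ S.E
  · exact S.sub.mem_double_centralizer he he1 hez hE hc
  exfalso
  -- the fixed space has codimension at most one
  have key : ∀ m ∈ S.H, (∀ x ∈ S.E, x * e = e * x → x * m = m * x) →
      11 ≤ finrank (ZMod 2) (LinearMap.ker (nMap (S.cj m))) := by
    intro m hm hmc
    have hle : S.space.orth (Submodule.span (ZMod 2) {S.pr e}) ≤
        LinearMap.ker (nMap (S.cj m)) := by
      intro v hv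
      obtain ⟨x, hx, rfl⟩ := Shape.pr_surj v
      have hB := S.space.mem_orth'.1 hv _ (Submodule.mem_span_singleton_self _)
      rw [mem_ker_nMap, S.cj_pr hm hx,
        mul_inv_eq_iff_eq_mul.2 (hmc x hx ((Shape.space_B_eq_zero hx he).1 hB)).symm]
    have h1 := S.space.finrank_orth (Submodule.span (ZMod 2) {S.pr e})
    have h2 : finrank (ZMod 2) (Submodule.span (ZMod 2) {S.pr e}) = 1 :=
      finrank_span_singleton fun h0 => ((Shape.pr_eq_zero he).1 h0).elim he1 hez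
    have := Submodule.finrank_mono hle
    omega
  have small : ∀ m ∈ S.H, S.Inner m → 11 ≤ finrank (ZMod 2) (LinearMap.ker (nMap (S.cj m))) →
      m ∈ S.E := by
    intro m hm hi h11
    by_contra hne
    have hsum := (nMap (S.cj m)).finrank_range_add_finrank_ker
    rw [S.space.dim] at hsum
    obtain ⟨k, hk⟩ := Shape.even_rk hm hi
    have h0 := Shape.rk_ne_zero hm hne
    rw [Shape.rk] at hk h0
    omega
  by_cases hi : S.Inner h
  · exact hE (small h hh hi (key h hh hc))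
  · have h2 : h * h ∈ S.E := small _ (mul_mem hh hh) (Shape.inner_sq hh)
      (key _ (mul_mem hh hh) fun x hx hxe =>
        ((show Commute x h from hc x hx hxe).mul_right (hc x hx hxe)).eq)
    have h6 := Shape.finrank_ker_outer hh hi h2
    have := key h hh hc
    omega

end CfsgLib.JFourAmalgam
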