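import Cfsg.Agent.JFourAmalgam.Cert
import Cfsg.Agent.JFourAmalgam.CertData
import Cfsg.Agent.JFourAmalgam.GSide

/-!
# Coordinates on the extraspecial subgroup of the centralizer pulled back from the model

`oBasis` gives coordinates on `E / Z(E)` through an identification of `HJ` with a subgroup of `G`.
In these coordinates the squaring map is `quadJ`, and conjugation gives a homomorphism of the
centralizer into the matrices of size twelve, matching the tables of the model.
-/

set_option autoImplicit false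
set_option linter.style.haveILetI false
set_option linter.unusedSectionVars false

namespace CfsgLib.JFourAmalgam.Cert

open CfsgLib.JankoFour CfsgLib.Mathieu CfsgLib.JFourType Module Matrix

/-- Equality up to the central involution of the model. -/
def ModZ (a b : Cfsg.Spor.J4) : Prop := a = b ∨ a = zJ * b

/-- The product of the basis elements selected by a number. -/
def selProd (n : ℕ) : Cfsg.Spor.J4 :=
  ((List.range 12).map fun i => if n.testBit i then oBasis i else 1).prod

/-- The facts on the model used for the action of `t`. -/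
structure ActFacts : Prop where
  oJ_le : oJ ≤ pJ
  card_oJ : Nat.card oJ = 2 ^ 13
  norm : ∀ d ∈ dJ, ∀ q ∈ oJ, d * q * d⁻¹ ∈ oJ
  pElem_mem : ∀ k < 16, pElem k ∈ pJ
  three_mem : HBound.wv threeWord ∈ pJ
  three_order : orderOf (HBound.wv threeWord) = 3
  three_sylow : ∃ R : Subgroup Cfsg.Spor.J4, R ≤ pJ ∧ Nat.card R = 27 ∧ HBound.wv threeWord ∈ R ∧
    ∀ r ∈ R, HBound.wv threeWord * r = r * HBound.wv threeWord
  t_comm : tJ * zJ = zJ * tJ
  five_pow : pProd fiveWord ^ 10 = 1
  square : ∀ i < 12, oBasis i * oBasis i = 1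
  comm : ∀ i < 12, ∀ j < 12, i < j → oBasis i * oBasis j * (oBasis i)⁻¹ * (oBasis j)⁻¹ =
    if (qUpper.getD i 0).testBit j then zJ else 1
  tab_p : ∀ k < 16, ∀ i < 12,
    ModZ ((pElem k)⁻¹ * oBasis i * pElem k) (selProd ((pMats.getD k []).getD i 0))
  tab_three : ∀ i < 12,
    ModZ ((HBound.wv threeWord)⁻¹ * oBasis i * HBound.wv threeWord) (selProd (threeMat.getD i 0))
  tab_t : ∀ i < 12, ModZ (tJ⁻¹ * oBasis i * tJ) (selProd (tMat.getD i 0))

theorem qList_head : qList (oLists.getD 0 []) = zJ := rfl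

theorem qList_mem (k : ℕ) (hk : k < 7) : qList (oLists.getD k []) ∈ oJ :=
  Subgroup.subset_closure (Or.inl ⟨oLists.getD k [],
    (List.getD_eq_getElem _ _ (show k < oLists.length from hk)) ▸ List.getElem_mem _, rfl⟩)

theorem zJ_mem : zJ ∈ oJ := qList_head ▸ qList_mem 0 (by norm_num)

theorem oBasis_mem {i : ℕ} (hi : i < 12) : oBasis i ∈ oJ := by
  unfold oBasis
  split_ifs with h
  · exact qList_mem _ (by omega)
  · exact Subgroup.subset_closure (Or.inr ⟨oWords.getD (i - 6) [],
      (List.getD_eq_getElem _ _ (show i - 6 < oWords.length by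
        show i - 6 < 6; omega)) ▸ List.getElem_mem _, rfl⟩)

/-- The generators of `oJ` are `zJ` and the basis. -/
theorem oJ_eq : oJ = Subgroup.closure ({zJ} ∪ {a | ∃ i < 12, a = oBasis i}) := by
  refine le_antisymm ((Subgroup.closure_le _).2 ?_) ((Subgroup.closure_le _).2 ?_)
  · rintro a (⟨l, hl, rfl⟩ | ⟨w, hw, rfl⟩)
    · obtain ⟨k, hk, rfl⟩ := List.getElem_of_mem hl
      rw [show oLists[k] = oLists.getD k [] from (List.getD_eq_getElem _ _ hk).symm]
      rcases k with _ | k
      · exact Subgroup.subset_closure (Or.inl qList_head)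
      · have hk6 : k < 6 := by
          change k + 1 < 7 at hk
          omega
        exact Subgroup.subset_closure (Or.inr ⟨k, by omega, by rw [oBasis, if_pos hk6]⟩)
    · obtain ⟨k, hk, rfl⟩ := List.getElem_of_mem hw
      rw [show oWords[k] = oWords.getD k [] from (List.getD_eq_getElem _ _ hk).symm]
      change k < 6 at hk
      exact Subgroup.subset_closure (Or.inr ⟨k + 6, by omega, by
        rw [oBasis, if_neg (by omega), Nat.add_sub_cancel]⟩)
  · intro a ha
    rw [Set.mem_union, Set.mem_singleton_iff, Set.mem_ofPred_eq] at ha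
    rcases ha with e | ⟨i, hi, e⟩ <;> rw [e]
    · exact zJ_mem
    · exact oBasis_mem hi

theorem oJ_le_HJ (F : ActFacts) : oJ ≤ HJ := F.oJ_le.trans inf_le_left

theorem pJ_norm (F : ActFacts) {a : Cfsg.Spor.J4} (ha : a ∈ pJ) {q : Cfsg.Spor.J4} (hq : q ∈ oJ) :
    a⁻¹ * q * a ∈ oJ := by
  simpa using F.norm a⁻¹ (inv_mem (le_sup_left (b := Subgroup.zpowers tJ) ha : a ∈ dJ)) q hq

variable {G : Type*} [Group G] [Finite G]

/-- An identification of the model subgroup compatible with a shape. -/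
structure Frame (G : Type*) [Group G] [Finite G] where
  /-- the shape -/
  T : Shape G
  /-- the identification -/
  N : NMap G T.z
  facts : ActFacts
  map_o : (oJ.subgroupOf HJ).map N.e = T.E

namespace Frame

variable (A : Frame G)

/-- The map on `oJ`. -/
def eo : oJ →* G := A.N.e.comp (Subgroup.inclusion (oJ_le_HJ A.facts))

theorem eo_apply (q : oJ) (h : (q : Cfsg.Spor.J4) ∈ HJ) : A.eo q = A.N.e ⟨q, h⟩ := rfl

theorem eo_mem (q : oJ) : A.eo q ∈ A.T.E := by
  rw [← A.map_o]
  exact ⟨Subgroup.inclusion (oJ_le_HJ A.facts) q, q.2, rfl⟩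

theorem eo_surj {x : G} (hx : x ∈ A.T.E) : ∃ q : oJ, A.eo q = x := by
  rw [← A.map_o] at hx
  obtain ⟨⟨h, hh⟩, hho, rfl⟩ := hx
  exact ⟨⟨h, hho⟩, rfl⟩

theorem eo_inj : Function.Injective A.eo :=
  A.N.inj.comp (Subgroup.inclusion_injective _)

/-- The central involution in `oJ`. -/
def zO : oJ := ⟨zJ, zJ_mem⟩

theorem eo_z : A.eo zO = A.T.z := A.N.map_z _

/-- The basis in `oJ`. -/
def bO (i : ℕ) : oJ := if h : i < 12 then ⟨oBasis i, oBasis_mem h⟩ else 1

theorem coe_bO {i : ℕ} (hi : i < 12) : (bO i : Cfsg.Spor.J4) = oBasis i := by rw [bO, dif_pos hi]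

/-- The selected product in `oJ`. -/
def selO (n : ℕ) : oJ := ((List.range 12).map fun i => if n.testBit i then bO i else 1).prod

theorem coe_selO (n : ℕ) : (selO n : Cfsg.Spor.J4) = selProd n := by
  rw [selO, selProd, show (((List.range 12).map fun i => if n.testBit i then bO i else 1).prod :
    Cfsg.Spor.J4) = oJ.subtype (((List.range 12).map fun i => if n.testBit i then bO i else 1).prod)
    from rfl, map_list_prod, List.map_map]
  refine congrArg List.prod (List.map_congr_left fun i hi => ?_)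
  simp only [Function.comp_apply, Subgroup.coe_subtype]
  split_ifs
  · exact coe_bO (List.mem_range.1 hi)
  · rfl

/-- The vector of an element of `oJ`. -/
noncomputable def pc (q : oJ) : A.T.Vec := A.T.pr (A.eo q)

theorem pc_mul (q r : oJ) : A.pc (q * r) = A.pc q + A.pc r := by
  rw [pc, map_mul, Shape.pr_mul (A.eo_mem q) (A.eo_mem r), pc, pc]

theorem pc_one : A.pc 1 = 0 := by rw [pc, map_one, Shape.pr_one]

theorem pc_inv (q : oJ) : A.pc q⁻¹ = A.pc q := by
  rw [pc, map_inv, Shape.pr_inv (A.eo_mem q), pc]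

theorem pc_z : A.pc zO = 0 := by rw [pc, eo_z, Shape.pr_z]

/-- The linear map given by the basis. -/
noncomputable def phiMap : V12 →ₗ[ZMod 2] A.T.Vec :=
  Fintype.linearCombination (ZMod 2) fun i : Fin 12 => A.pc (bO i)

theorem phiMap_single (i : Fin 12) : A.phiMap (Pi.single i 1) = A.pc (bO i) := by
  rw [phiMap, Fintype.linearCombination_apply, Finset.sum_eq_single i]
  · rw [Pi.single_eq_same, one_smul]
  · intro j _ hj
    rw [Pi.single_eq_of_ne hj, zero_smul]
  · exact fun h => absurd (Finset.mem_univ i) h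

theorem pc_mem_range (q : oJ) : A.pc q ∈ LinearMap.range A.phiMap := by
  obtain ⟨q, hq⟩ := q
  have hq' := hq
  rw [oJ_eq] at hq'
  induction hq' using Subgroup.closure_induction with
  | mem a ha =>
    rw [Set.mem_union, Set.mem_singleton_iff, Set.mem_ofPred_eq] at ha
    rcases ha with e | ⟨i, hi, e⟩
    · rw [show (⟨a, hq⟩ : oJ) = zO from Subtype.ext e, pc_z]
      exact zero_mem _
    · refine ⟨Pi.single ⟨i, hi⟩ 1, ?_⟩
      rw [phiMap_single]
      exact congrArg A.pc (Subtype.ext ((coe_bO hi).trans e.symm))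
  | one => rw [show (⟨1, hq⟩ : oJ) = 1 from rfl, pc_one]; exact zero_mem _
  | mul a b ha hb iha ihb =>
    have ha' : a ∈ oJ := by rw [oJ_eq]; exact ha
    have hb' : b ∈ oJ := by rw [oJ_eq]; exact hb
    rw [show (⟨a * b, hq⟩ : oJ) = ⟨a, ha'⟩ * ⟨b, hb'⟩ from rfl, pc_mul]
    exact add_mem (iha ha') (ihb hb')
  | inv a ha iha =>
    have ha' : a ∈ oJ := by rw [oJ_eq]; exact ha
    rw [show (⟨a⁻¹, hq⟩ : oJ) = ⟨a, ha'⟩⁻¹ from rfl, pc_inv]
    exact iha ha'

theorem phiMap_surjective : Function.Surjective A.phiMap := fun v => by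
  obtain ⟨x, hx, rfl⟩ := Shape.pr_surj v
  obtain ⟨q, rfl⟩ := A.eo_surj hx
  exact A.pc_mem_range q

theorem phiMap_bijective : Function.Bijective A.phiMap :=
  ⟨(LinearMap.injective_iff_surjective_of_finrank_eq_finrank
    (by rw [Shape.finrank_vec, finrank_fin_fun])).2 A.phiMap_surjective, A.phiMap_surjective⟩

/-- The coordinates. -/
noncomputable def phi : V12 ≃ₗ[ZMod 2] A.T.Vec := LinearEquiv.ofBijective A.phiMap A.phiMap_bijective

theorem phi_apply (v : V12) : A.phi v = A.phiMap v := rfl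

/-- The coordinates of an element of `oJ`. -/
noncomputable def co (q : oJ) : V12 := A.phi.symm (A.pc q)

theorem phi_co (q : oJ) : A.phi (A.co q) = A.pc q := A.phi.apply_symm_apply _

theorem co_mul (q r : oJ) : A.co (q * r) = A.co q + A.co r := by
  rw [co, pc_mul, map_add, co, co]

theorem co_one : A.co 1 = 0 := by rw [co, pc_one, map_zero]

theorem co_inv (q : oJ) : A.co q⁻¹ = A.co q := by rw [co, pc_inv, co]

theorem co_z : A.co zO = 0 := by rw [co, pc_z, map_zero]

theorem co_bO (i : Fin 12) : A.co (bO i) = Pi.single i 1 := by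
  rw [co, ← phiMap_single, ← phi_apply, LinearEquiv.symm_apply_apply]

theorem co_selO (n : ℕ) : A.co (selO n) = toV n := by
  have h : ∀ L : List oJ, A.co L.prod = (L.map A.co).sum := by
    intro L
    induction L with
    | nil => exact A.co_one
    | cons a L ih => rw [List.prod_cons, co_mul, ih, List.map_cons, List.sum_cons]
  rw [selO, h, List.map_map, show ((List.range 12).map
    (A.co ∘ fun i => if n.testBit i then bO i else 1)).sum =
      ∑ i ∈ Finset.range 12, A.co (if n.testBit i then bO i else 1) from rfl, Finset.sum_range]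
  funext j
  rw [Finset.sum_apply, Finset.sum_eq_single j]
  · rw [toV_apply, bz]
    split_ifs with hb
    · rw [co_bO, Pi.single_eq_same]
    · rw [co_one, Pi.zero_apply]
  · intro i _ hi
    split_ifs
    · rw [co_bO, Pi.single_eq_of_ne hi.symm]
    · rw [co_one, Pi.zero_apply]
  · exact fun h' => absurd (Finset.mem_univ j) h'

theorem co_modZ {q : oJ} {n : ℕ} (h : ModZ (q : Cfsg.Spor.J4) (selProd n)) : A.co q = toV n := by
  rcases h with e | e
  · rw [show q = selO n from Subtype.ext (e.trans (coe_selO n).symm), co_selO]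
  · rw [show q = zO * selO n from Subtype.ext (by rw [e, Subgroup.coe_mul, coe_selO]; rfl), co_mul,
      co_z, co_selO, zero_add]

/-- An endomorphism acts by a matrix once it does so on the basis. -/
theorem co_endo {M : M12} (σ : oJ →* oJ) (hz : σ zO = zO)
    (hb : ∀ i : Fin 12, A.co (σ (bO i)) = M i) (q : oJ) : A.co (σ q) = Matrix.vecMul (A.co q) M := by
  obtain ⟨q, hq⟩ := q
  have hq' := hq
  rw [oJ_eq] at hq'
  induction hq' using Subgroup.closure_induction with
  | mem a ha =>
    rw [Set.mem_union, Set.mem_singleton_iff, Set.mem_ofPred_eq] at ha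
    rcases ha with e | ⟨i, hi, e⟩
    · rw [show (⟨a, hq⟩ : oJ) = zO from Subtype.ext e, hz, co_z, Matrix.zero_vecMul]
    · rw [show (⟨a, hq⟩ : oJ) = bO (⟨i, hi⟩ : Fin 12) from Subtype.ext (e.trans (coe_bO hi).symm), hb,
        co_bO, Matrix.single_one_vecMul]
      rfl
  | one => rw [show (⟨1, hq⟩ : oJ) = 1 from rfl, map_one, co_one, Matrix.zero_vecMul]
  | mul a b ha hb' iha ihb =>
    have ha' : a ∈ oJ := by rw [oJ_eq]; exact ha
    have hb'' : b ∈ oJ := by rw [oJ_eq]; exact hb'
    rw [show (⟨a * b, hq⟩ : oJ) = ⟨a, ha'⟩ * ⟨b, hb''⟩ from rfl, map_mul, co_mul, co_mul,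
      Matrix.add_vecMul, iha ha', ihb hb'']
  | inv a ha iha =>
    have ha' : a ∈ oJ := by rw [oJ_eq]; exact ha
    rw [show (⟨a⁻¹, hq⟩ : oJ) = ⟨a, ha'⟩⁻¹ from rfl, map_inv, co_inv, co_inv]
    exact iha ha'

/-! ### The squaring map -/

theorem upper_facts (i j : Fin 12) (h : j ≤ i) : toM qUpper i j = 0 := by
  have key : ∀ i j : Fin 12, j ≤ i → (qUpper.getD i.val 0).testBit j.val = false := by decide +kernel
  rw [toM_apply, bz, key i j h, if_neg (by simp)]

/-- The forms agree. -/
theorem B_phi (v w : V12) :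
    A.T.space.B (A.phi v) (A.phi w) = v ⬝ᵥ ((toM qUpper + (toM qUpper)ᵀ) *ᵥ w) := by
  have key : A.T.space.B.compl₁₂ A.phi.toLinearMap A.phi.toLinearMap =
      Matrix.toLinearMap₂' (ZMod 2) (toM qUpper + (toM qUpper)ᵀ) := by
    have lt_case : ∀ i j : Fin 12, i < j →
        A.T.space.B (A.pc (bO i)) (A.pc (bO j)) = toM qUpper i j := by
      intro i j hij
      rw [pc, pc, Shape.space_B (A.eo_mem _) (A.eo_mem _), ← map_inv, ← map_inv, ← map_mul, ← map_mul,
        ← map_mul]
      have hc := A.facts.comm i i.isLt j j.isLt hij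
      rw [toM_apply, bz]
      split_ifs with hb <;> rw [show (qUpper.getD i.val 0).testBit j.val = _ from rfl] at hc
      · rw [show bO (i : ℕ) * bO (j : ℕ) * (bO (i : ℕ))⁻¹ * (bO (j : ℕ))⁻¹ = zO from Subtype.ext (by
            simp only [Subgroup.coe_mul, Subgroup.coe_inv, coe_bO i.isLt, coe_bO j.isLt]
            rw [hc, if_pos hb]; rfl), eo_z, Shape.zc_z]
      · rw [show bO (i : ℕ) * bO (j : ℕ) * (bO (i : ℕ))⁻¹ * (bO (j : ℕ))⁻¹ = 1 from Subtype.ext (by
            simp only [Subgroup.coe_mul, Subgroup.coe_inv, coe_bO i.isLt, coe_bO j.isLt]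
            rw [hc, if_neg hb]; rfl), map_one, Shape.zc_one]
    refine LinearMap.ext_basis (Pi.basisFun (ZMod 2) (Fin 12)) (Pi.basisFun (ZMod 2) (Fin 12))
      fun i j => ?_
    rw [Pi.basisFun_apply, Pi.basisFun_apply, Matrix.toLinearMap₂'_apply', Matrix.mulVec_single_one,
      single_one_dotProduct, LinearMap.compl₁₂_apply, LinearEquiv.coe_coe, phi_apply, phi_apply,
      phiMap_single, phiMap_single]
    show _ = toM qUpper i j + toM qUpper j i
    rcases lt_trichotomy i j with h | h | h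
    · rw [lt_case i j h, upper_facts j i h.le, add_zero]
    · subst h
      rw [A.T.space.alt, upper_facts i i le_rfl, add_zero]
    · rw [A.T.space.symm, lt_case j i h, upper_facts i j h.le, zero_add]
  have := LinearMap.congr_fun₂ key v w
  rwa [Matrix.toLinearMap₂'_apply'] at this

/-- The squaring map is `quadJ`. -/
theorem q_phi (v : V12) : A.T.space.q (A.phi v) = quadJ v := by
  let f : V12 → ZMod 2 := fun v => A.T.space.q (A.phi v) + quadJ v
  have hadd : ∀ v w, f (v + w) = f v + f w := by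
    intro v w
    simp only [f, map_add, A.T.space.q_add, B_phi, quadJ]
    rw [Matrix.add_vecMul, dotProduct_add, add_dotProduct, add_dotProduct, Matrix.add_mulVec,
      dotProduct_add, show v ⬝ᵥ ((toM qUpper)ᵀ *ᵥ w) = v ⬝ᵥ (w ᵥ* toM qUpper) by
        rw [Matrix.mulVec_transpose],
      show v ⬝ᵥ (toM qUpper *ᵥ w) = w ⬝ᵥ (v ᵥ* toM qUpper) by
        rw [dotProduct_mulVec, dotProduct_comm]]
    generalize A.T.space.q (A.phi v) = a
    generalize A.T.space.q (A.phi w) = b
    generalize v ⬝ᵥ (v ᵥ* toM qUpper) = c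
    generalize w ⬝ᵥ (w ᵥ* toM qUpper) = d
    generalize v ⬝ᵥ (w ᵥ* toM qUpper) = g
    generalize w ⬝ᵥ (v ᵥ* toM qUpper) = h
    revert a b c d g h
    decide
  let F : V12 →+ ZMod 2 := AddMonoidHom.mk' f hadd
  have hF : F.toZModLinearMap 2 = 0 := by
    refine (Pi.basisFun (ZMod 2) (Fin 12)).ext fun i => ?_
    show f (Pi.basisFun (ZMod 2) (Fin 12) i) = 0
    simp only [f, Pi.basisFun_apply, quadJ, Matrix.single_one_vecMul, single_one_dotProduct,
      phi_apply, phiMap_single, pc, Shape.space_q (A.eo_mem _)]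
    rw [← map_mul, show bO (i : ℕ) * bO (i : ℕ) = 1 from Subtype.ext (by
      simp only [Subgroup.coe_mul, coe_bO i.isLt]; exact A.facts.square i i.isLt), map_one,
      Shape.zc_one, zero_add, Matrix.row_apply, upper_facts i i le_rfl]
  have h : f v = 0 := LinearMap.congr_fun hF v
  simp only [f] at h
  revert h
  generalize A.T.space.q (A.phi v) = a
  generalize quadJ v = b
  revert a b
  decide

/-! ### The matrices of the centralizer -/

/-- The matrix of an element, acting on rows from the right. -/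
noncomputable def mat (u : G) : M12 :=
  (LinearMap.toMatrix'
    (A.phi.symm.toLinearMap ∘ₗ (A.T.cj u⁻¹).toLinearMap ∘ₗ A.phi.toLinearMap))ᵀ

theorem vecMul_mat (u : G) (v : V12) :
    Matrix.vecMul v (A.mat u) = A.phi.symm (A.T.cj u⁻¹ (A.phi v)) := by
  rw [mat, Matrix.vecMul_transpose, LinearMap.toMatrix'_mulVec]
  rfl

theorem ext_vecMul {M M' : M12} (h : ∀ i, Matrix.vecMul (Pi.single i 1) M = Matrix.vecMul (Pi.single i 1) M') :
    M = M' := by
  ext i j
  have := congrFun (h i) j
  rwa [Matrix.single_one_vecMul, Matrix.single_one_vecMul] at this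

theorem mat_mul {u v : G} (hu : u ∈ A.T.H) (hv : v ∈ A.T.H) : A.mat (u * v) = A.mat u * A.mat v :=
  ext_vecMul fun i => by
    rw [← Matrix.vecMul_vecMul, vecMul_mat, vecMul_mat, vecMul_mat, _root_.mul_inv_rev,
      A.T.cj_mul (inv_mem hv) (inv_mem hu), LinearEquiv.apply_symm_apply]

theorem mat_one : A.mat 1 = 1 := ext_vecMul fun i => by
  rw [vecMul_mat, Matrix.vecMul_one, inv_one, Shape.cj_one, LinearEquiv.symm_apply_apply]

/-- The matrices as a homomorphism. -/
noncomputable def matHom : A.T.H →* M12 where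
  toFun u := A.mat u
  map_one' := A.mat_one
  map_mul' u v := A.mat_mul u.2 v.2

theorem mat_E {x : G} (hx : x ∈ A.T.E) : A.mat x = 1 := ext_vecMul fun i => by
  rw [vecMul_mat, Matrix.vecMul_one, A.T.cj_E (inv_mem hx), LinearEquiv.symm_apply_apply]

theorem mat_eq_one {u : G} (hu : u ∈ A.T.H) (h : A.mat u = 1) : u ∈ A.T.E := by
  by_contra hne
  refine Shape.rk_ne_zero (inv_mem hu) (fun h' => hne (by simpa using inv_mem h')) ?_
  have h0 : nMap (A.T.cj u⁻¹) = 0 := by
    refine LinearMap.ext fun x => ?_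
    obtain ⟨v, rfl⟩ := A.phi.surjective x
    rw [nMap_apply, LinearMap.zero_apply, ← A.phi.apply_symm_apply (A.T.cj u⁻¹ (A.phi v)),
      ← vecMul_mat, h, Matrix.vecMul_one, ← map_add, show v + v = 0 from
        funext fun j => CharTwo.add_self_eq_zero _, map_zero]
  rw [Shape.rk, h0, LinearMap.range_zero, finrank_bot]

theorem rank_mat (u : G) : (A.mat u + 1).rank = A.T.rk u⁻¹ := by
  have e : A.mat u + 1 = (LinearMap.toMatrix'
      (A.phi.symm.toLinearMap ∘ₗ nMap (A.T.cj u⁻¹) ∘ₗ A.phi.toLinearMap))ᵀ := ext_vecMul fun i => by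
    rw [Matrix.vecMul_add, vecMul_mat, Matrix.vecMul_one, Matrix.vecMul_transpose,
      LinearMap.toMatrix'_mulVec]
    show _ = A.phi.symm (A.T.cj u⁻¹ (A.phi _) + A.phi _)
    rw [map_add, LinearEquiv.symm_apply_apply]
  rw [e, Matrix.rank_transpose, Matrix.rank, ← Matrix.toLin'_apply', Matrix.toLin'_toMatrix',
    Shape.rk, LinearMap.range_comp, LinearMap.range_comp, LinearEquiv.range, Submodule.map_top]
  exact LinearEquiv.finrank_map_eq A.phi.symm _

theorem quad_mat {u : G} (hu : u ∈ A.T.H) (v : V12) : quadJ (Matrix.vecMul v (A.mat u)) = quadJ v := by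
  rw [← q_phi A, ← q_phi A, vecMul_mat, LinearEquiv.apply_symm_apply]
  exact Shape.qf_cj (inv_mem hu) _

/-- The rows are the coordinates of the conjugates. -/
theorem mat_row {u : G} (hu : u ∈ A.T.H) (i : Fin 12) (q : oJ) (hq : A.eo q = u⁻¹ * A.eo (bO i) * u) :
    A.mat u i = A.co q := by
  rw [← Matrix.row_apply' (A := A.mat u), ← Matrix.single_one_vecMul, vecMul_mat, phi_apply,
    phiMap_single, co, pc, pc, A.T.cj_pr (inv_mem hu) (A.eo_mem _), hq, inv_inv]

theorem eN_mem {a : Cfsg.Spor.J4} (ha : a ∈ pJ) : A.N.e ⟨a, ha.1⟩ ∈ A.T.H := by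
  have hz : zJ ∈ HJ := oJ_le_HJ A.facts zJ_mem
  have hc : a * zJ = zJ * a :=
    Subgroup.mem_centralizer_singleton_iff.1 (Subgroup.mem_inf.1 ha).2
  let a' : HJ := ⟨a, ha.1⟩
  let z' : HJ := ⟨zJ, hz⟩
  have hc' : a' * z' = z' * a' := Subtype.ext hc
  have h : A.N.e a' * A.N.e z' = A.N.e z' * A.N.e a' := by
    rw [← map_mul, ← map_mul, hc']
  rw [show A.N.e z' = A.T.z from A.N.map_z hz] at h
  exact (A.T.mem_H).2 h

/-- The matrix of an element of `pJ` from its table. -/
theorem mat_table {a : Cfsg.Spor.J4} (ha : a ∈ pJ) {l : List ℕ}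
    (h : ∀ i < 12, ModZ (a⁻¹ * oBasis i * a) (selProd (l.getD i 0))) :
    A.mat (A.N.e ⟨a, ha.1⟩) = toM l := by
  ext i j
  let q : oJ := ⟨a⁻¹ * oBasis i * a, pJ_norm A.facts ha (oBasis_mem i.isLt)⟩
  rw [A.mat_row (A.eN_mem ha) i q ?_, co_modZ A (q := q) (h i i.isLt)]
  · rfl
  · rw [eo_apply A _ (oJ_le_HJ A.facts q.2), eo_apply A _ (oJ_le_HJ A.facts (bO i).2),
      ← map_inv, ← map_mul, ← map_mul]
    exact congrArg A.N.e (Subtype.ext (by simp [q, coe_bO i.isLt]))

end Frame

end CfsgLib.JFourAmalgam.Cert
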