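import Cfsg.Agent.JFourAmalgam.Defs
import Cfsg.Agent.JankoFourM24.Main

/-!
# The facts on the presented fourth Janko group
-/

set_option autoImplicit false

namespace CfsgLib.JFourAmalgam

open CfsgLib.JankoFour

theorem facts : Facts where
  card := card_eq
  inj := rep_inj
  faithful := JankoFourIndex.faithful JankoFourM24.model
  cardM := by rw [Nat.card_congr JankoFourM24.isoMSub.toEquiv, Mathieu.card_M24]
  cardH := by
    have := finite_group
    have h := Subgroup.index_mul_card JankoFourIndex.hSub
    rw [card_eq, index_eq, JankoFourIndex.hSub_eq_HJ] at h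
    omega

end CfsgLib.JFourAmalgam
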