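import Mathlib.Init

/-!
Words for the configuration of the two long relations in the presented fourth Janko group. The letters
are `0, 1, 2` for `x, y, y⁻¹`, `3` for `t` and `i + 4` for the basic involution `qJ i`.
-/

set_option autoImplicit false

namespace CfsgLib.JFourAmalgam.Words

/-- An element fixing `t`, for the first relation. -/
def l : List Nat :=
  [0, 1, 0, 1, 0, 2, 0, 2, 0, 1, 0, 1, 0, 1, 0]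

/-- An element fixing `t`, for the second relation. -/
def l2 : List Nat :=
  [1, 0, 1, 0, 2, 0, 2, 0, 1, 0, 1, 0, 1, 1, 0, 1, 0, 2, 0, 2, 0, 1, 0, 1, 0, 1, 0]

/-- The conjugator of the common vector of the three conjugates of the first relation. -/
def b : List Nat :=
  [0, 2, 0, 2, 0, 2, 0, 2, 0, 1, 0, 1, 0, 1, 0, 1, 0, 2, 0, 1, 0, 2, 0]

/-- The conjugator of the frame of the conjugate of `t` in the second relation. -/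
def c : List Nat :=
  [0, 2, 0, 2, 0, 2, 0, 1, 0, 1, 0, 1, 0, 1, 0]

/-- The conjugating word of the middle conjugate of `t`. -/
def T3 : List Nat :=
  [1, 0, 1, 1, 0, 1, 0]

/-- To the frame of the conjugate. -/
def n1 : List Nat :=
  [0, 2, 0, 2, 0, 1, 0, 2, 0, 1, 0, 2, 0, 2, 0, 2, 0, 2, 0, 2, 0, 2, 0, 1, 0, 1, 0, 1, 1, 0, 2]

/-- To the last frame. -/
def n2 : List Nat :=
  [0, 1, 0, 1, 0, 1, 0, 2, 0, 1, 0, 2, 0, 1, 0, 1, 0, 2, 0, 1, 0, 2, 0, 1, 0, 2, 0, 1, 0, 1, 0, 1, 0, 1, 0, 2,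
  0, 1, 0, 2, 0, 1, 0, 1, 0]

/-- From the frame of the conjugate to the last frame. -/
def n3 : List Nat :=
  [2, 0, 1, 0, 2, 0, 1, 0, 2, 0, 1, 0, 1, 0, 1, 0, 1, 0, 2, 0, 1, 0, 2, 0, 1, 0, 1, 0]

/-- Pieces in `pJ` and `t`, for the membership in `dJ`. -/
def hPieces : List (List Nat) :=
  [[4, 0, 2, 0, 2, 0, 1, 0, 2, 0, 1, 0, 2, 0, 2, 0, 2, 0], [3], [0, 1, 0, 1, 0, 1, 0, 2, 0, 1, 0, 2, 0, 1, 0, 1,
  0]]

/-- Pieces in `pJ` and `t`, for the membership in `dJ`. -/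
def hcPieces : List (List Nat) :=
  [[6, 7, 10, 11, 13], [3]]

/-- Pieces in `pJ` and `t`, for the membership in `dJ`. -/
def gPieces : List (List Nat) :=
  [[6, 7, 11, 12, 13, 1, 0, 2, 0, 2, 0, 1, 0, 2, 0, 1, 0, 2, 0, 1, 0, 1, 0, 2, 0, 2, 0, 1, 0, 2, 0, 1, 0, 2, 0,
  1, 0, 1, 0, 2, 0, 2, 0, 1, 0, 2, 0, 1, 0, 2, 0, 1, 0, 1, 0, 2, 2, 0, 2, 0, 2, 0, 1, 0, 1, 0, 1]]

/-- Pieces in `pJ` and `t`, for the membership in `dJ`. -/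
def tPieces : List (List Nat) :=
  [[4, 5, 6, 7, 8, 9, 11, 12, 13, 14, 1, 0, 2, 0, 1, 0, 1, 0, 1, 0, 2, 0, 1, 0, 2, 0, 1, 0, 1, 0, 2, 0, 2, 0, 2,
  0, 1, 0, 1, 0, 1, 0, 1, 0, 1, 0, 1, 0, 2, 0, 1, 0, 2, 0, 1, 0, 1, 0, 0, 1, 0, 1, 0, 1, 0, 2, 0, 1, 0, 2, 0, 1,
  0, 1, 0, 2, 0, 2, 0, 2, 0, 1, 0, 1, 0, 1, 0, 2, 0, 2, 0, 1, 0, 2, 0, 1, 0, 2, 0, 2, 0, 2, 0, 1, 0, 2, 0, 2, 0,
  1, 0, 2, 0, 1, 0, 2, 0, 1, 0], [3], [10]]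

/-- Pieces in `pJ` and `t`, for the membership in `dJ`. -/
def bPieces : List (List Nat) :=
  [[7, 8, 10, 11, 2, 0, 1, 0, 2, 0, 1, 0, 2, 0, 1, 1, 0, 2, 0, 2, 0, 1, 0, 2, 0, 1, 0, 2, 0, 1, 0, 0, 2, 0, 2,
  0, 1, 0, 2, 0, 1, 0, 2, 0, 2, 0, 2, 0, 1, 0, 2, 2, 0, 2, 0, 2, 0, 1, 0, 1, 0, 1, 0, 2, 0, 2, 0, 1, 0, 2, 0, 1,
  0, 2, 0, 2, 0, 2, 0, 0, 2, 0, 1, 0, 2, 0, 1, 0, 2, 0, 1, 0], [3], [4]]

end CfsgLib.JFourAmalgam.Words
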