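import Cfsg.Agent.JFourAmalgam.Compat
import Cfsg.Agent.JFourAmalgam.WordsData

/-!
# Words in the presented group and membership in `pJ` and `dJ`

Equalities of words are checked in the faithful representation of degree 112.
-/

set_option autoImplicit false
set_option maxRecDepth 100000

namespace CfsgLib.JFourAmalgam

open CfsgLib.JankoFour

local notation "J" => Cfsg.Spor.J4

/-- The value of a word in the extended alphabet. -/
def ev (w : List ℕ) : J := (w.map tabJ).prod

theorem ev_nil : ev [] = 1 := rfl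

theorem ev_append (v w : List ℕ) : ev (v ++ w) = ev v * ev w := by simp [ev]

theorem ev_cons (c : ℕ) (w : List ℕ) : ev (c :: w) = tabJ c * ev w := by simp [ev]

theorem tabJ_two : tabJ 2 = yJ⁻¹ := by
  show [yJ⁻¹].prod = yJ⁻¹
  simp

theorem tabJ_three : tabJ 3 = tJ := by
  show [tJ].prod = tJ
  simp

theorem ev_t : ev [3] = tJ := by simp [ev, tabJ_three]

theorem ev_wv : ∀ {w : List ℕ}, (∀ c ∈ w, c < 3) → ev w = HBound.wv w
  | [], _ => rfl
  | c :: w, h => by
    rw [ev_cons, ev_wv fun a ha => h a (List.mem_cons_of_mem _ ha)]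
    have hc := h c List.mem_cons_self
    simp only [HBound.wv, List.map_cons, List.prod_cons]
    congr 1
    interval_cases c
    · exact tabJ_zero
    · exact tabJ_one
    · exact tabJ_two

/-- The word of `zJ`. -/
def zW : List ℕ := [4, 6, 7, 9, 10, 13]

theorem ev_zW : ev zW = zJ := rfl

/-- A check of an equality of words. -/
def eqW (v w : List ℕ) : Bool :=
  (v ++ w).all (fun c => Nat.blt c 18) && sameProd lowTab v w

theorem eq_of_eqW (hinj : Function.Injective CfsgLib.JankoFourRep.rep) {v w : List ℕ}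
    (h : eqW v w = true) : ev v = ev w := by
  rw [eqW, Bool.and_eq_true, List.all_eq_true] at h
  have hlt : ∀ c ∈ v ++ w, c < 18 := fun c hc => Nat.le_of_ble_eq_true (h.1 c hc)
  refine hinj (Units.ext ?_)
  show (CfsgLib.JankoFourRep.rep ((v.map tabJ).prod)).val = (CfsgLib.JankoFourRep.rep ((w.map tabJ).prod)).val
  rw [rep_word fun c hc => hlt c (List.mem_append_left _ hc),
    rep_word fun c hc => hlt c (List.mem_append_right _ hc), prod_eq_of_sameProd lowTab_good h.2]

/-- A letter of a word in `HJ`. -/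
def isH (c : ℕ) : Bool := Nat.blt c 15 && !Nat.beq c 3

/-- A check of membership in `pJ`. -/
def isP (w : List ℕ) : Bool := w.all isH && eqW (w ++ zW) (zW ++ w)

/-- A check of membership in `dJ`, piece by piece. -/
def isD (ps : List (List ℕ)) : Bool := ps.all fun p => p == [3] || isP p

/-- The hypothesis that the basic involutions lie in `HJ`. -/
def BasicMem : Prop := ∀ i, i < 11 → qJ i ∈ HJ

theorem ev_mem_HJ (hq : BasicMem) {w : List ℕ} (h : w.all isH = true) : ev w ∈ HJ := by
  refine Subgroup.list_prod_mem _ fun a ha => ?_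
  obtain ⟨c, hc, rfl⟩ := List.mem_map.1 ha
  have hh := List.all_eq_true.1 h c hc
  simp only [isH, Bool.and_eq_true, Bool.not_eq_true', Nat.blt_eq] at hh
  rcases Nat.lt_or_ge c 4 with h4 | h4
  · interval_cases c
    · rw [tabJ_zero]; exact Subgroup.subset_closure (Or.inl rfl)
    · rw [tabJ_one]; exact Subgroup.subset_closure (Or.inr (Or.inl rfl))
    · rw [tabJ_two]; exact inv_mem (Subgroup.subset_closure (Or.inr (Or.inl rfl)))
    · simp at hh
  · have := hq (c - 4) (by omega)
    rwa [qJ, Nat.sub_add_cancel h4] at this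

theorem ev_mem_pJ (hinj : Function.Injective CfsgLib.JankoFourRep.rep) (hq : BasicMem) {w : List ℕ}
    (h : isP w = true) : ev w ∈ pJ := by
  rw [isP, Bool.and_eq_true] at h
  have := eq_of_eqW hinj h.2
  rw [ev_append, ev_append, ev_zW] at this
  exact mem_pJ (ev_mem_HJ hq h.1) this

theorem tJ_mem_dJ : tJ ∈ dJ := Subgroup.mem_sup_right (Subgroup.mem_zpowers tJ)

theorem ev_mem_dJ (hinj : Function.Injective CfsgLib.JankoFourRep.rep) (hq : BasicMem) {k : List ℕ}
    {ps : List (List ℕ)} (h : isD ps = true) (he : eqW k ps.flatten = true) : ev k ∈ dJ := by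
  rw [eq_of_eqW hinj he, ev, List.map_flatten, List.prod_flatten]
  refine Subgroup.list_prod_mem _ fun a ha => ?_
  obtain ⟨l, hl, rfl⟩ := List.mem_map.1 ha
  obtain ⟨p, hp, rfl⟩ := List.mem_map.1 hl
  show ev p ∈ dJ
  have hp' := List.all_eq_true.1 h p hp
  rw [Bool.or_eq_true, beq_iff_eq] at hp'
  rcases hp' with rfl | hp'
  · rw [ev_t]; exact tJ_mem_dJ
  · exact pJ_le_dJ (ev_mem_pJ hinj hq hp')

end CfsgLib.JFourAmalgam
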