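import Cfsg.Agent.JFourAmalgam.ModelNFacts
import Cfsg.Agent.JFourAmalgam.ModelWords
import Cfsg.Agent.JFourAmalgam.Coords
import Cfsg.Agent.JFourAmalgam.FactsProof

/-!
The central involution, its conjugate under `x` and the element of order three in the model: the first two
lie in `oJ`, and the last fixes only `⟨zJ⟩` in `oJ` and is centralized or inverted by `dJ` modulo `oJ`.
-/

set_option autoImplicit false
set_option linter.style.haveILetI false
set_option maxRecDepth 100000

namespace CfsgLib.JFourAmalgam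

open CfsgLib.JankoFour

local notation "J" => Cfsg.Spor.J4

/-- The element of order three of `pJ`. -/
local notation "w3" => HBound.wv threeWord

theorem basicMem : BasicMem := fun i hi =>
  NModel.vJ_le_HJ facts (Subgroup.subset_closure ⟨i, hi, rfl⟩)

theorem x_zJ : xJ * zJ * xJ⁻¹ = zJ' := by
  rw [NModel.zJ_eq facts, NModel.conj_x facts, NModel.zJ'_eq facts]
  exact congrArg NModel.phi NModel.z_checks.2.2.1

theorem zJ_mem_pJ : zJ ∈ pJ := by
  refine ⟨?_, Subgroup.mem_centralizer_singleton_iff.2 rfl⟩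
  rw [NModel.zJ_eq facts]
  exact NModel.vJ_le_HJ facts (NModel.phi_mem _)

theorem zJ_sq : zJ * zJ = 1 := by rw [NModel.zJ_eq facts, NModel.phi_mul_self facts]

theorem zJ'_sq : zJ' * zJ' = 1 := by rw [NModel.zJ'_eq facts, NModel.phi_mul_self facts]

theorem zJ'_ne_one : zJ' ≠ 1 := by
  rw [NModel.zJ'_eq facts, ← NModel.phi_zero]
  exact fun e => absurd (NModel.phi_inj facts (by decide) (by decide) e) (by decide)

theorem zJ'_ne_zJ : zJ' ≠ zJ := by
  rw [NModel.zJ'_eq facts, NModel.zJ_eq facts]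
  exact fun e => absurd (NModel.phi_inj facts (by decide) (by decide) e) (by decide)

namespace NModel

theorem prod_ite_eq_bitProd {G : Type*} [Group G] (f : ℕ → G) (n : ℕ) : ∀ k,
    ((List.range k).map fun i => if n.testBit i then f i else 1).prod = bitProd f k n
  | 0 => rfl
  | k + 1 => by
    rw [List.range_succ, List.map_append, List.prod_append, prod_ite_eq_bitProd f n k, bitProd]
    simp only [List.map_cons, List.map_nil, List.prod_cons, List.prod_nil, mul_one, Bool.cond_eq_ite]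

theorem zV'_oVec : ∃ a, oVec a = zV' := by
  have h : ((List.range 128).any fun a => Nat.beq (oVec a) zV') = true := by decide +kernel
  obtain ⟨a, -, ha⟩ := List.any_eq_true.1 h
  exact ⟨a, Nat.eq_of_beq_eq_true ha⟩

end NModel

theorem zJ'_mem_oJ : zJ' ∈ oJ := by
  obtain ⟨a, ha⟩ := NModel.zV'_oVec
  rw [NModel.zJ'_eq facts, ← ha]
  exact NModel.phi_oVec_mem facts a

/-! ### The quotient of `oJ` by its centre -/

theorem three_not_mem (A : Cert.ActFacts) : w3 * w3 ∉ oJ := by
  intro h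
  haveI : Finite J := NModel.Facts.finite facts
  have h1 : orderOf (w3 * w3) = 3 := by
    rw [← pow_two, orderOf_pow, A.three_order]
    rfl
  have h2 := orderOf_dvd_natCard (⟨w3 * w3, h⟩ : oJ)
  rw [Subgroup.orderOf_mk, h1, A.card_oJ] at h2
  norm_num at h2

theorem threeMat_fix : ((List.range 4096).all fun n => Nat.beq n 0 ||
    !(Nat.beq (NModel.bitXor (fun i => Cert.threeMat.getD i 0) 12 n) n)) = true := by
  decide +kernel

theorem threeMat_lt : ∀ i : Fin 12, Cert.threeMat.getD i.val 0 < 2 ^ 12 := by decide +kernel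

/-- The element of order three fixes only the centre of `oJ`. -/
theorem three_fix (A : Cert.ActFacts) (o : J) (ho : o ∈ oJ) (hc : w3 * o = o * w3) :
    o = 1 ∨ o = zJ := by
  haveI : Finite J := NModel.Facts.finite facts
  have hcz : ∀ a ∈ oJ, a * zJ = zJ * a := fun a ha =>
    Subgroup.mem_centralizer_singleton_iff.1 (A.oJ_le ha).2
  let zo : oJ := ⟨zJ, Cert.zJ_mem⟩
  let Z : Subgroup oJ := Subgroup.zpowers zo
  have hzc : Z ≤ Subgroup.center oJ := by
    rw [Subgroup.zpowers_le, Subgroup.mem_center_iff]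
    exact fun a => Subtype.ext (hcz a a.2)
  haveI : Z.Normal := ⟨fun n hn g => by
    rw [Subgroup.mem_center_iff.1 (hzc hn) g, mul_inv_cancel_right]
    exact hn⟩
  let π : oJ →* oJ ⧸ Z := QuotientGroup.mk' Z
  have hπz : π zo = 1 := (QuotientGroup.eq_one_iff _).2 (Subgroup.mem_zpowers _)
  let g : ℕ → oJ ⧸ Z := fun i => if h : i < 12 then π ⟨Cert.oBasis i, Cert.oBasis_mem h⟩ else 1
  have hg : ∀ {i} (h : i < 12), g i = π ⟨Cert.oBasis i, Cert.oBasis_mem h⟩ := fun h => dif_pos h
  have hsq : ∀ i < 12, g i * g i = 1 := fun i hi => by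
    rw [hg hi, ← map_mul, ← map_one π]
    exact congrArg π (Subtype.ext (A.square i hi))
  have hlt : ∀ i j, i < j → j < 12 → Commute (g i) (g j) := fun i j hij hj => by
    rw [hg (hij.trans hj), hg hj, ← commutatorElement_eq_one_iff_commute, ← map_commutatorElement]
    have hm := A.comm i (hij.trans hj) j hj hij
    split_ifs at hm
    · exact (congrArg π (Subtype.ext hm)).trans hπz
    · exact (congrArg π (Subtype.ext hm)).trans (map_one π)
  have hcomm : ∀ i < 12, ∀ j < 12, Commute (g i) (g j) := fun i hi j hj => by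
    rcases lt_trichotomy i j with h | rfl | h
    exacts [hlt i j h hj, Commute.refl _, (hlt j i h hi).symm]
  let ψ : ℕ → oJ ⧸ Z := fun n => NModel.bitProd g 12 n
  have hψ0 : ψ 0 = 1 := NModel.bitProd_zero _ _
  have hψx : ∀ a b, ψ (a ^^^ b) = ψ a * ψ b := fun a b =>
    NModel.bitProd_xor g a b 12 hcomm hsq
  have hψi : ∀ a, (ψ a)⁻¹ = ψ a := fun a =>
    inv_eq_of_mul_eq_one_right (by rw [← hψx, Nat.xor_self, hψ0])
  have hsurj : ∀ q : oJ, ∃ n, n < 2 ^ 12 ∧ ψ n = π q := by
    rintro ⟨q, hq⟩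
    have hq' := hq
    rw [Cert.oJ_eq] at hq'
    induction hq' using Subgroup.closure_induction with
    | mem a ha =>
      rw [Set.mem_union, Set.mem_singleton_iff, Set.mem_ofPred_eq] at ha
      rcases ha with e | ⟨i, hi, e⟩
      · exact ⟨0, by norm_num, hψ0.trans (by rw [show (⟨a, hq⟩ : oJ) = zo from Subtype.ext e, hπz])⟩
      · refine ⟨2 ^ i, Nat.pow_lt_pow_right (by norm_num) hi,
          (NModel.bitProd_two_pow g hi).trans ((hg hi).trans ?_)⟩
        exact congrArg π (Subtype.ext e.symm)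
    | one => exact ⟨0, by norm_num, hψ0.trans (map_one π).symm⟩
    | mul a b ha hb iha ihb =>
      have ha' : a ∈ oJ := by rw [Cert.oJ_eq]; exact ha
      have hb' : b ∈ oJ := by rw [Cert.oJ_eq]; exact hb
      obtain ⟨m, hm, em⟩ := iha ha'
      obtain ⟨n, hn, en⟩ := ihb hb'
      refine ⟨m ^^^ n, Nat.xor_lt_two_pow hm hn, ?_⟩
      rw [hψx, em, en, ← map_mul]
      rfl
    | inv a ha iha =>
      have ha' : a ∈ oJ := by rw [Cert.oJ_eq]; exact ha
      obtain ⟨m, hm, em⟩ := iha ha'
      refine ⟨m, hm, ?_⟩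
      rw [← hψi, em, ← map_inv]
      rfl
  have hinj : ∀ m n, m < 2 ^ 12 → n < 2 ^ 12 → ψ m = ψ n → m = n := by
    have hZ : Nat.card Z ≤ 2 := by
      rw [Nat.card_zpowers]
      exact orderOf_le_of_pow_eq_one (by norm_num) ((pow_two zo).trans (Subtype.ext zJ_sq))
    have hQ : 2 ^ 12 ≤ Nat.card (oJ ⧸ Z) := by
      have h := Z.index_mul_card
      rw [A.card_oJ, Subgroup.index_eq_card] at h
      by_contra hlt
      have := Nat.mul_le_mul (Nat.le_of_lt_succ (Nat.lt_succ_of_lt (Nat.lt_of_not_le hlt))) hZ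
      have hpos : 0 < Nat.card Z := Nat.card_pos
      nlinarith [h, hZ, Nat.lt_of_not_le hlt]
    let f : Fin (2 ^ 12) → oJ ⧸ Z := fun n => ψ n.val
    have hf : Function.Surjective f := fun x => by
      obtain ⟨q, rfl⟩ := QuotientGroup.mk'_surjective Z x
      obtain ⟨n, hn, e⟩ := hsurj q
      exact ⟨⟨n, hn⟩, e⟩
    have hb := hf.bijective_of_nat_card_le (by rw [Nat.card_fin]; exact hQ)
    exact fun m n hm hn e => Fin.val_eq_of_eq (@hb.1 ⟨m, hm⟩ ⟨n, hn⟩ e)
  have hn3 : ∀ a ∈ oJ, w3⁻¹ * a * w3 ∈ oJ := fun a ha => Cert.pJ_norm A A.three_mem ha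
  let σ : oJ →* oJ ⧸ Z := π.comp
    { toFun := fun a => (⟨w3⁻¹ * a * w3, hn3 a a.2⟩ : oJ)
      map_one' := Subtype.ext (by simp)
      map_mul' := fun a b => Subtype.ext (by simp only [Subgroup.coe_mul]; group) }
  have hsel : ∀ n, ∀ q : oJ, (q : J) = Cert.selProd n → π q = ψ n := by
    intro n q hq
    have e : q = NModel.bitProd
        (fun i => if h : i < 12 then (⟨Cert.oBasis i, Cert.oBasis_mem h⟩ : oJ) else 1) 12 n := by
      refine Subtype.ext (hq.trans ?_)
      rw [← Subgroup.coe_subtype, NModel.map_bitProd]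
      rw [Cert.selProd, NModel.prod_ite_eq_bitProd]
      refine NModel.bitProd_congr n 12 fun i hi => ?_
      rw [Subgroup.coe_subtype, dif_pos hi]
    rw [e, NModel.map_bitProd]
    refine NModel.bitProd_congr n 12 fun i hi => ?_
    rw [dif_pos hi, hg hi]
  have hσb : ∀ i, (hi : i < 12) → σ ⟨Cert.oBasis i, Cert.oBasis_mem hi⟩ =
      ψ (Cert.threeMat.getD i 0) := fun i hi => by
    show π ⟨w3⁻¹ * Cert.oBasis i * w3, _⟩ = _
    rcases A.tab_three i hi with e | e
    · exact hsel _ _ e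
    · have hm : Cert.selProd (Cert.threeMat.getD i 0) ∈ oJ := Subgroup.list_prod_mem _ fun a ha => by
        obtain ⟨j, hj, rfl⟩ := List.mem_map.1 ha
        split_ifs
        exacts [Cert.oBasis_mem (List.mem_range.1 hj), one_mem _]
      rw [show (⟨w3⁻¹ * Cert.oBasis i * w3, hn3 _ (Cert.oBasis_mem hi)⟩ : oJ) =
        zo * ⟨_, hm⟩ from Subtype.ext e, map_mul, hπz, one_mul]
      exact hsel _ _ rfl
  have hσz : σ zo = 1 := by
    refine Eq.trans (congrArg π (Subtype.ext ?_)) hπz
    show w3⁻¹ * zJ * w3 = zJ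
    have h3 : w3 * zJ = zJ * w3 := Subgroup.mem_centralizer_singleton_iff.1 A.three_mem.2
    rw [mul_assoc, ← h3, inv_mul_cancel_left]
  obtain ⟨n, hn, e⟩ := hsurj ⟨o, ho⟩
  have hfix : σ ⟨o, ho⟩ = π ⟨o, ho⟩ := by
    refine congrArg π (Subtype.ext ?_)
    show w3⁻¹ * o * w3 = o
    rw [mul_assoc, ← hc, inv_mul_cancel_left]
  let P : ℕ → oJ := fun i => if h : i < 12 then ⟨Cert.oBasis i, Cert.oBasis_mem h⟩ else 1
  have hπP : π (NModel.bitProd P 12 n) = ψ n := by
    rw [NModel.map_bitProd]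
    refine NModel.bitProd_congr n 12 fun i hi => ?_
    simp only [P, dif_pos hi]
    exact (hg hi).symm
  have hσP : σ (NModel.bitProd P 12 n) =
      ψ (NModel.bitXor (fun i => Cert.threeMat.getD i 0) 12 n) := by
    rw [NModel.map_bitProd, ← NModel.bitProd_eq_of_hom ψ hψ0 hψx]
    refine NModel.bitProd_congr n 12 fun i hi => ?_
    simp only [P, dif_pos hi]
    exact hσb i hi
  have hd : (NModel.bitProd P 12 n)⁻¹ * ⟨o, ho⟩ ∈ Z := QuotientGroup.eq.1 (hπP.trans e)
  have hσd : σ ((NModel.bitProd P 12 n)⁻¹ * ⟨o, ho⟩) = 1 := by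
    obtain ⟨k, hk⟩ := Subgroup.mem_zpowers_iff.1 hd
    rw [← hk, map_zpow, hσz, one_zpow]
  rw [map_mul, map_inv, inv_mul_eq_one, hσP, hfix, ← e] at hσd
  have hbx : NModel.bitXor (fun i => Cert.threeMat.getD i 0) 12 n = n :=
    hinj _ _ (NModel.bitXor_lt _ _ fun i hi => threeMat_lt ⟨i, hi⟩) hn hσd
  have h0 := List.all_eq_true.1 threeMat_fix n (List.mem_range.2 (by simpa using hn))
  rw [hbx] at h0
  simp at h0
  subst h0
  rw [hψ0] at e
  obtain ⟨k, hk⟩ := Subgroup.mem_zpowers_iff.1 ((QuotientGroup.eq_one_iff _).1 e.symm)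
  have hz : zo ^ (2 : ℤ) = 1 := by
    rw [show (2 : ℤ) = ((2 : ℕ) : ℤ) from rfl, zpow_natCast, pow_two]
    exact Subtype.ext zJ_sq
  rcases Int.even_or_odd k with ⟨m, rfl⟩ | ⟨m, rfl⟩
  · rw [← two_mul, zpow_mul, hz, one_zpow] at hk
    exact Or.inl (congrArg Subtype.val hk).symm
  · rw [zpow_add, zpow_mul, hz, one_zpow, one_mul, zpow_one] at hk
    exact Or.inr (congrArg Subtype.val hk).symm

/-! ### Conjugation of the element of order three -/

/-- The generators of `dJ`. -/
def dGens : Set J := {a | ∃ i < 11, a = qJ i} ∪ {a | ∃ w ∈ pWords, a = HBound.wv w} ∪ {tJ}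

theorem dJ_eq : dJ = Subgroup.closure dGens := by
  rw [dJ, pJ_eq facts, vJ, dGens, Subgroup.closure_union, Subgroup.closure_union,
    Subgroup.zpowers_eq_closure]

theorem three_check_t : eqW ([3] ++ threeWord) (threeWord ++ [3]) = true := by decide +kernel

theorem three_word_lt : ∀ c ∈ threeWord, c < 3 := by decide

theorem tJ_comm_three : tJ * w3 = w3 * tJ := by
  have h := eq_of_eqW facts.inj three_check_t
  rwa [ev_append, ev_append, ev_t, ev_wv three_word_lt] at h

/-- `dJ` centralizes or inverts the element of order three modulo `oJ`. -/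
theorem three_conj (A : Cert.ActFacts) (d : J) (hd : d ∈ dJ) :
    d * w3 * d⁻¹ * w3⁻¹ ∈ oJ ∨ d * w3 * d⁻¹ * w3 ∈ oJ := by
  have hw : w3 ∈ dJ := pJ_le_dJ A.three_mem
  have hn : ∀ {a q : J}, a ∈ dJ → q ∈ oJ → a * q * a⁻¹ ∈ oJ := fun ha hq => A.norm _ ha _ hq
  have hn' : ∀ {a q : J}, a ∈ dJ → q ∈ oJ → a⁻¹ * q * a ∈ oJ := fun ha hq => by
    simpa using A.norm _ (inv_mem ha) _ hq
  suffices h : d ∈ dJ ∧ (d * w3 * d⁻¹ * w3⁻¹ ∈ oJ ∨ d * w3 * d⁻¹ * w3 ∈ oJ) from h.2
  rw [dJ_eq] at hd
  induction hd using Subgroup.closure_induction with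
  | mem a ha =>
    refine ⟨by rw [dJ_eq]; exact Subgroup.subset_closure ha, ?_⟩
    rcases ha with (⟨i, hi, rfl⟩ | ⟨w, hw', rfl⟩) | ha
    · left
      have hc := List.all_eq_true.1 NModel.three_checks.1 i (List.mem_range.2 hi)
      rw [Bool.and_eq_true] at hc
      rw [← NModel.phi_two_pow hi, NModel.phi_inv facts, mul_assoc _ w3, mul_assoc (NModel.phi _),
        NModel.conj_rW' facts, ← NModel.phi_xor facts, Nat.eq_of_beq_eq_true hc.1]
      exact NModel.phi_oVec_mem facts _
    · obtain ⟨g, hg, rfl⟩ := List.getElem_of_mem hw'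
      rw [← List.getD_eq_getElem pWords [] hg]
      have hc := List.all_eq_true.1 NModel.three_checks.2.1 g (List.mem_range.2 hg)
      rw [Bool.and_eq_true] at hc
      have he := facts.faithful _ _ hc.1
      have hm := NModel.eWord_mem (NModel.threeComm.getD g 0)
      rw [← he] at hm
      simp only [HBound.wv_append, HBound.wv_winv] at hm
      cases hb : Nat.beq g 0 <;> simp only [hb, cond_true, cond_false, HBound.wv_winv] at hm
      · exact Or.inl hm
      · exact Or.inr hm
    · rw [Set.mem_singleton_iff.1 ha]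
      left
      rw [tJ_comm_three, mul_inv_cancel_right, mul_inv_cancel]
      exact one_mem _
  | one => exact ⟨one_mem _, Or.inl (by simp)⟩
  | mul a b _ _ iha ihb =>
    refine ⟨mul_mem iha.1 ihb.1, ?_⟩
    obtain ⟨ha, ha'⟩ := iha
    obtain ⟨-, hb'⟩ := ihb
    rcases hb' with hb' | hb' <;> rcases ha' with ha' | ha'
    · left
      convert mul_mem (hn ha hb') ha' using 1
      group
    · right
      convert mul_mem (hn ha hb') ha' using 1
      group
    · right
      convert mul_mem (hn ha hb') (hn' hw (inv_mem ha')) using 1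
      group
    · left
      convert mul_mem (hn ha hb') (hn hw (inv_mem ha')) using 1
      group
  | inv a _ iha =>
    obtain ⟨ha, ha'⟩ := iha
    refine ⟨inv_mem ha, ?_⟩
    rcases ha' with ha' | ha'
    · left
      convert hn' ha (inv_mem ha') using 1
      group
    · right
      convert hn' hw (hn' ha ha') using 1
      group

end CfsgLib.JFourAmalgam
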