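import Cfsg.Agent.JFourAmalgam.Coords
import Cfsg.Agent.JFourAmalgam.ActChecksA
import Cfsg.Agent.JFourAmalgam.ActChecksB
import Cfsg.Agent.JFourAmalgam.ActChecksC
import Cfsg.Agent.JFourAmalgam.ActChecksD
import Cfsg.Agent.JFourAmalgam.ActChecksE
import Cfsg.Agent.JFourAmalgam.ActChecksF
import Cfsg.Agent.JFourAmalgam.ModelNThree

/-!
# From the checks to equalities in the presented group
-/

set_option autoImplicit false
set_option maxRecDepth 100000

namespace CfsgLib.JFourAmalgam.Cert

open CfsgLib.JankoFour CfsgLib.JankoFourRep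

local notation "J" => Cfsg.Spor.J4

/-- The value of a letter. -/
def el (c : ℕ) : J := if c < 18 then tabJ c else JFourAmalgam.ev (extraWords.getD (c - 18) [])

/-- The value of a word. -/
def ev2 (w : List ℕ) : J := (w.map el).prod

theorem ev2_nil : ev2 [] = 1 := rfl

theorem ev2_append (v w : List ℕ) : ev2 (v ++ w) = ev2 v * ev2 w := by simp [ev2]

theorem ev2_one (c : ℕ) : ev2 [c] = el c := by simp [ev2]

theorem ev2_cons (c : ℕ) (w : List ℕ) : ev2 (c :: w) = el c * ev2 w := by simp [ev2]

theorem tab2_low {c : ℕ} (hc : c < 18) : tab2 c = lowTab c := by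
  rw [tab2, show Nat.blt c 18 = true by simpa [Nat.blt_eq] using hc, cond_true]

theorem tab2_good : Good tab2 := by
  intro c
  rcases lt_or_ge c 18 with hc | hc
  · rw [tab2_low hc]; exact lowTab_good c
  · rw [tab2, show Nat.blt c 18 = false by rw [Bool.eq_false_iff]; simp [Nat.blt_eq]; omega, cond_false]
    rcases lt_or_ge (c - 18) extraRows.length with h | h
    · have hm : extraRows.getD (c - 18) (lowTab 0) ∈ extraRows := by
        rw [List.getD_eq_getElem _ _ h]; exact List.getElem_mem _
      have := List.all_eq_true.1 extra_good _ hm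
      rw [Bool.and_eq_true, beq_iff_eq, List.all_eq_true] at this
      exact ⟨this.1, fun a ha => by simpa [Nat.blt_eq] using this.2 a ha⟩
    · rw [List.getD_eq_getElem?_getD, List.getElem?_eq_none h, Option.getD_none]
      exact lowTab_good 0

theorem isH_lt {c : ℕ} (h : isH c = true) : c < 15 := by
  simp only [isH, Bool.and_eq_true, Nat.blt_eq] at h
  exact h.1

theorem extraWord_isH (j : ℕ) (hj : j < 14) : (extraWords.getD j []).all isH = true := by
  have := List.all_eq_true.1 extra_ok j (List.mem_range.2 hj)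
  rw [Bool.and_eq_true] at this
  exact this.1

theorem rep_el {c : ℕ} (hc : c < 32) : (CfsgLib.JankoFourRep.rep (el c)).val = toMat (tab2 c) := by
  rcases lt_or_ge c 18 with h | h
  · rw [el, if_pos h, rep_tabJ h, tab2_low h]
  · obtain ⟨j, rfl⟩ : ∃ j, c = 18 + j := ⟨c - 18, by omega⟩
    have hj : j < 14 := by omega
    have hw : ∀ a ∈ extraWords.getD j [], a < 18 := fun a ha =>
      lt_trans (isH_lt (List.all_eq_true.1 (extraWord_isH j hj) a ha)) (by norm_num)
    have hs := List.all_eq_true.1 extra_ok j (List.mem_range.2 hj)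
    rw [Bool.and_eq_true] at hs
    have hp := prod_eq_of_sameR tab2_good hs.2
    rw [List.map_singleton, List.prod_singleton] at hp
    rw [el, if_neg (by omega), Nat.add_sub_cancel_left, JFourAmalgam.ev, rep_word hw, hp]
    exact congrArg List.prod (List.map_congr_left fun a ha => by rw [tab2_low (hw a ha)])

theorem rep_ev2 {w : List ℕ} (hw : ∀ c ∈ w, c < 32) :
    (CfsgLib.JankoFourRep.rep (ev2 w)).val = (w.map fun c => toMat (tab2 c)).prod := by
  rw [ev2, map_list_prod, ← Units.coeHom_apply, map_list_prod, List.map_map, List.map_map]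
  exact congrArg List.prod (List.map_congr_left fun a ha => rep_el (hw a ha))

/-- A passed check gives an equality in the group. -/
theorem eq_of_eqE {v w : List ℕ} (h : eqE v w = true) : ev2 v = ev2 w := by
  rw [eqE, Bool.and_eq_true, List.all_eq_true] at h
  have hlt : ∀ c ∈ v ++ w, c < 32 := fun c hc => Nat.le_of_ble_eq_true (h.1 c hc)
  refine facts.inj (Units.ext ?_)
  rw [rep_ev2 fun c hc => hlt c (List.mem_append_left _ hc),
    rep_ev2 fun c hc => hlt c (List.mem_append_right _ hc), prod_eq_of_sameR tab2_good h.2]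

theorem el_low {c : ℕ} (hc : c < 18) : el c = tabJ c := if_pos hc

theorem el_t : el 3 = tJ := by rw [el_low (by norm_num), tabJ_three]

theorem ev2_eq_ev {w : List ℕ} (hw : ∀ c ∈ w, c < 18) : ev2 w = JFourAmalgam.ev w :=
  congrArg List.prod (List.map_congr_left fun a ha => el_low (hw a ha))

theorem el_wv {j : ℕ} (hj : j < 12) : el (18 + j) = HBound.wv (extraWords.getD j []) := by
  have key : ∀ j < 12, ∀ c ∈ extraWords.getD j [], c < 3 := by decide +kernel
  rw [el, if_neg (by omega), Nat.add_sub_cancel_left, ev_wv (key j hj)]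

theorem el_extra (j : ℕ) : el (18 + j) = JFourAmalgam.ev (extraWords.getD j []) := by
  rw [el, if_neg (by omega), Nat.add_sub_cancel_left]

theorem el_mem_HJ {c : ℕ} (hc : 18 ≤ c) (hc' : c < 32) : el c ∈ HJ := by
  obtain ⟨j, rfl⟩ : ∃ j, c = 18 + j := ⟨c - 18, by omega⟩
  rw [el_extra]
  exact ev_mem_HJ basicMem (extraWord_isH j (by omega))

theorem ev2_zW : ev2 zW = zJ := (ev2_eq_ev (by decide)).trans ev_zW

theorem el_three : el 29 = HBound.wv threeWord := (el_wv (j := 11) (by norm_num)).trans rfl

theorem qList_word : ∀ l : List ℕ, (∀ a ∈ l, a < 11) → ev2 (l.map (· + 4)) = qList l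
  | [], _ => rfl
  | a :: l, h => by
    rw [List.map_cons, ev2_cons, qList_word l fun b hb => h b (List.mem_cons_of_mem _ hb),
      el_low (by have := h a List.mem_cons_self; omega)]
    simp [qList, qJ]

theorem ev2_bWord {i : ℕ} (hi : i < 12) : ev2 (bWord i) = oBasis i := by
  rw [bWord, oBasis]
  split_ifs with h
  · exact qList_word _ ((by decide +kernel : ∀ i < 6, ∀ a ∈ oLists.getD (i + 1) [], a < 11) i h)
  · rw [ev2_one, show i + 12 = 18 + (i - 6) by omega, el_wv (by omega)]
    exact congrArg _ ((by decide +kernel : ∀ j < 6, extraWords.getD j [] = oWords.getD j []) (i - 6) (by omega))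

theorem ev2_pWord {k : ℕ} (hk : k < 16) : ev2 (pWord k) = pElem k := by
  rw [pWord, pElem]
  split_ifs with h
  · rw [ev2_one, el_low (by omega), qJ]
  · rw [ev2_one, show k + 13 = 18 + (k - 5) by omega, el_wv (by omega)]
    exact congrArg _ ((by decide +kernel : ∀ k < 16, ¬ k < 11 →
      extraWords.getD (k - 5) [] = pWords.getD (k - 11) []) k hk h)

theorem ev2_flatten : ∀ L : List (List ℕ), ev2 L.flatten = (L.map ev2).prod
  | [] => rfl
  | l :: L => by rw [List.flatten_cons, ev2_append, ev2_flatten L, List.map_cons, List.prod_cons]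

theorem ev2_selWord (z : Bool) (n : ℕ) : ev2 (selWord z n) = (if z then zJ else 1) * selProd n := by
  rw [selWord, ev2_append, ev2_flatten, List.map_map, selProd]
  congr 1
  · cases z
    · rfl
    · exact ev2_zW
  · refine congrArg List.prod (List.map_congr_left fun i hi => ?_)
    rw [Function.comp_apply]
    split_ifs
    · exact ev2_bWord (List.mem_range.1 hi)
    · rfl

/-- A passed table gives the action. -/
theorem modZ_of_table {g : List ℕ} {bits : ℕ} {rows : List ℕ} (h : tableOK g bits rows = true)
    {i : ℕ} (hi : i < 12) : ModZ ((ev2 g)⁻¹ * oBasis i * ev2 g) (selProd (rows.getD i 0)) := by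
  have e := eq_of_eqE (List.all_eq_true.1 h i (List.mem_range.2 hi))
  rw [ev2_append, ev2_append, ev2_bWord hi, ev2_selWord] at e
  rw [mul_assoc, e, inv_mul_cancel_left]
  cases bits.testBit i
  · exact Or.inl (by simp)
  · exact Or.inr (by simp)

end CfsgLib.JFourAmalgam.Cert
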