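import Cfsg.Agent.JFourAmalgam.CertData
import Cfsg.Agent.JFourAmalgam.ModelWords
import Cfsg.Agent.JFourAmalgam.ActRows
import Cfsg.Agent.JFourAmalgam.ActEval

/-!
# The words for the facts on the action on the extraspecial subgroup

Letters below 18 as in `ev`; the letters `18 + j` stand for fourteen further words: the six of `oWords`, the
five of `pWords`, `threeWord`, and two elements generating with it a group of order 27. A bit of `pBits`,
`tBits` says that `zJ` enters the product of a table row.
-/

set_option autoImplicit false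

namespace CfsgLib.JFourAmalgam.Cert

open CfsgLib.JankoFour

/-- An element of order three centralising that of `threeWord`. -/
def aWord : List ℕ :=
  [1, 0, 1, 0, 2, 0, 1, 0, 1, 0, 1, 0, 2, 0, 2, 0, 1, 0, 2, 0, 2, 0, 2, 0, 1, 0, 2, 0, 1, 0, 1, 0, 1, 0, 2,
   0, 2, 0, 1, 0, 2, 0, 2, 0, 1, 0, 1, 0, 1, 0, 2, 0, 2, 0, 1, 0, 1, 0, 1, 0, 2, 0, 1, 0, 2, 0, 1, 0, 2, 0,
   1, 0, 2, 0, 1, 0, 2, 0, 1, 0, 1, 0, 2, 0, 1, 0, 1, 0, 2, 0, 2, 0, 0, 2, 0, 2, 0, 1, 0, 1, 0, 1, 0, 1, 0,
   2, 0, 2, 0, 2, 0, 1, 0, 1, 0, 1, 0, 1, 0, 1, 0, 1, 0, 2, 0, 2, 0, 1, 0, 1, 0, 2, 0, 1, 0, 1, 0, 2, 0, 1,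
   0, 2, 0, 2, 0, 1, 0, 2, 0, 1, 0, 2, 0, 1, 0, 1, 0, 2, 0, 1, 0, 1, 0, 1, 0, 2, 0, 1, 0, 2, 0, 1, 0, 1, 0,
   0, 1, 0, 1, 0, 1, 0, 2, 0, 1, 0, 2, 0, 1, 0, 1, 0]

/-- Another one; the commutator of the two is the inverse of that of `threeWord`. -/
def bThree : List ℕ :=
  [2, 0, 1, 0, 2, 0, 1, 0, 2, 0, 1, 0, 1, 0, 1, 0, 1, 0, 2, 0, 1, 0, 2, 0, 1, 0, 1, 0, 1, 0, 2, 0, 2, 0, 1,
   0, 2, 0, 1, 0, 2, 0, 1, 0, 1, 0, 2, 0, 1, 0, 1, 0, 1, 0, 2, 0, 1, 0, 2, 0, 1, 0, 1, 0]

/-- The words of the further letters. -/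
def extraWords : List (List ℕ) := oWords ++ pWords ++ [threeWord, aWord, bThree]

/-- The rows of all letters. -/
def tab2 (c : ℕ) : List ℕ :=
  bif Nat.blt c 18 then lowTab c else extraRows.getD (c - 18) (lowTab 0)

/-- The word of a basis element. -/
def bWord (i : ℕ) : List ℕ :=
  if i < 6 then (oLists.getD (i + 1) []).map (· + 4) else [i + 12]

/-- The word of a tabulated element of `pJ`. -/
def pWord (k : ℕ) : List ℕ := if k < 11 then [k + 4] else [k + 13]

/-- The letters of the element of order three and of the two generators. -/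
def wLet : List ℕ := [29]

/-- The word of a selected product, with `zJ` in front when the flag is set. -/
def selWord (z : Bool) (n : ℕ) : List ℕ :=
  (if z then zW else []) ++ ((List.range 12).map fun i => if n.testBit i then bWord i else []).flatten

/-- A check of an equality of words in the letters. -/
noncomputable def eqE (v w : List ℕ) : Bool :=
  (v ++ w).all (fun c => Nat.blt c 32) && sameR tab2 v w

/-- Where `zJ` enters the tables of `pMats`. -/
def pBits : List ℕ := [3328, 192, 1856, 3712, 2816, 1280, 960, 1280, 3456, 512, 1344, 43, 1, 4, 61, 11]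

/-- Where `zJ` enters the table of `t`. -/
def tBits : ℕ := 56

/-- The check of the rows of a table. -/
noncomputable def tableOK (g : List ℕ) (bits : ℕ) (rows : List ℕ) : Bool :=
  (List.range 12).all fun i => eqE (bWord i ++ g) (g ++ selWord (bits.testBit i) (rows.getD i 0))

/-- The checks of the tables from `lo` to `hi`. -/
noncomputable def tablesOK (lo hi : ℕ) : Bool :=
  (List.range (hi - lo)).all fun k => tableOK (pWord (lo + k)) (pBits.getD (lo + k) 0) (pMats.getD (lo + k) [])

/-- For the tabulated elements: the commutator with the element of order three, and whether it is inverted. -/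
def threeConj : List (ℕ × Bool) :=
  [(13, false), (49, false), (17, false), (16, false), (45, false), (24, false), (57, false), (38, false), (5, false), (45, false), (2, false), (2112, true), (3200, false), (2624, false), (1024, false), (3456, false)]

/-- The check of a conjugate of the element of order three. -/
noncomputable def threeOK (k : ℕ) : Bool :=
  let e := threeConj.getD k (0, false)
  eqE (pWord k ++ wLet) (selWord false e.1 ++ (if e.2 then wLet ++ wLet else wLet) ++ pWord k)

end CfsgLib.JFourAmalgam.Cert
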