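import Cfsg.Agent.JFourAmalgam.CertEnum

/-!
# The candidates for an element normalising an element of order five

A matrix preserving the squaring map, commuting with the element of order three, squaring the element of
order five by conjugation, with fourth power one and with the stated rank of the involutions among the powers
of its products with the two test elements generates, with the parabolic, either `t` or its conjugate by the
twist.
-/

set_option autoImplicit false
set_option maxRecDepth 100000

namespace CfsgLib.JFourAmalgam.Cert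

open CfsgLib.Mathieu Matrix

theorem isoOK_of_quad {R prev rows : List ℕ} (hlt : ∀ i ∈ prev ++ rows, i < 12) (hR : R.length = 12)
    (hQ : ∀ v, quadJ (Matrix.vecMul v (toM R)) = quadJ v) : isoOK prev rows R = true := by
  have key : ∀ n, qC (xorSel R n) = qC n := fun n => by
    have h := hQ (toV n)
    rw [vecMul_toM hR, quadJ_toV, quadJ_toV] at h
    revert h
    cases qC (xorSel R n) <;> cases qC n <;> decide
  simp only [isoOK, List.all_eq_true, Bool.and_eq_true, Bool.or_eq_true, Bool.not_eq_true', beq_iff_eq]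
  intro i hi
  have hi12 := hlt i (List.mem_append_right _ hi)
  refine ⟨?_, fun j hj => Or.inr ?_⟩
  · rw [← xorSel_two_pow R i, key,
      (by decide +kernel : ∀ i : Fin 12, qC (2 ^ i.val) = false) ⟨i, hi12⟩]
  · rw [← xorSel_two_pow R i, ← xorSel_two_pow R j, ← xorSel_xor, key]

/-- Matrices given by the first coefficients only agree on the rows of a stage. -/
theorem rows_eq {rows : List ℕ} {k : ℕ} (h : suppOK rows k = true) (m : ℕ) :
    ∀ i ∈ rows, (rowsOf (m % 2 ^ k)).getD i 0 = (rowsOf m).getD i 0 := by
  simp only [suppOK, List.all_eq_true, Bool.and_eq_true, allBelow_iff, Bool.or_eq_true, Nat.blt_eq,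
    beq_iff_eq] at h
  intro i hi
  obtain ⟨hi12, hb⟩ := h i hi
  rw [rowsOf, rowsOf, getD_range_map _ hi12, getD_range_map _ hi12]
  refine Nat.eq_of_testBit_eq fun t => ?_
  rw [show (4096 : ℕ) = 2 ^ 12 from rfl, Nat.testBit_mod_two_pow, Nat.testBit_mod_two_pow,
    Nat.testBit_div_two_pow, Nat.testBit_div_two_pow]
  by_cases ht : t < 12
  swap
  · simp [ht]
  have key : ∀ x : ℕ, bz (xorSel commBasis x) (t + 12 * i) =
      ∑ b : Fin 16, bz x b.val * bz (commBasis.getD b.val 0) (t + 12 * i) :=
    fun x => sum_xorSel commBasis 16 x _ (by decide +kernel)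
  have e : bz (xorSel commBasis (m % 2 ^ k)) (t + 12 * i) = bz (xorSel commBasis m) (t + 12 * i) := by
    rw [key, key]
    refine Finset.sum_congr rfl fun b _ => ?_
    rcases hb b.val b.isLt with hbk | hz
    · congr 1
      simp [bz, Nat.testBit_mod_two_pow, hbk]
    · have : bz (commBasis.getD b.val 0) (t + 12 * i) = 0 := by
        have h0 := congrArg (fun z : ℕ => z.testBit t) hz
        simp only [show (4096 : ℕ) = 2 ^ 12 from rfl, Nat.testBit_mod_two_pow, Nat.testBit_div_two_pow,
          ht, decide_true, Bool.true_and, Nat.zero_testBit] at h0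
        simp only [bz, h0, Bool.false_eq_true, if_false]
      rw [this, mul_zero, mul_zero]
  revert e
  unfold bz
  cases (xorSel commBasis (m % 2 ^ k)).testBit (t + 12 * i) <;>
    cases (xorSel commBasis m).testBit (t + 12 * i) <;> simp

theorem isoOK_congr {prev rows R R' : List ℕ} (h : ∀ i ∈ prev ++ rows, R.getD i 0 = R'.getD i 0) :
    isoOK prev rows R = isoOK prev rows R' := by
  rw [Bool.eq_iff_iff]
  simp only [isoOK, List.all_eq_true, Bool.and_eq_true, Bool.or_eq_true, Bool.not_eq_true', beq_iff_eq]
  refine forall₂_congr fun i hi => and_congr (by rw [h i (List.mem_append_right _ hi)]) ?_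
  exact forall₂_congr fun j hj => by rw [h i (List.mem_append_right _ hi), h j hj]

/-- The generators. -/
def pGens : Set M12 := {x | ∃ l ∈ pMats, x = toM l}

theorem mats_ok : pMats.all (fun l => l.length == 12) = true ∧ testMats.all (fun l => l.length == 12) = true ∧
    tMat.length = 12 ∧ hMat.length = 12 ∧ threeMat.length = 12 ∧ fiveMat.length = 12 ∧
    (∀ k < 2, (testMats.getD k oneC) ∈ testMats) := by
  decide +kernel

theorem wordC_spec {X : List ℕ} (hX : X.length = 12) :
    ∀ w : List ℕ, (∀ k ∈ w, k < 17) → (wordC X w).length = 12 ∧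
      toM (wordC X w) ∈ Submonoid.closure (pGens ∪ {toM X})
  | [], _ => ⟨rfl, by rw [wordC, toM_oneC]; exact one_mem _⟩
  | k :: w, h => by
    obtain ⟨h1, h2⟩ := wordC_spec hX w fun j hj => h j (List.mem_cons_of_mem _ hj)
    have hk := h k List.mem_cons_self
    have hlen : pMats.length = 16 := by decide +kernel
    have hl : (letC X k).length = 12 ∧ toM (letC X k) ∈ pGens ∪ {toM X} := by
      rcases Nat.lt_or_ge k 16 with hk' | hk'
      · have hmem : letC X k ∈ pMats := by
          rw [letC, List.getD_eq_getElem _ _ (by simp [hlen]; omega), List.getElem_append_left (by omega)]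
          exact List.getElem_mem _
        exact ⟨beq_iff_eq.1 (List.all_eq_true.1 mats_ok.1 _ hmem), Or.inl ⟨_, hmem, rfl⟩⟩
      · obtain rfl : k = 16 := by omega
        have e : letC X 16 = X := by
          rw [letC, List.getD_eq_getElem _ _ (by simp [hlen]), List.getElem_append_right (by omega)]
          simp [hlen]
        exact ⟨e ▸ hX, Or.inr (by rw [e]; rfl)⟩
    refine ⟨(mulC_length _ _).trans hl.1, ?_⟩
    rw [wordC, toM_mul hl.1 h1]
    exact mul_mem (Submonoid.subset_closure hl.2) h2

/-- **The candidates.** -/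
theorem candidate_cases (β : M12) (hQ : ∀ v, quadJ (Matrix.vecMul v β) = quadJ v)
    (h3 : β * toM threeMat = toM threeMat * β) (h5 : toM fiveMat * β = β * toM fiveMat ^ 2)
    (h4 : β ^ 4 = 1)
    (hinv : ∀ c ∈ testMats, ∀ k : ℕ, ((β * toM c) ^ k) ^ 2 = 1 → (β * toM c) ^ k ≠ 1 →
      ((β * toM c) ^ k + 1).rank = 4) :
    toM tMat ∈ Submonoid.closure (pGens ∪ {β}) ∨
      toM hMat * toM tMat * toM hMat ∈ Submonoid.closure (pGens ∪ {β}) := by
  obtain ⟨m, hm, rfl⟩ := exists_coeff β h3 h5
  obtain ⟨-, htest, htl, hhl, -, -, htmem⟩ := mats_ok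
  have hlen := rowsOf_length m
  obtain ⟨s0, s1, s2⟩ := supp_ok
  have hR0 : isoOK [] stage0 (rowsOf (m % 16)) = true := by
    rw [isoOK_congr (rows_eq s0 m)]
    exact isoOK_of_quad (by decide +kernel) hlen hQ
  have hR1 : isoOK stage0 stage1 (rowsOf (m % 256)) = true := by
    rw [show (256 : ℕ) = 2 ^ 8 by norm_num, isoOK_congr (rows_eq s1 m)]
    exact isoOK_of_quad (by decide +kernel) hlen hQ
  have hR2 : isoOK (stage0 ++ stage1) stage2 (rowsOf (m % 8192)) = true := by
    rw [show (8192 : ℕ) = 2 ^ 13 by norm_num, isoOK_congr (rows_eq s2 m)]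
    exact isoOK_of_quad (by decide +kernel) hlen hQ
  have hR3 : isoOK (stage0 ++ stage1 ++ stage2) stage3 (rowsOf m) = true :=
    isoOK_of_quad (by decide +kernel) hlen hQ
  have hone : (oneC.all fun x => Nat.blt x 4096) = true := by decide +kernel
  have hbasis : ∀ i, (xorSel commBasis m / 2 ^ (12 * i)) % 4096 < 4096 := fun i => Nat.mod_lt _ (by norm_num)
  have hrows : (rowsOf m).all (fun x => Nat.blt x 4096) = true := by
    simp only [rowsOf, List.all_map, List.all_eq_true, Function.comp_apply, Nat.blt_eq]
    exact fun i _ => hbasis i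
  have hpow : powC (rowsOf m) 4 = oneC := by
    refine toM_injective (powC_length 4) rfl ?_ hone (by rw [toM_powC hlen, h4, toM_oneC])
    simp only [powC, mulC, List.all_map, List.all_eq_true, Function.comp_apply, Nat.blt_eq]
    intro x _
    refine xorSel_lt (b := 12) _ _ fun r hr => ?_
    have := List.all_eq_true.1 hrows r hr
    rwa [Nat.blt_eq] at this
  have h := enum_ok
  simp only [enumOK, allBelow_iff, Bool.or_eq_true, Bool.not_eq_true', Bool.and_eq_false_iff,
    beq_eq_false_iff_ne] at h
  have e1 : m % 16 + 16 * (m / 16 % 16) = m % 256 := by omega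
  have e2 : m % 256 + 256 * (m / 256 % 32) = m % 8192 := by omega
  have e3 : m % 8192 + 8192 * (m / 8192) = m := by omega
  have g0 := (h (m % 16) (Nat.mod_lt _ (by norm_num))).resolve_left (by simp [hR0])
  have g1 := g0 (m / 16 % 16) (Nat.mod_lt _ (by norm_num))
  rw [e1] at g1
  have g2 := (g1.resolve_left (by simp [hR1])) (m / 256 % 32) (Nat.mod_lt _ (by norm_num))
  rw [e2] at g2
  have g3 := (g2.resolve_left (by simp [hR2])) (m / 8192) (by omega)
  rw [e3] at g3
  have hcov := g3.resolve_left fun hh =>
    hh.elim (fun h => Bool.noConfusion (hR3.symm.trans h)) fun h => h hpow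
  obtain ⟨⟨m', kind, w, e⟩, -, hx⟩ := List.any_eq_true.1 hcov
  rw [Bool.and_eq_true] at hx
  obtain ⟨-, hx⟩ := hx
  change certOK (rowsOf m) kind w e = true at hx
  match kind with
  | 0 =>
    simp only [certOK, Bool.and_eq_true, List.all_eq_true, Nat.blt_eq, beq_iff_eq] at hx
    exact Or.inl (hx.2 ▸ (wordC_spec hlen w hx.1).2)
  | 1 =>
    simp only [certOK, Bool.and_eq_true, List.all_eq_true, Nat.blt_eq, beq_iff_eq] at hx
    refine Or.inr ?_
    have e := (wordC_spec hlen w hx.1).2
    rwa [hx.2, toM_mul hhl ((mulC_length _ _).trans htl), toM_mul htl hhl, ← mul_assoc] at e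
  | k + 2 =>
    exfalso
    simp only [certOK, Bool.and_eq_true, Nat.blt_eq, beq_iff_eq, Bool.not_eq_true',
      beq_eq_false_iff_ne] at hx
    obtain ⟨hk, ⟨⟨hYlt, hsq⟩, hne⟩, hbad⟩ := hx
    have hcl : (testMats.getD k oneC).length = 12 :=
      beq_iff_eq.1 (List.all_eq_true.1 htest _ (htmem k hk))
    have hprod : (mulC (rowsOf m) (testMats.getD k oneC)).length = 12 := (mulC_length _ _).trans hlen
    have hYl := powC_length (a := mulC (rowsOf m) (testMats.getD k oneC)) e
    have hY : toM (powC (mulC (rowsOf m) (testMats.getD k oneC)) e) =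
        (toM (rowsOf m) * toM (testMats.getD k oneC)) ^ e := by
      rw [toM_powC hprod, toM_mul hlen hcl]
    refine rank_ne_four ?_ hbad ?_
    · rw [addOne, List.length_zipWith, hYl]
      rfl
    rw [toM_addOne hYl, hY]
    refine hinv _ (htmem k hk) e ?_ fun h1 => hne ?_
    · rw [sq, ← hY, ← toM_mul hYl hYl, hsq, toM_oneC]
    · exact toM_injective hYl rfl hYlt hone (by rw [hY, h1, toM_oneC])

end CfsgLib.JFourAmalgam.Cert
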