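import Cfsg.Agent.JFourAmalgam.CertTables
import Cfsg.Agent.M23Ext.Loop

/-!
# Matrices of size twelve over the field with two elements, given by the numbers of their rows
-/

set_option autoImplicit false

namespace CfsgLib.JFourAmalgam.Cert

open CfsgLib.Mathieu Matrix

/-- A bit as an element of the field. -/
def bz (n i : ℕ) : ZMod 2 := if n.testBit i then 1 else 0

theorem toV_apply (n : ℕ) (i : Fin 12) : toV n i = bz n i.val := rfl

theorem toM_apply (l : List ℕ) (i j : Fin 12) : toM l i j = bz (l.getD i.val 0) j.val := rfl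

theorem bz_xor (a b i : ℕ) : bz (a ^^^ b) i = bz a i + bz b i := by
  unfold bz
  rw [Nat.testBit_xor]
  cases a.testBit i <;> cases b.testBit i <;> decide

theorem bz_zero (i : ℕ) : bz 0 i = 0 := by simp [bz]

theorem bz_and (a b i : ℕ) : bz (a &&& b) i = bz a i * bz b i := by
  unfold bz
  rw [Nat.testBit_and]
  cases a.testBit i <;> cases b.testBit i <;> decide

theorem toV_xor (a b : ℕ) : toV (a ^^^ b) = toV a + toV b := funext fun i => bz_xor a b i.val

theorem toV_zero : toV 0 = 0 := funext fun i => bz_zero i.val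

theorem sum_xorSel (l : List ℕ) (k m q : ℕ) (hl : l.length = k) :
    bz (xorSel l m) q = ∑ b : Fin k, bz m b.val * bz (l.getD b.val 0) q := by
  rw [M23Ext.additive_xorSel (fun n => bz n q) (bz_zero q) (fun x y => bz_xor x y q), hl,
    ← Fin.sum_univ_eq_sum_range]
  refine Finset.sum_congr rfl fun b _ => ?_
  by_cases h : m.testBit b.val = true <;> simp [bz, h]

theorem vecMul_toM {l : List ℕ} (hl : l.length = 12) (n : ℕ) :
    Matrix.vecMul (toV n) (toM l) = toV (xorSel l n) := by
  funext j
  rw [toV_apply, sum_xorSel l 12 n j.val hl]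
  rfl

theorem row_toM (l : List ℕ) (i : Fin 12) : (toM l).row i = toV (l.getD i.val 0) := rfl

theorem getD_range_map (f : ℕ → ℕ) {n k : ℕ} (hk : k < n) (d : ℕ) :
    ((List.range n).map f).getD k d = f k := by
  simp [List.getD_eq_getElem?_getD, List.getElem?_map, List.getElem?_range, hk]

/-- The product of two row lists. -/
def mulC (a b : List ℕ) : List ℕ := a.map (xorSel b)

/-- The rows of the identity. -/
def oneC : List ℕ := [1, 2, 4, 8, 16, 32, 64, 128, 256, 512, 1024, 2048]

/-- The rows of a power. -/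
def powC (a : List ℕ) : ℕ → List ℕ
  | 0 => oneC
  | k + 1 => mulC (powC a k) a

/-- Adding the identity. -/
def addOne (a : List ℕ) : List ℕ := List.zipWith (· ^^^ ·) a oneC

theorem mulC_length (a b : List ℕ) : (mulC a b).length = a.length := List.length_map _

theorem powC_length {a : List ℕ} : ∀ k, (powC a k).length = 12
  | 0 => rfl
  | k + 1 => (mulC_length _ _).trans (powC_length k)

theorem toM_mul {a b : List ℕ} (ha : a.length = 12) (hb : b.length = 12) :
    toM (mulC a b) = toM a * toM b := by
  ext i j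
  have hi : i.val < a.length := lt_of_lt_of_eq i.isLt ha.symm
  rw [toM_apply, show (mulC a b).getD i.val 0 = xorSel b (a.getD i.val 0) by
    simp [mulC, List.getD_eq_getElem?_getD, List.getElem?_map, List.getElem?_eq_getElem hi],
    sum_xorSel b 12 _ _ hb, Matrix.mul_apply]
  rfl

theorem toM_oneC : toM oneC = 1 := by decide +kernel

theorem toM_powC {a : List ℕ} (ha : a.length = 12) : ∀ k, toM (powC a k) = toM a ^ k
  | 0 => by rw [pow_zero]; exact toM_oneC
  | k + 1 => by rw [powC, toM_mul (powC_length k) ha, toM_powC ha k, pow_succ]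

theorem toM_addOne {a : List ℕ} (ha : a.length = 12) : toM (addOne a) = toM a + 1 := by
  ext i j
  have hi : i.val < a.length := lt_of_lt_of_eq i.isLt ha.symm
  have h1 : i.val < oneC.length := i.isLt
  rw [Matrix.add_apply, toM_apply, toM_apply, ← toM_oneC, toM_apply,
    show (addOne a).getD i.val 0 = a.getD i.val 0 ^^^ oneC.getD i.val 0 by
      simp [addOne, List.getD_eq_getElem?_getD, List.getElem?_zipWith, List.getElem?_eq_getElem hi,
        List.getElem?_eq_getElem h1], bz_xor]

theorem eq_of_toM {a b : List ℕ} (h : a = b) : toM a = toM b := by rw [h]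

theorem toV_injective {a b : ℕ} (ha : a < 4096) (hb : b < 4096) (h : toV a = toV b) : a = b := by
  refine Nat.eq_of_testBit_eq fun i => ?_
  rcases Nat.lt_or_ge i 12 with hi | hi
  · have := congrFun h ⟨i, hi⟩
    simp only [toV] at this
    revert this
    cases a.testBit i <;> cases b.testBit i <;> simp
  · rw [Nat.testBit_lt_two_pow (lt_of_lt_of_le ha (Nat.pow_le_pow_right (by norm_num : 0 < 2) hi)),
      Nat.testBit_lt_two_pow (lt_of_lt_of_le hb (Nat.pow_le_pow_right (by norm_num : 0 < 2) hi))]

/-- Equality of matrices given by rows below 4096. -/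
theorem toM_injective {a b : List ℕ} (ha : a.length = 12) (hb : b.length = 12)
    (ha' : a.all (fun x => Nat.blt x 4096) = true) (hb' : b.all (fun x => Nat.blt x 4096) = true)
    (h : toM a = toM b) : a = b := by
  simp only [List.all_eq_true, Nat.blt_eq] at ha' hb'
  refine List.ext_getElem (ha.trans hb.symm) fun i h1 h2 => ?_
  have := congrFun h ⟨i, lt_of_lt_of_eq h1 ha⟩
  change toV (a.getD i 0) = toV (b.getD i 0) at this
  rw [List.getD_eq_getElem _ _ h1, List.getD_eq_getElem _ _ h2] at this
  exact toV_injective (ha' _ (List.getElem_mem h1)) (hb' _ (List.getElem_mem h2)) this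

/-! ### The squaring map -/

/-- The parity of the low bits. -/
def par : ℕ → ℕ → Bool
  | 0, _ => false
  | k + 1, m => (m % 2 == 1) != par k (m / 2)

theorem sum_bz : ∀ k m : ℕ, (∑ i ∈ Finset.range k, bz m i) = if par k m then 1 else 0
  | 0, _ => by simp [par]
  | k + 1, m => by
    have h : ∀ i, bz m (i + 1) = bz (m / 2) i := fun i => by simp [bz, Nat.testBit_succ]
    rw [Finset.sum_range_succ', Finset.sum_congr rfl fun i _ => h i, sum_bz k, par]
    have h0 : bz m 0 = if (m % 2 == 1) = true then 1 else 0 := by simp [bz, Nat.testBit_zero]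
    rw [h0]
    cases (m % 2 == 1) <;> cases par k (m / 2) <;> decide

/-- The squaring map on numbers. -/
def qC (n : ℕ) : Bool := par 12 (xorSel qUpper n &&& n)

theorem quadJ_toV (n : ℕ) : quadJ (toV n) = if qC n then 1 else 0 := by
  rw [qC, ← sum_bz, ← Fin.sum_univ_eq_sum_range, quadJ, vecMul_toM rfl]
  refine Finset.sum_congr rfl fun i _ => ?_
  rw [bz_and, mul_comm]
  rfl

/-! ### Ranks -/

/-- The span of a list of rows. -/
def spanL (l : List ℕ) : List ℕ :=
  l.foldl (fun S r => if S.contains r then S else S ++ S.map (· ^^^ r)) [0]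

theorem spanL_sub {W : Submodule (ZMod 2) V12} : ∀ (l S : List ℕ), (∀ r ∈ l, toV r ∈ W) →
    (∀ x ∈ S, toV x ∈ W) →
      ∀ x ∈ l.foldl (fun S r => if S.contains r then S else S ++ S.map (· ^^^ r)) S, toV x ∈ W
  | [], _, _, hS => hS
  | r :: l, S, hl, hS => by
    refine spanL_sub l _ (fun y hy => hl y (List.mem_cons_of_mem _ hy)) ?_
    beta_reduce
    split
    · exact hS
    · intro x hx
      rcases List.mem_append.1 hx with hx | hx
      · exact hS x hx
      · obtain ⟨y, hy, rfl⟩ := List.mem_map.1 hx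
        rw [toV_xor]
        exact add_mem (hS y hy) (hl r List.mem_cons_self)

/-- The rank is that of a span of a size other than sixteen. -/
def rankBad (a : List ℕ) : Bool :=
  let S := spanL a
  (S.length != 16) && decide S.Nodup && S.all (fun x => Nat.blt x 4096) && S.contains 0 &&
    a.all (fun r => S.contains r) && S.all (fun x => S.all fun y => S.contains (x ^^^ y))

theorem rank_ne_four {a : List ℕ} (ha : a.length = 12) (h : rankBad a = true) : (toM a).rank ≠ 4 := by
  simp only [rankBad, Bool.and_eq_true, bne_iff_ne, decide_eq_true_eq, List.all_eq_true, Nat.blt_eq,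
    List.contains_iff_mem] at h
  obtain ⟨⟨⟨⟨⟨hne, hnd⟩, hlt⟩, h0⟩, hrow⟩, hclosed⟩ := h
  intro hr
  set W := Submodule.span (ZMod 2) (Set.range (toM a).row)
  have hin : ∀ r ∈ a, toV r ∈ W := fun r hr => by
    obtain ⟨i, hi, rfl⟩ := List.getElem_of_mem hr
    refine Submodule.subset_span ⟨⟨i, lt_of_lt_of_eq hi ha⟩, ?_⟩
    rw [row_toM, List.getD_eq_getElem _ _ hi]
  have hS : ∀ x ∈ spanL a, toV x ∈ W := spanL_sub a [0] hin fun x hx => by
    rw [List.mem_singleton.1 hx, toV_zero]; exact zero_mem _
  let S' : Submodule (ZMod 2) V12 :=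
    { carrier := {v | ∃ x ∈ spanL a, toV x = v}
      zero_mem' := ⟨0, h0, toV_zero⟩
      add_mem' := by
        rintro _ _ ⟨x, hx, rfl⟩ ⟨y, hy, rfl⟩
        exact ⟨_, hclosed x hx y hy, toV_xor x y⟩
      smul_mem' := by
        rintro c _ ⟨x, hx, rfl⟩
        rcases (by decide : ∀ c : ZMod 2, c = 0 ∨ c = 1) c with rfl | rfl
        · exact ⟨0, h0, by rw [toV_zero, zero_smul]⟩
        · exact ⟨x, hx, (one_smul _ _).symm⟩ }
  have hW : ∀ v : W, ∃ x : {x // x ∈ (spanL a).toFinset}, toV x.1 = v.1 := fun v => by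
    obtain ⟨x, hx, e⟩ := (Submodule.span_le (p := S')).2 (by
      rintro _ ⟨i, rfl⟩
      have hi : i.val < a.length := lt_of_lt_of_eq i.isLt ha.symm
      exact ⟨_, hrow _ (List.getElem_mem hi), by rw [row_toM, List.getD_eq_getElem _ _ hi]⟩) v.2
    exact ⟨⟨x, List.mem_toFinset.2 hx⟩, e⟩
  let f : {x // x ∈ (spanL a).toFinset} → W := fun x => ⟨toV x.1, hS _ (List.mem_toFinset.1 x.2)⟩
  have hf : Function.Bijective f := ⟨fun x y e => Subtype.ext (toV_injective
      (hlt _ (List.mem_toFinset.1 x.2)) (hlt _ (List.mem_toFinset.1 y.2)) (congrArg Subtype.val e)),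
    fun v => (hW v).imp fun x e => Subtype.ext e⟩
  have hc := Nat.card_congr (Equiv.ofBijective f hf)
  rw [Nat.card_eq_finsetCard, List.toFinset_card_of_nodup hnd,
    Module.natCard_eq_pow_finrank (K := ZMod 2) (V := W), Nat.card_zmod,
    ← Matrix.rank_eq_finrank_span_row, hr] at hc
  exact hne hc

end CfsgLib.JFourAmalgam.Cert
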