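import Cfsg.Agent.JFourAmalgam.CertBasic

/-!
# The matrices commuting with the element of order three and squaring the element of order five

They form a space of dimension sixteen; a certificate expresses every entry in sixteen free ones.
-/

set_option autoImplicit false
set_option maxRecDepth 100000

namespace CfsgLib.JFourAmalgam.Cert

open CfsgLib.Mathieu Matrix

/-- The mask of the equation `(A X + X A2) i j = 0` on the 144 entries of `X`. -/
def eqMask (A A2 : List ℕ) (i j : ℕ) : ℕ :=
  xorSel ((List.range 12).map fun k => (if (A.getD i 0).testBit k then 2 ^ (12 * k + j) else 0) ^^^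
    (if (A2.getD k 0).testBit j then 2 ^ (12 * i + k) else 0)) 4095

/-- All the equations. -/
def eqList : List ℕ :=
  (List.range 288).map fun q =>
    if q < 144 then eqMask fiveMat (mulC fiveMat fiveMat) (q / 12) (q % 12)
    else eqMask threeMat threeMat ((q - 144) / 12) ((q - 144) % 12)

/-- The value of a mask at a matrix. -/
def ev (β : M12) (e : ℕ) : ZMod 2 :=
  ∑ q : Fin 144, bz e q.val * β ⟨q.val / 12, by omega⟩ ⟨q.val % 12, Nat.mod_lt _ (by norm_num)⟩

theorem ev_zero (β : M12) : ev β 0 = 0 := by simp [ev, bz_zero]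

theorem ev_xor (β : M12) (a b : ℕ) : ev β (a ^^^ b) = ev β a + ev β b := by
  simp only [ev, bz_xor, add_mul, Finset.sum_add_distrib]

theorem ev_two_pow (β : M12) {q : ℕ} (hq : q < 144) :
    ev β (2 ^ q) = β ⟨q / 12, by omega⟩ ⟨q % 12, Nat.mod_lt _ (by norm_num)⟩ := by
  rw [ev, Finset.sum_eq_single ⟨q, hq⟩]
  · simp [bz, Nat.testBit_two_pow]
  · intro r _ hr
    have : q ≠ r.val := fun h => hr (Fin.ext h.symm)
    simp [bz, Nat.testBit_two_pow, this]
  · simp

theorem ev_pair (β : M12) (k j : Fin 12) : ev β (2 ^ (12 * k.val + j.val)) = β k j := by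
  rw [ev_two_pow β (by omega)]
  congr 1 <;> exact Fin.ext (by simp only; omega)

theorem ev_ite (β : M12) (n i : ℕ) (e : ℕ) :
    ev β (if n.testBit i then e else 0) = bz n i * ev β e := by
  by_cases h : n.testBit i = true <;> simp [bz, h, ev_zero]

theorem ev_eqMask (β : M12) (A A2 : List ℕ) (i j : Fin 12) :
    ev β (eqMask A A2 i.val j.val) = (toM A * β + β * toM A2) i j := by
  rw [eqMask, M23Ext.additive_xorSel (ev β) (ev_zero β) (ev_xor β), List.length_map, List.length_range,
    ← Fin.sum_univ_eq_sum_range, Matrix.add_apply, Matrix.mul_apply, Matrix.mul_apply,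
    ← Finset.sum_add_distrib]
  refine Finset.sum_congr rfl fun k _ => ?_
  have h1 : (4095 : ℕ).testBit k.val = true :=
    (by decide +kernel : ∀ k : Fin 12, (4095 : ℕ).testBit k.val = true) k
  rw [if_pos h1, getD_range_map _ k.isLt, ev_xor, ev_ite, ev_ite, ev_pair, ev_pair,
    toM_apply, toM_apply, mul_comm (bz (A2.getD k.val 0) j.val)]

/-- The mask of the free entries in the expression of an entry. -/
def freeMask (q : ℕ) : ℕ :=
  xorSel ((List.range 16).map fun b =>
    if (commBasis.getD b 0).testBit q then 2 ^ freePos.getD b 0 else 0) 65535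

theorem comm_ok : (allBelow 144 fun q =>
    xorSel eqList (commCerts.getD q 0) == 2 ^ q ^^^ freeMask q) = true := by
  decide +kernel

theorem freePos_lt : ∀ b : Fin 16, freePos.getD b.val 0 < 144 := by decide +kernel

/-- The rows of the matrix with given coefficients. -/
def rowsOf (m : ℕ) : List ℕ :=
  (List.range 12).map fun i => (xorSel commBasis m / 2 ^ (12 * i)) % 4096

theorem rowsOf_length (m : ℕ) : (rowsOf m).length = 12 := by simp [rowsOf]

/-- A matrix with the two commuting properties is in the span of the sixteen basic ones. -/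
theorem exists_coeff (β : M12) (h3 : β * toM threeMat = toM threeMat * β)
    (h5 : toM fiveMat * β = β * toM fiveMat ^ 2) : ∃ m < 65536, β = toM (rowsOf m) := by
  have hz : ∀ x y : M12, x = y → ∀ i j, (x + y) i j = 0 := fun x y h i j => by
    rw [h, Matrix.add_apply]; exact CharTwo.add_self_eq_zero _
  have heq : ∀ e ∈ eqList, ev β e = 0 := by
    intro e he
    obtain ⟨q, hq, rfl⟩ := List.mem_map.1 he
    rw [List.mem_range] at hq
    split_ifs with h
    · rw [ev_eqMask β _ _ ⟨q / 12, by omega⟩ ⟨q % 12, Nat.mod_lt _ (by norm_num)⟩, toM_mul rfl rfl, ← sq]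
      exact hz _ _ h5 _ _
    · rw [ev_eqMask β _ _ ⟨(q - 144) / 12, by omega⟩ ⟨(q - 144) % 12, Nat.mod_lt _ (by norm_num)⟩]
      exact hz _ _ h3.symm _ _
  let c : Fin 16 → ZMod 2 := fun b =>
    β ⟨freePos.getD b.val 0 / 12, by have := freePos_lt b; omega⟩
      ⟨freePos.getD b.val 0 % 12, Nat.mod_lt _ (by norm_num)⟩
  let m := Nat.ofBits fun b => decide (c b = 1)
  have hm : ∀ b : Fin 16, bz m b.val = c b := fun b => by
    show (if m.testBit b.val = true then (1 : ZMod 2) else 0) = _
    rw [Nat.testBit_ofBits_lt _ _ b.isLt]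
    rcases (by decide : ∀ x : ZMod 2, x = 0 ∨ x = 1) (c b) with e | e <;> simp [e]
  refine ⟨m, Nat.ofBits_lt_two_pow _, ?_⟩
  ext i j
  have hq : 12 * i.val + j.val < 144 := by omega
  have h0 : ev β (xorSel eqList (commCerts.getD (12 * i.val + j.val) 0)) = 0 :=
    xorSel_induction (fun e => ev β e = 0) (ev_zero β)
      (fun a b ha hb => by rw [ev_xor, ha, hb, add_zero]) _ _ heq
  rw [beq_iff_eq.1 (allBelow_iff.1 comm_ok _ hq), ev_xor, ev_pair, freeMask,
    M23Ext.additive_xorSel (ev β) (ev_zero β) (ev_xor β), List.length_map, List.length_range,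
    ← Fin.sum_univ_eq_sum_range] at h0
  rw [CharTwo.add_eq_zero.1 h0, toM_apply, rowsOf, getD_range_map _ i.isLt]
  have hb : bz (xorSel commBasis m / 2 ^ (12 * i.val) % 4096) j.val =
      bz (xorSel commBasis m) (12 * i.val + j.val) := by
    simp only [bz, show (4096 : ℕ) = 2 ^ 12 from rfl, Nat.testBit_mod_two_pow, Nat.testBit_div_two_pow,
      j.isLt, decide_true, Bool.true_and, Nat.add_comm (12 * i.val) j.val]
  rw [hb, sum_xorSel commBasis 16 _ _ (by decide +kernel)]
  refine Finset.sum_congr rfl fun b _ => ?_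
  have h1 : (65535 : ℕ).testBit b.val = true :=
    (by decide +kernel : ∀ b : Fin 16, (65535 : ℕ).testBit b.val = true) b
  rw [if_pos h1, getD_range_map _ b.isLt, ev_ite, ev_two_pow β (freePos_lt b), hm, mul_comm]

end CfsgLib.JFourAmalgam.Cert
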