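import Cfsg.Agent.JFourAmalgam.CertComm

/-!
# The enumeration of the candidates for an element normalising an element of order five

A matrix preserving the squaring map, commuting with the element of order three, squaring the element of
order five by conjugation, with fourth power one and with the stated rank of the involutions among the powers
of its products with the two test elements generates, with the parabolic, either `t` or its conjugate by the
twist.
-/

set_option autoImplicit false
set_option maxRecDepth 100000

namespace CfsgLib.JFourAmalgam.Cert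

open CfsgLib.Mathieu Matrix

/-- The squaring map on the new rows and on their sums with all rows so far. -/
def isoOK (prev rows : List ℕ) (R : List ℕ) : Bool :=
  rows.all fun i => !(qC (R.getD i 0)) && (prev ++ rows).all fun j =>
    Nat.ble i j || qC (R.getD i 0 ^^^ R.getD j 0) == qC (2 ^ i ^^^ 2 ^ j)

/-- The row sets of the four stages. -/
def stage0 : List ℕ := [0]

/-- The second stage. -/
def stage1 : List ℕ := [1, 2, 3, 4, 5]

/-- The third stage. -/
def stage2 : List ℕ := [7, 9, 11]

/-- The last stage. -/
def stage3 : List ℕ := [6, 8, 10]

/-- Rows supported only on the first coefficients. -/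
def suppOK (rows : List ℕ) (k : ℕ) : Bool :=
  rows.all fun i => Nat.blt i 12 && allBelow 16 fun b =>
    Nat.blt b k || (commBasis.getD b 0 / 2 ^ (12 * i)) % 4096 == 0

theorem supp_ok : suppOK stage0 4 = true ∧ suppOK (stage0 ++ stage1) 8 = true ∧
    suppOK (stage0 ++ stage1 ++ stage2) 13 = true := by
  decide +kernel

/-- A letter: a member of `pMats`, or the candidate. -/
def letC (X : List ℕ) (k : ℕ) : List ℕ := (pMats ++ [X]).getD k oneC

/-- The value of a word. -/
def wordC (X : List ℕ) : List ℕ → List ℕ
  | [] => oneC
  | k :: w => mulC (letC X k) (wordC X w)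

/-- The check of one certificate. -/
def certOK (X : List ℕ) : ℕ → List ℕ → ℕ → Bool
  | 0, w, _ => w.all (fun k => Nat.blt k 17) && wordC X w == tMat
  | 1, w, _ => w.all (fun k => Nat.blt k 17) && wordC X w == mulC hMat (mulC tMat hMat)
  | k + 2, _, e =>
    Nat.blt k 2 &&
      (let Y := powC (mulC X (testMats.getD k oneC)) e
       Y.all (fun x => Nat.blt x 4096) && mulC Y Y == oneC && !(Y == oneC) && rankBad (addOne Y))

/-- The candidate is certified. -/
def covered (m : ℕ) : Bool :=
  candCerts.any fun x => x.1 == m && certOK (rowsOf m) x.2.1 x.2.2.1 x.2.2.2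

theorem xorSel_two_pow : ∀ (l : List ℕ) (i : ℕ), xorSel l (2 ^ i) = l.getD i 0
  | [], i => by simp [xorSel]
  | r :: l, 0 => by
    have h : ∀ l : List ℕ, xorSel l 0 = 0 := by
      intro l; induction l with
      | nil => rfl
      | cons r l ih => simp [xorSel, ih]
    simp [xorSel, h]
  | r :: l, i + 1 => by
    rw [xorSel, pow_succ, Nat.mul_mod_left, if_neg (by norm_num), Nat.zero_xor,
      Nat.mul_div_cancel _ (by norm_num : 0 < 2), xorSel_two_pow l i]
    rfl

/-- The enumeration. -/
def enumOK : Bool :=
  allBelow 16 fun a => !(isoOK [] stage0 (rowsOf a)) || allBelow 16 fun b =>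
    !(isoOK stage0 stage1 (rowsOf (a + 16 * b))) || allBelow 32 fun c =>
      !(isoOK (stage0 ++ stage1) stage2 (rowsOf (a + 16 * b + 256 * c))) || allBelow 8 fun d =>
        let m := a + 16 * b + 256 * c + 8192 * d
        !(isoOK (stage0 ++ stage1 ++ stage2) stage3 (rowsOf m) && powC (rowsOf m) 4 == oneC) || covered m

set_option maxHeartbeats 2000000 in
theorem enum_ok : enumOK = true := by decide +kernel

end CfsgLib.JFourAmalgam.Cert
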