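import Cfsg.Agent.JFourAmalgam.Config

/-!
# Kernel checks: the first relation
-/

set_option autoImplicit false
set_option maxRecDepth 100000

namespace CfsgLib.JFourAmalgam

open CfsgLib.JankoFour

/-- A check of the configuration. -/
theorem ok_aW : isP HBound.aW = true := by decide +kernel

/-- A check of the configuration. -/
theorem ok_l : eqW (Words.l ++ [3]) ([3] ++ Words.l) = true := by decide +kernel

/-- A check of the configuration. -/
theorem ok_l2 : eqW (Words.l2 ++ [3]) ([3] ++ Words.l2) = true := by decide +kernel

/-- A check of the configuration. -/
theorem ok_by : isP (Words.b ++ [1] ++ HBound.winv Words.b) = true := by decide +kernel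

/-- A check of the configuration. -/
theorem ok_first : isP (Words.b ++ HBound.winv uWord ++ Words.l) = true := by decide +kernel

/-- A check of the configuration. -/
theorem ok_pW : isP HBound.pW = true := by decide +kernel

end CfsgLib.JFourAmalgam
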