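import Cfsg.Agent.JFourAmalgam.Config

/-!
# Kernel checks: the frames of the second relation
-/

set_option autoImplicit false
set_option maxRecDepth 100000

namespace CfsgLib.JFourAmalgam

open CfsgLib.JankoFour

/-- A check of the configuration. -/
theorem ok_four : isP (Words.c ++ HBound.winv HBound.vW ++ Words.l2) = true := by decide +kernel

/-- A check of the configuration. -/
theorem ok_n1 : isP Words.n1 = true := by decide +kernel

/-- A check of the configuration. -/
theorem ok_n2 : isP Words.n2 = true := by decide +kernel

/-- A check of the configuration. -/
theorem ok_n3 : isP Words.n3 = true := by decide +kernel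

/-- A check of the configuration. -/
theorem ok_step1 : isP (Words.c ++ Words.n1 ++ [0]) = true := by decide +kernel

end CfsgLib.JFourAmalgam
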