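import Cfsg.Agent.JFourAmalgam.Config

/-!
# Kernel checks: membership in `dJ`, first part
-/

set_option autoImplicit false
set_option maxRecDepth 100000

namespace CfsgLib.JFourAmalgam

open CfsgLib.JankoFour

/-- A check of the configuration. -/
theorem ok_step3 : isP ([0] ++ HBound.winv Words.n2 ++ (HBound.winv Words.c ++ Words.n3 ++ [0])) = true := by decide +kernel

/-- A check of the configuration. -/
theorem ok_h : isD Words.hPieces = true := by decide +kernel

/-- A check of the configuration. -/
theorem ok_hc : isD Words.hcPieces = true := by decide +kernel

/-- A check of the configuration. -/
theorem ok_g : isD Words.gPieces = true := by decide +kernel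

end CfsgLib.JFourAmalgam
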