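import Cfsg.Agent.JFourAmalgam.Config

/-!
# Kernel checks: membership in `dJ`, second part
-/

set_option autoImplicit false
set_option maxRecDepth 100000

namespace CfsgLib.JFourAmalgam

open CfsgLib.JankoFour

/-- A check of the configuration. -/
theorem ok_t : isD Words.tPieces = true := by decide +kernel

/-- A check of the configuration. -/
theorem ok_b : isD Words.bPieces = true := by decide +kernel

/-- A check of the configuration. -/
theorem dom_h : eqW hW Words.hPieces.flatten = true := by decide +kernel

/-- A check of the configuration. -/
theorem dom_hi : eqW (hW ++ hiW) [] = true := by decide +kernel

/-- A check of the configuration. -/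
theorem dom_hc : eqW (Words.c ++ hW ++ HBound.winv Words.c) Words.hcPieces.flatten = true := by decide +kernel

end CfsgLib.JFourAmalgam
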