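import Cfsg.Agent.JFourAmalgam.Config

/-!
# Kernel checks: membership in `dJ`, third part
-/

set_option autoImplicit false
set_option maxRecDepth 100000

namespace CfsgLib.JFourAmalgam

open CfsgLib.JankoFour

/-- A check of the configuration. -/
theorem dom_g : eqW ([0] ++ HBound.winv Words.n2 ++ hiW ++ HBound.pW ++ hW ++ Words.n2 ++ [0]) Words.gPieces.flatten = true := by decide +kernel

/-- A check of the configuration. -/
theorem dom_t : eqW ([0] ++ HBound.winv Words.n2 ++ hiW ++ [3] ++ hW ++ Words.n2 ++ [0]) Words.tPieces.flatten = true := by decide +kernel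

/-- A check of the configuration. -/
theorem dom_b : eqW ([0] ++ HBound.winv Words.n3 ++ (Words.c ++ hiW ++ (HBound.winv HBound.vW ++ [3] ++ HBound.vW) ++
      hW ++ HBound.winv Words.c) ++ Words.n3 ++ [0]) Words.bPieces.flatten = true := by decide +kernel

end CfsgLib.JFourAmalgam
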