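import Mathlib.GroupTheory.Index
import Mathlib.Tactic.Group

/-!
# Two glued subgroups and the two long relations

A homomorphism on a subgroup `N` and one on a subgroup `D` agree on `P ≤ N ⊓ D`. `val n d` is the value
given to `n * d * n⁻¹`. When the maps are compatible under an involution `x` of `N`, the two long
relations hold for the images of any elements satisfying the listed configuration.
-/

set_option autoImplicit false

namespace CfsgLib.JFourAmalgam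

variable {J G : Type*} [Group J] [Group G]

/-- Two maps agreeing on a common subgroup. -/
structure Glue (J G : Type*) [Group J] [Group G] where
  /-- the first subgroup -/
  N : Subgroup J
  /-- the second subgroup -/
  D : Subgroup J
  /-- the common subgroup -/
  P : Subgroup J
  PN : P ≤ N
  PD : P ≤ D
  /-- the first map -/
  eN : N →* G
  /-- the second map -/
  eD : D →* G
  agree : ∀ (p : J) (hp : p ∈ P), eN ⟨p, PN hp⟩ = eD ⟨p, PD hp⟩
  /-- the involution of the first subgroup -/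
  x : J
  x_mem : x ∈ N
  x_sq : x * x = 1

namespace Glue

variable (A : Glue J G)

/-- The value of the first map. -/
def n (a : A.N) : G := A.eN a

/-- The value given to `a * d * a⁻¹`. -/
def val (a : A.N) (d : A.D) : G := A.eN a * A.eD d * (A.eN a)⁻¹

theorem val_mul (a : A.N) (d d' : A.D) : A.val a (d * d') = A.val a d * A.val a d' := by
  simp only [val, map_mul]; group

theorem val_one (a : A.N) : A.val a 1 = 1 := by simp [val]

theorem val_one_left (d : A.D) : A.val 1 d = A.eD d := by simp [val]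

theorem val_mul_P (a : A.N) {p : J} (hp : p ∈ A.P) (d : A.D) :
    A.val (a * ⟨p, A.PN hp⟩) d = A.val a (⟨p, A.PD hp⟩ * d * ⟨p, A.PD hp⟩⁻¹) := by
  simp only [val, map_mul, map_inv, A.agree p hp]; group

theorem conj_val (a b : A.N) (d : A.D) : A.eN a * A.val b d * (A.eN a)⁻¹ = A.val (a * b) d := by
  simp only [val, map_mul]; group

/-- The element `x` in `N`. -/
def xN : A.N := ⟨A.x, A.x_mem⟩

/-- Compatibility under `x`. -/
def Compat : Prop :=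
  ∀ (d d' : A.D), (d' : J) = A.x * d * A.x → A.val 1 d = A.val A.xN d'

theorem compat_conj (hc : A.Compat) (a : A.N) {d d' : A.D} (h : (d' : J) = A.x * d * A.x) :
    A.val a d = A.val (a * A.xN) d' := by
  rw [← A.conj_val a A.xN, ← hc d d' h, A.conj_val, mul_one]

/-- Transport between two frames with equal `P`-cosets. -/
theorem val_eq_of_coset {a b : A.N} (h : ((a⁻¹ * b : A.N) : J) ∈ A.P) {d d' : A.D}
    (hd : (b : J) * d' * (b : J)⁻¹ = (a : J) * d * (a : J)⁻¹) : A.val a d = A.val b d' := by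
  have hb : b = a * ⟨_, A.PN h⟩ := Subtype.ext (by simp)
  rw [hb, A.val_mul_P a h d']
  congr 1
  refine Subtype.ext ?_
  simp only [Subgroup.coe_mul, Subgroup.coe_inv] at hd ⊢
  calc (d : J) = (a : J)⁻¹ * ((a : J) * d * (a : J)⁻¹) * (a : J) := by group
    _ = _ := by rw [← hd]; group

/-- Two frames through `x`. -/
theorem val_eq_step (hc : A.Compat) {a b : A.N} {n : J} (hn : n ∈ A.P)
    (hb : (b : J)⁻¹ * ((a : J) * n * A.x) ∈ A.P) {d d' e : A.D}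
    (he : (e : J) = A.x * (n⁻¹ * d * n) * A.x)
    (hd : (b : J) * d' * (b : J)⁻¹ = (a : J) * d * (a : J)⁻¹) : A.val a d = A.val b d' := by
  let nN : A.N := ⟨n, A.PN hn⟩
  let nD : A.D := ⟨n, A.PD hn⟩
  let d0 : A.D := nD⁻¹ * d * nD
  have h1 : A.val a d = A.val (a * nN) d0 := by
    rw [A.val_mul_P a hn]
    congr 1
    show d = nD * (nD⁻¹ * d * nD) * nD⁻¹
    group
  rw [h1, A.compat_conj hc (a * nN) (d := d0) (d' := e) he]
  refine (A.val_eq_of_coset (a := b) (b := a * nN * A.xN) ?_ ?_).symm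
  · simpa [xN, nN] using hb
  · rw [hd, he]
    simp only [Subgroup.coe_mul, xN, nN]
    calc (a : J) * n * A.x * (A.x * (n⁻¹ * (d : J) * n) * A.x) * ((a : J) * n * A.x)⁻¹
        = (a : J) * n * (A.x * A.x) * (n⁻¹ * (d : J) * n) * (n⁻¹ * (a : J)⁻¹) := by group
      _ = _ := by rw [A.x_sq]; group

/-- The image of `t` commutes with the image of `x`. -/
theorem comm_x (hc : A.Compat) {t : J} (ht : t ∈ A.D) (h : A.x * t = t * A.x) :
    A.eD ⟨t, ht⟩ * A.eN A.xN = A.eN A.xN * A.eD ⟨t, ht⟩ := by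
  have := hc ⟨t, ht⟩ ⟨t, ht⟩ (by rw [h, mul_assoc, A.x_sq, mul_one])
  simp only [val, map_one, one_mul, inv_one, mul_one] at this
  calc A.eD ⟨t, ht⟩ * A.eN A.xN = A.eN A.xN * A.eD ⟨t, ht⟩ * (A.eN A.xN)⁻¹ * A.eN A.xN := by rw [← this]
    _ = _ := by group

/-- The image of `t` commutes with the image of an element of `P` commuting with `t`. -/
theorem comm_P {t l : J} (ht : t ∈ A.D) (hl : l ∈ A.P) (h : t * l = l * t) :
    A.eD ⟨t, ht⟩ * A.eN ⟨l, A.PN hl⟩ = A.eN ⟨l, A.PN hl⟩ * A.eD ⟨t, ht⟩ := by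
  rw [A.agree l hl, ← map_mul, ← map_mul]
  exact congrArg A.eD (Subtype.ext h)

/-- The first long relation. -/
theorem first_relation {t : J} (ht : t ∈ A.D) (y a b l : A.N)
    (hl : A.eD ⟨t, ht⟩ * A.eN l = A.eN l * A.eD ⟨t, ht⟩) (hl' : t * (l : J) = (l : J) * t)
    (hm : (b : J) * y * (b : J)⁻¹ ∈ A.P) (hn : (b : J) * (a : J)⁻¹ * l ∈ A.P)
    (hr : ((y : J) * ((a : J)⁻¹ * t * a)) ^ 3 = 1) :
    (A.eN y * ((A.eN a)⁻¹ * A.eD ⟨t, ht⟩ * A.eN a)) ^ 3 = 1 := by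
  let tD : A.D := ⟨t, ht⟩
  let m : A.D := ⟨_, A.PD hm⟩
  let k : A.D := ⟨_, A.PD hn⟩
  have e1 : A.eD m = A.eN b * A.eN y * (A.eN b)⁻¹ := by
    rw [← A.agree _ hm, ← map_mul, ← map_inv, ← map_mul]; rfl
  have e2 : A.eD k = A.eN b * (A.eN a)⁻¹ * A.eN l := by
    rw [← A.agree _ hn, ← map_inv, ← map_mul, ← map_mul]; rfl
  have h3 : (m * (k * tD * k⁻¹)) ^ 3 = 1 := by
    refine Subtype.ext ?_
    simp only [SubmonoidClass.coe_pow, Subgroup.coe_mul, Subgroup.coe_inv, OneMemClass.coe_one, m, k, tD]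
    have e : (b : J) * (a : J)⁻¹ * l * t * ((b : J) * (a : J)⁻¹ * l)⁻¹ =
        (b : J) * ((a : J)⁻¹ * t * a) * (b : J)⁻¹ := by
      calc (b : J) * (a : J)⁻¹ * l * t * ((b : J) * (a : J)⁻¹ * l)⁻¹
          = (b : J) * (a : J)⁻¹ * ((l : J) * t) * (l : J)⁻¹ * ((a : J) * (b : J)⁻¹) := by group
        _ = _ := by rw [← hl']; group
    rw [e, show (b : J) * y * (b : J)⁻¹ * ((b : J) * ((a : J)⁻¹ * t * a) * (b : J)⁻¹) =
      (b : J) * ((y : J) * ((a : J)⁻¹ * t * a)) * (b : J)⁻¹ by group, conj_pow, hr]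
    group
  have h := congrArg A.eD h3
  rw [map_pow, map_mul, map_mul, map_mul, map_inv, map_one, e1, e2] at h
  have e : A.eN b * (A.eN a)⁻¹ * A.eN l * A.eD tD * (A.eN b * (A.eN a)⁻¹ * A.eN l)⁻¹ =
      A.eN b * ((A.eN a)⁻¹ * A.eD tD * A.eN a) * (A.eN b)⁻¹ := by
    calc A.eN b * (A.eN a)⁻¹ * A.eN l * A.eD tD * (A.eN b * (A.eN a)⁻¹ * A.eN l)⁻¹
        = A.eN b * (A.eN a)⁻¹ * (A.eN l * A.eD tD) * (A.eN l)⁻¹ * (A.eN a * (A.eN b)⁻¹) := by group
      _ = _ := by rw [← hl]; simp only [tD]; group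
  rw [e, show A.eN b * A.eN y * (A.eN b)⁻¹ * (A.eN b * ((A.eN a)⁻¹ * A.eD tD * A.eN a) * (A.eN b)⁻¹) =
    A.eN b * (A.eN y * ((A.eN a)⁻¹ * A.eD tD * A.eN a)) * (A.eN b)⁻¹ by group, conj_pow] at h
  exact conj_eq_one_iff.1 h

/-- The configuration of the second long relation. -/
structure Second (A : Glue J G) (t g : J) where
  t_mem : t ∈ A.D
  g_mem : g ∈ A.P
  /-- the conjugating element of the relation -/
  b : A.N
  /-- an element of the stabiliser of `t` -/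
  l : A.N
  l_t : t * (l : J) = (l : J) * t
  l_comm : A.eD ⟨t, t_mem⟩ * A.eN l = A.eN l * A.eD ⟨t, t_mem⟩
  /-- the frame of the conjugate of `t` -/
  c : A.N
  four : (c : J) * (b : J)⁻¹ * l ∈ A.P
  /-- the conjugator -/
  h : A.D
  h_c : (c : J) * h * (c : J)⁻¹ ∈ A.D
  /-- from the base frame to the frame `c⁻¹` -/
  n₁ : J
  n₁_mem : n₁ ∈ A.P
  step₁ : (c : J) * n₁ * A.x ∈ A.P
  /-- from the base frame to the last frame -/
  n₂ : J
  n₂_mem : n₂ ∈ A.P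
  /-- from the frame `c⁻¹` to the last frame -/
  n₃ : J
  n₃_mem : n₃ ∈ A.P
  step₃ : (n₂ * A.x)⁻¹ * ((c : J)⁻¹ * n₃ * A.x) ∈ A.P
  g_dom : A.x * (n₂⁻¹ * ((h : J)⁻¹ * g * h) * n₂) * A.x ∈ A.D
  t_dom : A.x * (n₂⁻¹ * ((h : J)⁻¹ * t * h) * n₂) * A.x ∈ A.D
  b_dom : A.x * (n₃⁻¹ * ((c : J) * h⁻¹ * ((b : J)⁻¹ * t * b) * h * (c : J)⁻¹) * n₃) * A.x ∈ A.D

/-- The second long relation. -/
theorem second_relation (hc : A.Compat) {t g : J} (S : Second A t g)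
    (hr : (g * t * ((S.b : J)⁻¹ * t * S.b)) ^ 2 = 1) :
    (A.eN ⟨g, A.PN S.g_mem⟩ * A.eD ⟨t, S.t_mem⟩ *
      ((A.eN S.b)⁻¹ * A.eD ⟨t, S.t_mem⟩ * A.eN S.b)) ^ 2 = 1 := by
  let tD : A.D := ⟨t, S.t_mem⟩
  let gD : A.D := ⟨g, A.PD S.g_mem⟩
  let k : A.D := ⟨_, A.PD S.four⟩
  let hC : A.D := ⟨_, S.h_c⟩
  let bC : A.D := k * tD * k⁻¹
  have hbC : (bC : J) = (S.c : J) * ((S.b : J)⁻¹ * t * S.b) * (S.c : J)⁻¹ := by
    show (S.c : J) * (S.b : J)⁻¹ * S.l * t * ((S.c : J) * (S.b : J)⁻¹ * S.l)⁻¹ = _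
    calc (S.c : J) * (S.b : J)⁻¹ * S.l * t * ((S.c : J) * (S.b : J)⁻¹ * S.l)⁻¹
        = (S.c : J) * (S.b : J)⁻¹ * ((S.l : J) * t) * (S.l : J)⁻¹ * ((S.b : J) * (S.c : J)⁻¹) := by group
      _ = _ := by rw [← S.l_t]; group
  have eB : (A.eN S.b)⁻¹ * A.eD tD * A.eN S.b = A.val S.c⁻¹ bC := by
    have ek : A.eD k = A.eN S.c * (A.eN S.b)⁻¹ * A.eN S.l := by
      rw [← A.agree _ S.four, ← map_inv, ← map_mul, ← map_mul]; rfl
    rw [val, map_mul, map_mul, map_inv, map_inv, ek]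
    calc (A.eN S.b)⁻¹ * A.eD tD * A.eN S.b
        = (A.eN S.b)⁻¹ * (A.eD tD * A.eN S.l) * (A.eN S.l)⁻¹ * A.eN S.b := by group
      _ = _ := by rw [S.l_comm]; simp only [tD]; group
  let e1 : A.D := ⟨_, A.PD S.step₁⟩
  let h' : A.D := e1⁻¹ * hC * e1
  have eh : A.val 1 S.h = A.val S.c⁻¹ hC := by
    refine A.val_eq_step hc S.n₁_mem (e := h') (by simpa [mul_assoc] using S.step₁) ?_ (by simp [hC]; group)
    simp only [h', e1, hC, Subgroup.coe_mul, Subgroup.coe_inv]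
    rw [show A.x * (S.n₁⁻¹ * (S.h : J) * S.n₁) * A.x = A.x⁻¹ * (S.n₁⁻¹ * (S.h : J) * S.n₁) * A.x by
      rw [inv_eq_of_mul_eq_one_right A.x_sq]]
    group
  let f : A.N := ⟨S.n₂ * A.x, mul_mem (A.PN S.n₂_mem) A.x_mem⟩
  let dg : A.D := ⟨_, S.g_dom⟩
  let dt : A.D := ⟨_, S.t_dom⟩
  let b' : A.D := hC⁻¹ * bC * hC
  have hb' : (b' : J) = (S.c : J) * (S.h : J)⁻¹ * ((S.b : J)⁻¹ * t * S.b) * S.h * (S.c : J)⁻¹ := by
    simp only [b', Subgroup.coe_mul, Subgroup.coe_inv, hbC, hC]; group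
  let db0 : A.D := ⟨_, S.b_dom⟩
  let e3 : A.D := ⟨_, A.PD S.step₃⟩
  let db : A.D := e3 * db0 * e3⁻¹
  have xi : A.x⁻¹ = A.x := inv_eq_of_mul_eq_one_right A.x_sq
  have conjf : ∀ (u : J) (d : A.D), (d : J) = A.x * (S.n₂⁻¹ * u * S.n₂) * A.x →
      (f : J) * d * (f : J)⁻¹ = u := fun u d hd => by
    show S.n₂ * A.x * d * (S.n₂ * A.x)⁻¹ = u
    rw [hd]
    calc S.n₂ * A.x * (A.x * (S.n₂⁻¹ * u * S.n₂) * A.x) * (S.n₂ * A.x)⁻¹
        = S.n₂ * (A.x * A.x) * (S.n₂⁻¹ * u * S.n₂) * S.n₂⁻¹ := by group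
      _ = u := by rw [A.x_sq]; group
  have eg : A.val 1 (S.h⁻¹ * gD * S.h) = A.val f dg := by
    refine A.val_eq_step hc S.n₂_mem (e := dg) (by simpa [f] using one_mem A.P) rfl ?_
    rw [conjf _ dg rfl]
    simp [gD]
  have et : A.val 1 (S.h⁻¹ * tD * S.h) = A.val f dt := by
    refine A.val_eq_step hc S.n₂_mem (e := dt) (by simpa [f] using one_mem A.P) rfl ?_
    rw [conjf _ dt rfl]
    simp [tD]
  have hdb : (db : J) = A.x * (S.n₂⁻¹ * ((S.h : J)⁻¹ * ((S.b : J)⁻¹ * t * S.b) * S.h) * S.n₂) * A.x := by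
    simp only [db, e3, db0, Subgroup.coe_mul, Subgroup.coe_inv, mul_inv_rev, xi]
    calc _ = A.x * S.n₂⁻¹ * (S.c : J)⁻¹ * S.n₃ * (A.x * A.x) *
          (S.n₃⁻¹ * ((S.c : J) * (S.h : J)⁻¹ * ((S.b : J)⁻¹ * t * S.b) * S.h * (S.c : J)⁻¹) * S.n₃) *
          (A.x * A.x) * (S.n₃⁻¹ * (S.c : J)) * S.n₂ * A.x := by group
      _ = _ := by rw [A.x_sq]; group
  have eb : A.val S.c⁻¹ b' = A.val f db := by
    refine A.val_eq_step hc S.n₃_mem (e := db0) ?_ (by rw [hb']; rfl) ?_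
    · simpa [f] using S.step₃
    · rw [conjf _ db hdb, hb']
      simp only [Subgroup.coe_inv]; group
  have hz : (dg * dt * db) ^ 2 = 1 := by
    refine Subtype.ext ?_
    simp only [SubmonoidClass.coe_pow, Subgroup.coe_mul, OneMemClass.coe_one, hdb, dg, dt]
    have : A.x * (S.n₂⁻¹ * ((S.h : J)⁻¹ * g * S.h) * S.n₂) * A.x *
        (A.x * (S.n₂⁻¹ * ((S.h : J)⁻¹ * t * S.h) * S.n₂) * A.x) *
        (A.x * (S.n₂⁻¹ * ((S.h : J)⁻¹ * ((S.b : J)⁻¹ * t * S.b) * S.h) * S.n₂) * A.x) =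
        ((S.h : J) * S.n₂ * A.x)⁻¹ * (g * t * ((S.b : J)⁻¹ * t * S.b)) * ((S.h : J) * S.n₂ * A.x) := by
      calc _ = A.x * (S.n₂⁻¹ * ((S.h : J)⁻¹ * g * S.h) * S.n₂) * (A.x * A.x) *
            (S.n₂⁻¹ * ((S.h : J)⁻¹ * t * S.h) * S.n₂) * (A.x * A.x) *
            (S.n₂⁻¹ * ((S.h : J)⁻¹ * ((S.b : J)⁻¹ * t * S.b) * S.h) * S.n₂) * A.x := by group
        _ = _ := by rw [A.x_sq, mul_inv_rev, xi]; group
    rw [this, pow_two]
    calc _ = ((S.h : J) * S.n₂ * A.x)⁻¹ * (g * t * ((S.b : J)⁻¹ * t * S.b)) ^ 2 *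
          ((S.h : J) * S.n₂ * A.x) := by rw [pow_two]; group
      _ = 1 := by rw [hr]; group
  have hG : A.eD gD = A.eN ⟨g, A.PN S.g_mem⟩ := (A.agree g S.g_mem).symm
  have key : (A.eD S.h)⁻¹ * (A.eD gD * A.eD tD * ((A.eN S.b)⁻¹ * A.eD tD * A.eN S.b)) * A.eD S.h =
      A.val f (dg * dt * db) := by
    have eb' : A.val S.c⁻¹ b' = (A.eD S.h)⁻¹ * A.val S.c⁻¹ bC * A.eD S.h := by
      rw [A.val_one_left] at eh
      rw [eh]; simp only [b', val, map_mul, map_inv]; group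
    rw [A.val_mul, A.val_mul, ← eg, ← et, ← eb, eb', A.val_one_left, A.val_one_left, eB, map_mul, map_mul,
      map_mul, map_mul, map_inv]
    group
  have h2 := congrArg (A.val f) hz
  rw [pow_two, A.val_mul, ← key, A.val_one, hG] at h2
  rw [pow_two, ← conj_eq_one_iff (a := (A.eD S.h)⁻¹), inv_inv]
  calc _ = _ := by simp only [tD]; group
    _ = (1 : G) := h2

end Glue

end CfsgLib.JFourAmalgam
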