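import Cfsg.Agent.JFourAmalgam.Defs
import Cfsg.Agent.JFourAmalgam.Glue

/-!
# Compatibility of the glued maps on the common centralizer of `zJ` and its conjugate under `x`

On `K = dJ ∩ dJ^x` the two candidate maps agree on `K ∩ HJ` and act alike on the centralizer of `zJ'`
in `oJ`, so their quotient is a homomorphism into `⟨z, z'⟩` that is trivial on a subgroup of odd index.
-/

set_option autoImplicit false

namespace CfsgLib.JFourAmalgam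

open CfsgLib.JankoFour

local notation "J" => Cfsg.Spor.J4

/-- The facts on the presented group that give compatibility. -/
structure LocalFacts : Prop where
  x_z : xJ * zJ * xJ⁻¹ = zJ'
  z_mem : zJ ∈ pJ
  o_le : oJ ≤ pJ
  z'_mem : zJ' ∈ oJ
  d_cent : dJ ≤ Subgroup.centralizer ({zJ} : Set J)
  d_norm : ∀ d ∈ dJ, ∀ q ∈ oJ, d * q * d⁻¹ ∈ oJ
  odd_pair : ∀ K : Subgroup J, pJ ⊓ Subgroup.centralizer ({zJ'} : Set J) ≤ K →
    K ≤ Subgroup.centralizer ({zJ, zJ'} : Set J) → Odd (((HJ ⊓ K).subgroupOf K).index)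

theorem xJ_mem_HJ : xJ ∈ HJ := Subgroup.subset_closure (Or.inl rfl)

theorem xJ_mul_self : xJ * xJ = 1 := by rw [← pow_two]; exact xJ_sq

theorem xJ_inv : xJ⁻¹ = xJ := inv_eq_of_mul_eq_one_right xJ_mul_self

theorem pJ_le_dJ : pJ ≤ dJ := le_sup_left

theorem pJ_le_HJ : pJ ≤ HJ := inf_le_left

variable {G : Type*} [Group G] {z : G}

/-- The gluing of an amalgam. -/
def Amalgam.glue (A : Amalgam G z) : Glue J G where
  N := HJ
  D := dJ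
  P := pJ
  PN := pJ_le_HJ
  PD := pJ_le_dJ
  eN := A.toN.e
  eD := A.toC
  agree p hp := A.agree p _ _ hp
  x := xJ
  x_mem := xJ_mem_HJ
  x_sq := xJ_mul_self

theorem mem_pJ {a : J} (h : a ∈ HJ) (hz : a * zJ = zJ * a) : a ∈ pJ :=
  ⟨h, Subgroup.mem_centralizer_singleton_iff.2 hz⟩

/-- Compatibility of an amalgam. -/
theorem Amalgam.compat (L : LocalFacts) (A : Amalgam G z)
    (hcent : ∀ h : G, h * z = z * h →
      (∀ (q : J) (hq : q ∈ HJ), q ∈ oJ → q * zJ' = zJ' * q → h * A.toN.e ⟨q, hq⟩ = A.toN.e ⟨q, hq⟩ * h) →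
      h = 1 ∨ h = z ∨ h = A.toN.e ⟨zJ', pJ_le_HJ (L.o_le L.z'_mem)⟩ ∨
        h = z * A.toN.e ⟨zJ', pJ_le_HJ (L.o_le L.z'_mem)⟩)
    (hsq : z * z = 1) (hsq' : zJ' * zJ' = 1) : A.glue.Compat := by
  set e := A.toN.e with he
  set c := A.toC with hc
  have hz'P : zJ' ∈ pJ := L.o_le L.z'_mem
  set w := e ⟨zJ', pJ_le_HJ hz'P⟩ with hw
  have hcz : ∀ d, c d * z = z * c d := A.toC_central
  have ag : ∀ (a : J) (hN : a ∈ HJ) (hD : a ∈ dJ), a ∈ pJ → e ⟨a, hN⟩ = c ⟨a, hD⟩ := A.agree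
  set K : Subgroup J := dJ ⊓ dJ.comap (MulAut.conj xJ).toMonoidHom with hK
  have hKd : ∀ k : K, (k : J) ∈ dJ := fun k => k.2.1
  have hKx : ∀ k : K, xJ * (k : J) * xJ⁻¹ ∈ dJ := fun k => by simpa using k.2.2
  let xN : HJ := ⟨xJ, xJ_mem_HJ⟩
  let θ₁ : K →* G := c.comp (Subgroup.inclusion inf_le_left)
  let θ₂ : K →* G := MonoidHom.mk' (fun k => e xN * c ⟨_, hKx k⟩ * (e xN)⁻¹) fun a b => by
    rw [show (⟨_, hKx (a * b)⟩ : dJ) = ⟨_, hKx a⟩ * ⟨_, hKx b⟩ from Subtype.ext (by simp [mul_assoc]), map_mul]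
    group
  have zx : xJ * zJ' * xJ⁻¹ = zJ := by
    rw [← L.x_z, xJ_inv]
    calc xJ * (xJ * zJ * xJ) * xJ = (xJ * xJ) * zJ * (xJ * xJ) := by group
      _ = zJ := by rw [xJ_mul_self, one_mul, mul_one]
  have cz : ∀ d ∈ dJ, d * zJ = zJ * d := fun d hd => Subgroup.mem_centralizer_singleton_iff.1 (L.d_cent hd)
  have cz' : ∀ k : K, (k : J) * zJ' = zJ' * k := fun k => by
    have h := cz _ (hKx k)
    calc (k : J) * zJ' = xJ⁻¹ * (xJ * k * xJ⁻¹ * (xJ * zJ' * xJ⁻¹)) * xJ := by group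
      _ = xJ⁻¹ * ((xJ * zJ' * xJ⁻¹) * (xJ * k * xJ⁻¹)) * xJ := by rw [zx, h]
      _ = zJ' * k := by group
  -- agreement on `HJ`
  have hag : ∀ k : K, (k : J) ∈ HJ → θ₁ k = θ₂ k := fun k hk => by
    have h1 : (k : J) ∈ pJ := mem_pJ hk (cz _ (hKd k))
    have hx1 : xJ * (k : J) * xJ⁻¹ ∈ HJ := mul_mem (mul_mem xJ_mem_HJ hk) (inv_mem xJ_mem_HJ)
    have h2 : xJ * (k : J) * xJ⁻¹ ∈ pJ := mem_pJ hx1 (cz _ (hKx k))
    show c ⟨(k : J), hKd k⟩ = e xN * c ⟨_, hKx k⟩ * (e xN)⁻¹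
    rw [← ag _ hk _ h1, ← ag _ hx1 _ h2, ← map_inv, ← map_mul, ← map_mul]
    refine congrArg e (Subtype.ext ?_)
    show (k : J) = xJ * (xJ * k * xJ⁻¹) * xJ⁻¹
    rw [xJ_inv]
    calc (k : J) = (xJ * xJ) * k * (xJ * xJ) := by rw [xJ_mul_self, one_mul, mul_one]
      _ = _ := by group
  -- the common subgroup of `K` and `oJ`
  have hpK : ∀ a ∈ pJ, a * zJ' = zJ' * a → a ∈ K := fun a ha hcom => by
    refine ⟨pJ_le_dJ ha, ?_⟩
    show xJ * a * xJ⁻¹ ∈ dJ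
    refine pJ_le_dJ (mem_pJ (mul_mem (mul_mem xJ_mem_HJ (pJ_le_HJ ha)) (inv_mem xJ_mem_HJ)) ?_)
    rw [← zx]
    calc xJ * a * xJ⁻¹ * (xJ * zJ' * xJ⁻¹) = xJ * (a * zJ') * xJ⁻¹ := by group
      _ = xJ * (zJ' * a) * xJ⁻¹ := by rw [hcom]
      _ = _ := by group
  have hzK : zJ ∈ K := hpK zJ L.z_mem (Subgroup.mem_centralizer_singleton_iff.1 hz'P.2).symm
  have hz'K : zJ' ∈ K := hpK zJ' hz'P rfl
  have t1z : θ₁ ⟨zJ, hzK⟩ = z := (ag _ (pJ_le_HJ L.z_mem) _ L.z_mem).symm.trans (A.toN.map_z _)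
  have t1w : θ₁ ⟨zJ', hz'K⟩ = w := (ag _ (pJ_le_HJ hz'P) _ hz'P).symm
  have t2z : θ₂ ⟨zJ, hzK⟩ = z := (hag ⟨zJ, hzK⟩ (pJ_le_HJ L.z_mem)).symm.trans t1z
  have t2w : θ₂ ⟨zJ', hz'K⟩ = w := (hag ⟨zJ', hz'K⟩ (pJ_le_HJ hz'P)).symm.trans t1w
  have com : ∀ (θ : K →* G), θ ⟨zJ, hzK⟩ = z → θ ⟨zJ', hz'K⟩ = w →
      ∀ k, θ k * z = z * θ k ∧ θ k * w = w * θ k := fun θ h1 h2 k =>
    ⟨by rw [← h1, ← map_mul, ← map_mul]; exact congrArg θ (Subtype.ext (cz _ (hKd k))),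
      by rw [← h2, ← map_mul, ← map_mul]; exact congrArg θ (Subtype.ext (cz' k))⟩
  have com1 := com θ₁ t1z t1w
  have com2 := com θ₂ t2z t2w
  have hdiff : ∀ k, (θ₁ k)⁻¹ * θ₂ k = 1 ∨ (θ₁ k)⁻¹ * θ₂ k = z ∨ (θ₁ k)⁻¹ * θ₂ k = w ∨
      (θ₁ k)⁻¹ * θ₂ k = z * w := fun k => by
    refine hcent _ ?_ fun q hq hqo hqz => ?_
    · exact (Commute.mul_left (Commute.inv_left (com1 k).1) (com2 k).1).eq
    · have hqP := L.o_le hqo
      let qK : K := ⟨q, hpK q hqP hqz⟩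
      let rK : K := k * qK * k⁻¹
      have hr : (rK : J) ∈ HJ := pJ_le_HJ (L.o_le (L.d_norm _ (hKd k) q hqo))
      have hq1 : θ₁ qK = e ⟨q, hq⟩ := (ag q hq _ hqP).symm
      have hq2 : θ₂ qK = e ⟨q, hq⟩ := (hag qK hq).symm.trans hq1
      have hh := hag rK hr
      simp only [rK, map_mul, map_inv, hq1, hq2] at hh
      calc (θ₁ k)⁻¹ * θ₂ k * e ⟨q, hq⟩ = (θ₁ k)⁻¹ * (θ₂ k * e ⟨q, hq⟩ * (θ₂ k)⁻¹) * θ₂ k := by group
        _ = _ := by rw [← hh]; group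
  have hdc : ∀ k (g : G), g * z = z * g → g * w = w * g →
      (θ₁ k)⁻¹ * θ₂ k * g = g * ((θ₁ k)⁻¹ * θ₂ k) := fun k g h1 h2 => by
    rcases hdiff k with h | h | h | h <;> rw [h]
    · simp
    · exact h1.symm
    · exact h2.symm
    · exact (Commute.mul_left (Commute.symm h1) (Commute.symm h2)).eq
  let dh : K →* G := MonoidHom.mk' (fun k => (θ₁ k)⁻¹ * θ₂ k) fun a b => by
    rw [map_mul, map_mul]
    calc (θ₁ a * θ₁ b)⁻¹ * (θ₂ a * θ₂ b) = (θ₁ b)⁻¹ * ((θ₁ a)⁻¹ * θ₂ a) * θ₂ b := by group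
      _ = ((θ₁ a)⁻¹ * θ₂ a) * ((θ₁ b)⁻¹ * θ₂ b) := by
        rw [← hdc a _ (Commute.inv_left (com1 b).1).eq (Commute.inv_left (com1 b).2).eq]; group
  have hww : w * w = 1 := by
    rw [hw, ← map_mul, ← map_one e]; exact congrArg e (Subtype.ext hsq')
  have hd2 : ∀ k, dh k * dh k = 1 := fun k => by
    have hzw : z * w = w * z := by
      rw [← t1w]; exact (com1 ⟨zJ', hz'K⟩).1.symm
    rcases hdiff k with h | h | h | h <;> show ((θ₁ k)⁻¹ * θ₂ k) * ((θ₁ k)⁻¹ * θ₂ k) = 1 <;> rw [h]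
    · simp
    · exact hsq
    · exact hww
    · calc z * w * (z * w) = z * (w * z) * w := by group
        _ = z * (z * w) * w := by rw [hzw]
        _ = (z * z) * (w * w) := by group
        _ = 1 := by rw [hsq, hww, one_mul]
  have hker : (HJ ⊓ K).subgroupOf K ≤ dh.ker := fun k hk => by
    show (θ₁ k)⁻¹ * θ₂ k = 1
    rw [hag k (Subgroup.mem_subgroupOf.1 hk).1, inv_mul_cancel]
  have hodd : Odd dh.ker.index := by
    refine Odd.of_dvd_nat (L.odd_pair K (fun a ha => hpK a ha.1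
      (Subgroup.mem_centralizer_singleton_iff.1 ha.2)) fun a ha => ?_) (Subgroup.index_dvd_of_le hker)
    refine Subgroup.mem_centralizer_iff.2 fun g hg => ?_
    simp only [Set.mem_insert_iff, Set.mem_singleton_iff] at hg
    rcases hg with hg | hg <;> rw [hg]
    · exact (cz a ha.1).symm
    · exact (cz' ⟨a, ha⟩).symm
  have htriv : ∀ k, θ₁ k = θ₂ k := fun k => by
    have h := Subgroup.pow_index_mem dh.ker k
    obtain ⟨m, hm⟩ := hodd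
    rw [MonoidHom.mem_ker, map_pow, hm, pow_succ, pow_mul, pow_two, hd2, one_pow, one_mul] at h
    exact inv_mul_eq_one.1 h
  intro d d' hd
  have hd' : xJ * (d : J) * xJ⁻¹ = d' := by rw [xJ_inv]; exact hd.symm
  have hdK : (d : J) ∈ K := ⟨d.2, show xJ * (d : J) * xJ⁻¹ ∈ dJ from hd' ▸ d'.2⟩
  have h := htriv ⟨d, hdK⟩
  rw [Glue.val_one_left]
  refine h.trans ?_
  show e xN * c ⟨_, _⟩ * (e xN)⁻¹ = e xN * c d' * (e xN)⁻¹
  rw [show (⟨_, hKx ⟨d, hdK⟩⟩ : dJ) = d' from Subtype.ext hd']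

end CfsgLib.JFourAmalgam
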