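import Cfsg.Agent.JFourAmalgam.ModelWords

/-!
# The words of the configuration
-/

set_option autoImplicit false
set_option maxRecDepth 100000

namespace CfsgLib.JFourAmalgam

open CfsgLib.JankoFour

/-- The word of the element conjugating `t` in the first relation. -/
def uWord : List ℕ := HBound.uW

/-- The word of the conjugator `h`. -/
def hW : List ℕ := [4] ++ HBound.winv Words.T3 ++ [3] ++ Words.T3

/-- The word of its inverse. -/
def hiW : List ℕ := HBound.winv Words.T3 ++ [3] ++ Words.T3 ++ [4]

end CfsgLib.JFourAmalgam
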