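import Cfsg.Agent.JankoFour.HBound
import Cfsg.Agent.JankoFour.Lower
import Cfsg.Prelude.Def_JankoFourType

/-!
# The two local subgroups of the presented fourth Janko group used for its recognition

`qJ i` are the eleven basic involutions of the normal subgroup of `HJ`, `zJ` is the product `621` of them
(one of the seven vectors fixed by the conjugating generators of `t`), `pJ` is its centralizer in `HJ`,
`oJ` is the extraspecial subgroup of `pJ` and `dJ` is generated by `pJ` and `t`.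
-/

set_option autoImplicit false

namespace CfsgLib.JFourAmalgam

open CfsgLib.JankoFour

/-- The basic involutions of the normal subgroup of `HJ`. -/
def qJ (i : ℕ) : Cfsg.Spor.J4 := tabJ (i + 4)

/-- The product of the basic involutions with the indices in a list. -/
def qList (l : List ℕ) : Cfsg.Spor.J4 := (l.map qJ).prod

/-- The normal subgroup of `HJ` spanned by the basic involutions. -/
def vJ : Subgroup Cfsg.Spor.J4 := Subgroup.closure {a | ∃ i < 11, a = qJ i}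

/-- The central involution. -/
def zJ : Cfsg.Spor.J4 := qList [0, 2, 3, 5, 6, 9]

/-- The second involution, the conjugate of `zJ` under `x`. -/
def zJ' : Cfsg.Spor.J4 := qList [1, 2, 3, 4, 7, 8]

/-- Words in `x, y` generating, with `vJ`, the centralizer of `zJ` in `HJ`. -/
def pWords : List (List ℕ) := [
  [1, 0, 2],
  [2, 0, 1, 0, 2, 0, 1, 0, 2, 0, 1],
  [2, 0, 2, 0, 2, 0, 1, 0, 1, 0, 1],
  [0, 2, 0, 1, 0, 2, 0, 1, 0, 2, 0, 1, 0],
  [0, 1, 0, 1, 0, 1, 0, 2, 0, 1, 0, 2, 0, 1, 0, 1, 0]]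

/-- A word of an element of order three which fixes no vector of `oJ` outside `⟨zJ⟩`. -/
def threeWord : List ℕ :=
  [0, 2, 0, 2, 0, 1, 0, 2, 0, 1, 0, 1, 0, 2, 0, 2, 0, 1, 0, 2, 0, 1, 0, 1, 0, 2, 0, 2, 0, 2, 0, 1, 0, 1, 0, 2, 0, 2,
    0, 1, 0, 2, 0, 1, 0, 1, 0, 2, 0, 1, 0, 1, 0, 1, 0]

/-- The lists of indices spanning the intersection of `oJ` with the normal subgroup. -/
def oLists : List (List ℕ) := [[0, 2, 3, 5, 6, 9], [0, 1, 4, 6, 7, 10], [1, 5, 6, 7, 8], [0, 4, 6, 7, 8, 9, 10],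
  [6, 7, 8, 10], [3, 5], [0, 1, 3, 8, 9, 10]]

/-- Words in `x, y` of the six elements completing `oLists` to generators of `oJ`. -/
def oWords : List (List ℕ) := [
  [2, 0, 1, 0, 2, 0, 1, 0, 2, 0, 1],
  [1, 0, 1, 0, 1, 0, 2, 0, 1, 0, 2, 0, 2, 0, 1, 0, 1, 0, 2, 0, 1, 0, 2, 0, 1],
  [1, 0, 1, 0, 1, 0, 1, 0, 2, 0, 1, 0, 1, 0, 2, 0, 2, 0, 2, 0, 1, 0, 2, 0, 1, 0, 1, 0, 1, 0, 2, 0, 1, 0, 1, 0, 2, 0,
    2, 0, 2, 0, 1, 0, 1],
  [1, 0, 1, 0, 2, 0, 1, 0, 1, 0, 1, 0, 2, 0, 2, 0, 1, 0, 2, 0, 2, 0, 2, 0, 1, 0, 2, 0, 1, 0, 1, 0, 1, 0, 2, 0, 2, 0,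
    1, 0, 2, 0, 2, 0, 1],
  [0, 1, 0, 1, 0, 2, 0, 2, 0, 1, 0, 1, 0, 1, 0, 2, 0, 1, 0, 2, 0, 1, 0, 2, 0, 1, 0, 2, 0, 1, 0, 2, 0, 1, 0, 1, 0, 2,
    0, 1, 0, 1, 0, 2, 0, 2, 0],
  [0, 2, 0, 2, 0, 1, 0, 1, 0, 1, 0, 1, 0, 2, 0, 2, 0, 2, 0, 1, 0, 1, 0, 1, 0, 1, 0, 1, 0, 1, 0, 2, 0, 2, 0, 1, 0, 1,
    0, 2, 0, 1, 0, 1, 0, 2, 0]]

/-- The extraspecial subgroup of order `2 ^ 13`. -/
def oJ : Subgroup Cfsg.Spor.J4 :=
  Subgroup.closure ({a | ∃ l ∈ oLists, a = qList l} ∪ {a | ∃ w ∈ oWords, a = HBound.wv w})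

/-- The centralizer of `zJ` in `HJ`. -/
def pJ : Subgroup Cfsg.Spor.J4 := HJ ⊓ Subgroup.centralizer ({zJ} : Set Cfsg.Spor.J4)

/-- The subgroup generated by `pJ` and `t`. -/
def dJ : Subgroup Cfsg.Spor.J4 := pJ ⊔ Subgroup.zpowers tJ

/-- The facts on the presented group provided by its order computation. -/
structure Facts : Prop where
  card : Nat.card Cfsg.Spor.J4 = 86775571046077562880
  inj : Function.Injective CfsgLib.JankoFourRep.rep
  faithful : HBound.Faithful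
  cardM : Nat.card mSub = 244823040
  cardH : Nat.card HJ = 501397585920

/-- An identification of `HJ` with the normalizer of an elementary abelian subgroup of order `2 ^ 11`. -/
structure NMap (G : Type*) [Group G] (z : G) where
  /-- the map -/
  e : HJ →* G
  inj : Function.Injective e
  range_eq : ∃ V : Subgroup G, Cfsg.IsElementaryAbelian 2 V ∧ Nat.card V = 2 ^ 11 ∧
    e.range = Subgroup.normalizer (V : Set G) ∧ ∀ a : HJ, (a : Cfsg.Spor.J4) ∈ vJ ↔ e a ∈ V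
  map_z : ∀ h : zJ ∈ HJ, e ⟨zJ, h⟩ = z

/-- An identification extended to `dJ` and agreeing with it on `pJ`. -/
structure Amalgam (G : Type*) [Group G] (z : G) where
  /-- the map on `HJ` -/
  toN : NMap G z
  /-- the map on `dJ` -/
  toC : dJ →* G
  toC_central : ∀ d, toC d * z = z * toC d
  agree : ∀ (a : Cfsg.Spor.J4) (hN : a ∈ HJ) (hP : a ∈ dJ), a ∈ pJ → toN.e ⟨a, hN⟩ = toC ⟨a, hP⟩

end CfsgLib.JFourAmalgam
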