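import Cfsg.Agent.JFourAmalgam.Defs
import Cfsg.Agent.JankoFourIndex.Model
import Cfsg.Agent.JFourEleven.Cocode
import Cfsg.Agent.Mathieu.M24Order

/-!
# `HJ` as the extension of the even cocode of the Golay code by M24

The two generators of `mSub` act on the twenty-four points by code-preserving tables, and the eleven basic
involutions are carried to the coordinates of `repD24` by a fixed invertible matrix.
-/

set_option autoImplicit false
set_option maxRecDepth 100000
set_option linter.style.haveILetI false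

namespace CfsgLib.JFourAmalgam

open CfsgLib.JankoFour CfsgLib.JankoFourRep CfsgLib.Mathieu CfsgLib.M24Classes CfsgLib.JFourEleven
open Cfsg (GolayPt)
open CfsgLib.MTwentyThreeUnique.Gl11 (V vecOf)
open CfsgLib.MTwentyFourUnique.Gl11 (repD24 repD24_injective)
open Matrix

local notation "J" => Cfsg.Spor.J4

theorem eq_of_same (F : Facts) {v w : List ℕ} (hv : ∀ c ∈ v, c < 18) (hw : ∀ c ∈ w, c < 18)
    (h : sameProd lowTab v w = true) : (v.map tabJ).prod = (w.map tabJ).prod :=
  F.inj (Units.ext (by rw [rep_word hv, rep_word hw]; exact prod_eq_of_sameProd lowTab_good h))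

theorem qJ_sq (F : Facts) (i : Fin 11) : qJ i.val * qJ i.val = 1 := by
  have := F.inj (rep_eq (v := [i.val + 4, i.val + 4]) (w := []) (by
    simp only [eqChecks, List.mem_append, List.mem_map, List.mem_range]
    exact Or.inl (Or.inl (Or.inl (Or.inl ⟨i.val, i.isLt, rfl⟩)))))
  simpa [qJ] using this

theorem qJ_comm (F : Facts) (i j : Fin 11) : Commute (qJ i.val) (qJ j.val) := by
  have key : ∀ {a b : Fin 11}, b < a → Commute (qJ b.val) (qJ a.val) := fun {a b} h => by
    have := F.inj (rep_eq (v := [b.val + 4, a.val + 4]) (w := [a.val + 4, b.val + 4]) (by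
      simp only [eqChecks, List.mem_append, List.mem_flatMap, List.mem_map, List.mem_range]
      exact Or.inl (Or.inl (Or.inl (Or.inr ⟨a.val, a.isLt, b.val, h, rfl⟩)))))
    simpa [qJ, commute_iff_eq] using this
  rcases lt_trichotomy i j with h | rfl | h
  exacts [key h, Commute.refl _, (key h).symm]

theorem conjX_eq (F : Facts) (i : Fin 11) :
    xJ * qJ i.val = qList (conjX.getD i.val []) * xJ := by
  have := F.inj (rep_eq (v := [0, i.val + 4]) (w := qLetters (conjX.getD i.val []) ++ [0]) (by
    simp only [eqChecks, List.mem_append, List.mem_map, List.mem_range]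
    exact Or.inl (Or.inl (Or.inr ⟨i.val, i.isLt, rfl⟩))))
  simpa [qList, qLetters, tabJ_zero, List.map_map, Function.comp_def, show qJ = fun i => tabJ (i + 4) from rfl] using this

theorem conjY_eq (F : Facts) (i : Fin 11) :
    yJ * qJ i.val = qList (conjY.getD i.val []) * yJ := by
  have := F.inj (rep_eq (v := [1, i.val + 4]) (w := qLetters (conjY.getD i.val []) ++ [1]) (by
    simp only [eqChecks, List.mem_append, List.mem_map, List.mem_range]
    exact Or.inl (Or.inr ⟨i.val, i.isLt, rfl⟩)))
  simpa [qList, qLetters, tabJ_one, List.map_map, Function.comp_def, show qJ = fun i => tabJ (i + 4) from rfl] using this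

/-- The map from the integers modulo two given by an involution. -/
def twoHom {G : Type*} [Group G] (a : G) (h : a * a = 1) : Multiplicative (ZMod 2) →* G :=
  MonoidHom.mk' (fun c => if c.toAdd = 0 then 1 else a) fun c d => by
    have h2 : ∀ u : ZMod 2, u = 0 ∨ u = 1 := by decide
    rw [toAdd_mul]
    rcases h2 c.toAdd with e | e <;> rcases h2 d.toAdd with e' | e' <;>
      simp [e, e', h, show (1 : ZMod 2) + 1 = 0 from rfl]

/-- The elements with given coordinates. -/
noncomputable def q0 (F : Facts) : Multiplicative V →* J :=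
  (MonoidHom.noncommPiCoprod (fun i : Fin 11 => twoHom (qJ i.val) (qJ_sq F i)) (fun i j _ a b => by
    show Commute (if a.toAdd = 0 then (1 : J) else qJ i.val) (if b.toAdd = 0 then (1 : J) else qJ j.val)
    split_ifs <;> first
      | exact Commute.one_left _
      | exact Commute.one_right _
      | exact qJ_comm F i j)).comp
  { toFun := fun v i => Multiplicative.ofAdd (v.toAdd i)
    map_one' := rfl
    map_mul' := fun _ _ => rfl }

theorem q0_single (F : Facts) (i : Fin 11) : q0 F (Multiplicative.ofAdd (Pi.single i 1)) = qJ i.val := by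
  have e : (fun j => Multiplicative.ofAdd ((Pi.single i 1 : V) j)) =
      Pi.mulSingle (M := fun _ : Fin 11 => Multiplicative (ZMod 2)) i (Multiplicative.ofAdd (1 : ZMod 2)) :=
    funext fun j => by
      by_cases h : j = i
      · subst h; simp
      · simp [h]
  rw [q0, MonoidHom.comp_apply]
  refine (DFunLike.congr_arg _ e).trans ((MonoidHom.noncommPiCoprod_mulSingle _ _ _).trans ?_)
  show (if (1 : ZMod 2) = 0 then (1 : J) else qJ i.val) = _
  rw [if_neg one_ne_zero]

attribute [irreducible] q0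

theorem hom_ext {H : Type*} [Group H] {f g : Multiplicative V →* H}
    (h : ∀ i, f (Multiplicative.ofAdd (Pi.single i 1)) = g (Multiplicative.ofAdd (Pi.single i 1))) :
    f = g := by
  refine MonoidHom.ext fun v => ?_
  suffices hv : v ∈ MonoidHom.eqLocus f g from hv
  have e : v = ∏ i, Multiplicative.ofAdd (Pi.single i (v.toAdd i)) := by
    rw [← ofAdd_sum, Finset.univ_sum_single, ofAdd_toAdd]
  rw [e]
  refine Subgroup.prod_mem _ fun i _ => ?_
  rcases (by decide : ∀ u : ZMod 2, u = 0 ∨ u = 1) (v.toAdd i) with e0 | e0 <;> rw [e0]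
  · rw [Pi.single_zero, ofAdd_zero]; exact one_mem _
  · exact h i

/-- The coordinates of a list of indices. -/
def listVec (l : List ℕ) : V := (l.map fun a => Pi.single (Fin.ofNat 11 a) 1).sum

theorem qList_eq (F : Facts) : ∀ l : List ℕ, (∀ a ∈ l, a < 11) →
    qList l = q0 F (Multiplicative.ofAdd (listVec l))
  | [], _ => by rw [show listVec [] = 0 from rfl, ofAdd_zero, map_one]; rfl
  | a :: l, h => by
    have ih := qList_eq F l fun b hb => h b (List.mem_cons_of_mem _ hb)
    have e : qJ a = q0 F (Multiplicative.ofAdd (Pi.single (Fin.ofNat 11 a) 1)) := by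
      rw [q0_single, Fin.val_ofNat, Nat.mod_eq_of_lt (h a List.mem_cons_self)]
    rw [show listVec (a :: l) = Pi.single (Fin.ofNat 11 a) 1 + listVec l from rfl, ofAdd_add, map_mul, ← e,
      ← ih]
    rfl

/-- A matrix from its columns as bit codes. -/
def colMat (L : List ℕ) : MTwentyThreeUnique.Gl11.M :=
  Matrix.of fun i j => if (L.getD j.val 0).testBit i.val then 1 else 0

/-- A matrix as a map of coordinates. -/
noncomputable def mulHom (A : MTwentyThreeUnique.Gl11.M) : Multiplicative V →* Multiplicative V :=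
  MonoidHom.mk' (fun v => Multiplicative.ofAdd (A *ᵥ v.toAdd)) fun u v => by
    rw [toAdd_mul, Matrix.mulVec_add, ofAdd_add]

/-- The change of coordinates. -/
def cMat : MTwentyThreeUnique.Gl11.M :=
  colMat [1199, 1946, 1998, 239, 2028, 879, 690, 106, 1781, 1418, 1006]

/-- Its inverse. -/
def cInv : MTwentyThreeUnique.Gl11.M :=
  colMat [1654, 919, 1192, 1818, 800, 899, 1934, 598, 860, 290, 1927]

theorem cMat_inv : cMat * cInv = 1 ∧ cInv * cMat = 1 := by decide +kernel

/-- The coordinates of `zJ`. -/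
def zVec : V := fun i => if (235 : ℕ).testBit i.val then 1 else 0

theorem zVec_spec : cMat *ᵥ zVec = listVec [0, 2, 3, 5, 6, 9] := by decide +kernel

theorem zVec_not_duad : zVec ≠ 0 ∧ ∀ p q, Cocode.duad p q ≠ zVec := by decide +kernel

/-- The elements with given coordinates in the representation on the cocode. -/
noncomputable def psiJ (F : Facts) : Multiplicative V →* J := (q0 F).comp (mulHom cMat)

theorem psiJ_apply (F : Facts) (v : V) :
    psiJ F (Multiplicative.ofAdd v) = q0 F (Multiplicative.ofAdd (cMat *ᵥ v)) := rfl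

theorem range_q0 (F : Facts) : (q0 F).range = vJ := by
  refine le_antisymm ?_ ((Subgroup.closure_le _).2 ?_)
  · rintro _ ⟨v, rfl⟩
    have e : v = ∏ i, Multiplicative.ofAdd (Pi.single i (v.toAdd i)) := by
      rw [← ofAdd_sum, Finset.univ_sum_single, ofAdd_toAdd]
    suffices hv : v ∈ vJ.comap (q0 F) from hv
    rw [e]
    refine Subgroup.prod_mem _ fun i _ => ?_
    rcases (by decide : ∀ u : ZMod 2, u = 0 ∨ u = 1) (v.toAdd i) with e0 | e0 <;> rw [e0]
    · rw [Pi.single_zero, ofAdd_zero]; exact one_mem _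
    · rw [Subgroup.mem_comap, q0_single]
      exact Subgroup.subset_closure ⟨i.val, i.isLt, rfl⟩
  · rintro _ ⟨i, hi, rfl⟩
    exact ⟨_, q0_single F ⟨i, hi⟩⟩

theorem range_psiJ (F : Facts) : (psiJ F).range = vJ := by
  rw [← range_q0 F]
  refine le_antisymm ?_ ?_
  · rintro _ ⟨v, rfl⟩; exact ⟨_, rfl⟩
  · rintro _ ⟨v, rfl⟩
    refine ⟨Multiplicative.ofAdd (cInv *ᵥ v.toAdd), ?_⟩
    rw [psiJ_apply, Matrix.mulVec_mulVec, cMat_inv.1, Matrix.one_mulVec, ofAdd_toAdd]

theorem q0_injective (F : Facts) : Function.Injective (q0 F) := by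
  let f : Multiplicative V →* GL (Fin 112) (ZMod 2) := rep.comp (q0 F)
  suffices hf : Function.Injective f from fun a b h => hf (congrArg rep h)
  have hle : Subgroup.closure (Set.range fun i : Fin 11 => rep (qJ i.val)) ≤ f.range := by
    refine (Subgroup.closure_le _).2 ?_
    rintro _ ⟨i, rfl⟩
    exact ⟨_, congrArg rep (q0_single F i)⟩
  have hc : Nat.card (Subgroup.closure (Set.range fun i : Fin 11 => rep (qJ i.val))) = 2 ^ 11 :=
    card_closure_involutions (fun i : Fin 11 => rep (qJ i.val))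
      (fun i => lowerWitness.q_sq i) (fun i j h => lowerWitness.q_comm i j h) lowerWitness.sep
      lowerWitness.sep_fix lowerWitness.sep_move
  have hV : Nat.card (Multiplicative V) = 2 ^ 11 := by
    rw [Nat.card_congr Multiplicative.toAdd, Nat.card_fun, Nat.card_zmod, Nat.card_fin]
  have hb := f.rangeRestrict_surjective.bijective_of_nat_card_le (by
    rw [hV, ← hc]; exact Subgroup.card_le_of_le hle)
  intro a b h
  exact hb.1 (Subtype.ext h)

theorem psiJ_injective (F : Facts) : Function.Injective (psiJ F) := fun a b h => by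
  have e : cMat *ᵥ a.toAdd = cMat *ᵥ b.toAdd := Multiplicative.ofAdd.injective (q0_injective F h)
  have := congrArg (cInv *ᵥ ·) e
  simp only [Matrix.mulVec_mulVec, cMat_inv.2, Matrix.one_mulVec] at this
  exact Multiplicative.toAdd.injective this

theorem psiJ_zVec (F : Facts) : psiJ F (Multiplicative.ofAdd zVec) = zJ := by
  rw [psiJ_apply, zVec_spec, zJ, qList_eq F _ (by decide)]

/-- A word for `HBound.sJ`. -/
def sigWord : List ℕ :=
  [1] ++ HBound.winv HBound.sW ++ [3] ++ HBound.sW ++
    ([1] ++ HBound.winv HBound.sW ++ [3] ++ HBound.sW) ++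
    ([1] ++ HBound.winv HBound.sW ++ [3] ++ HBound.sW)

theorem sigWord_ok : (sameProd lowTab [4] sigWord = true ∧ ∀ c ∈ sigWord, c < 18) ∧
    (∀ c ∈ HBound.sW, c < 3) := by
  decide +kernel

theorem prod_tabJ : ∀ w : List ℕ, (∀ c ∈ w, c < 3) → (w.map tabJ).prod = HBound.wv w
  | [], _ => rfl
  | c :: w, h => by
    rw [List.map_cons, List.prod_cons, prod_tabJ w fun b hb => h b (List.mem_cons_of_mem _ hb),
      show HBound.wv (c :: w) = HBound.lv c * HBound.wv w by simp [HBound.wv]]
    congr 1
    have hc := h c List.mem_cons_self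
    interval_cases c
    · exact tabJ_zero
    · exact tabJ_one
    · show (List.map letL [2]).prod = HBound.lv 2
      simp [letL, HBound.lv]

theorem winv_lt {w : List ℕ} (_h : ∀ c ∈ w, c < 3) : ∀ c ∈ HBound.winv w, c < 3 := by
  intro c hc
  simp only [HBound.winv, List.mem_reverse, List.mem_map] at hc
  obtain ⟨b, -, rfl⟩ := hc
  rcases b with _ | _ | b <;> simp [HBound.linv]

theorem qJ_zero_eq (F : Facts) : qJ 0 = HBound.sJ := by
  obtain ⟨⟨h1, h2⟩, hs⟩ := sigWord_ok
  have h := eq_of_same F (fun c hc => by rw [List.mem_singleton.1 hc]; omega) h2 h1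
  rw [List.map_singleton, List.prod_singleton] at h
  show tabJ 4 = _
  rw [h, sigWord]
  simp only [List.map_append, List.prod_append, prod_tabJ _ hs,
    prod_tabJ _ (winv_lt hs), HBound.wv_winv, List.map_singleton, List.prod_singleton, tabJ_one,
    show tabJ 3 = tJ from show (List.map letL [3]).prod = tJ by simp [letL]]
  rw [HBound.sJ]
  simp only [pow_succ, pow_zero, one_mul, mul_assoc]

theorem mSub_le_HJ : mSub ≤ HJ :=
  (Subgroup.closure_le _).2 (Set.insert_subset_iff.2 ⟨Subgroup.subset_closure (Or.inl rfl),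
    Set.singleton_subset_iff.2 (Subgroup.subset_closure (Or.inr (Or.inl rfl)))⟩)

theorem sJ_mem_vJ (F : Facts) : HBound.sJ ∈ vJ :=
  qJ_zero_eq F ▸ Subgroup.subset_closure ⟨0, by norm_num, rfl⟩

theorem qJ_mem_HJ (F : Facts) : ∀ i < 11, qJ i ∈ HJ := by
  have hx : xJ ∈ HJ := Subgroup.subset_closure (Or.inl rfl)
  have hy : yJ ∈ HJ := Subgroup.subset_closure (Or.inr (Or.inl rfl))
  have key : ∀ {g a b : J}, g ∈ HJ → g * a = b * g → (a ∈ HJ ↔ b ∈ HJ) := fun {g a b} hg h => by
    rw [← HJ.mul_mem_cancel_left (y := a) hg, h, HJ.mul_mem_cancel_right hg]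
  have X : ∀ i j : Fin 11, conjX.getD i.val [] = [j.val] → (qJ i.val ∈ HJ ↔ qJ j.val ∈ HJ) := fun i j h =>
    key hx (by rw [conjX_eq F i, h, qList, List.map_singleton, List.prod_singleton])
  have Y : ∀ i j : Fin 11, conjY.getD i.val [] = [j.val] → (qJ i.val ∈ HJ ↔ qJ j.val ∈ HJ) := fun i j h =>
    key hy (by rw [conjY_eq F i, h, qList, List.map_singleton, List.prod_singleton])
  have h0 : qJ 0 ∈ HJ := qJ_zero_eq F ▸ Subgroup.subset_closure (Or.inr (Or.inr rfl))
  have h1 := (X 0 1 (by decide)).1 h0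
  have h4 := (Y 1 4 (by decide)).1 h1
  have h2 := (Y 4 2 (by decide)).1 h4
  have h6 := (X 4 6 (by decide)).1 h4
  have h3 := (X 2 3 (by decide)).1 h2
  have h8 := (Y 3 8 (by decide)).1 h3
  have h5 := (Y 8 5 (by decide)).1 h8
  have h9 := (X 8 9 (by decide)).1 h8
  have h7 := (X 5 7 (by decide)).1 h5
  have h10 := (Y 10 9 (by decide)).2 h9
  intro i hi
  interval_cases i <;> assumption

theorem vJ_le_HJ (F : Facts) : vJ ≤ HJ := by
  refine (Subgroup.closure_le _).2 ?_
  rintro _ ⟨i, hi, rfl⟩
  exact qJ_mem_HJ F i hi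

/-! ### The action on the points -/

open CfsgLib.JankoFourIndex (Model xM yM gens_generate)
open CfsgLib.HNCert (mv)

/-- The table of `x`. -/
def tabX : ℕ := 319340120307424525426697834857730093838270674529801606156

/-- The table of `y`. -/
def tabY : ℕ := 564537914698755731996492917221065420779220278083625291281

theorem tabs_ok : isM24Tab tabX = true ∧ isM24Tab tabY = true ∧
    (∀ i : Fin 24, app tabX i.val = CfsgLib.JankoFourIndex.pg CfsgLib.JankoFourIndex.permX i.val ∧
      app tabY i.val = CfsgLib.JankoFourIndex.pg CfsgLib.JankoFourIndex.permYI i.val) := by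
  decide +kernel

/-- The action on the points of the projective line. -/
noncomputable def pointHom (M : Model) : mSub →* Equiv.Perm GolayPt :=
  (Equiv.permCongrHom enc.symm).toMonoidHom.comp M.π

theorem pointHom_apply (M : Model) (n : mSub) (p : GolayPt) :
    pointHom M n p = enc.symm (M.π n (enc p)) := rfl

theorem rep_pointHom (M : Model) {n : mSub} {t : ℕ}
    (h : ∀ i : Fin 24, (mv M.π n⁻¹ i).val = app t i.val) : Rep enc (pointHom M n) t := by
  intro p
  rw [pointHom_apply, Equiv.apply_symm_apply, ← h]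
  simp [mv]

theorem rep_x (M : Model) : Rep enc (pointHom M xM) tabX := rep_pointHom M fun i => by
  have hx : xM⁻¹ = xM := inv_eq_of_mul_eq_one_right (Subtype.ext (by
    show xJ * xJ = 1
    rw [← sq, xJ_sq]))
  rw [hx, M.px, (tabs_ok.2.2 i).1]

theorem rep_y (M : Model) : Rep enc (pointHom M yM) tabY := rep_pointHom M fun i => by
  rw [CfsgLib.JankoFourIndex.is_yInv i, (tabs_ok.2.2 i).2]

theorem pointHom_mem (M : Model) (n : mSub) : pointHom M n ∈ Cfsg.M24 := by
  suffices h : n ∈ Cfsg.M24.comap (pointHom M) from h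
  have hle : Subgroup.closure ({xM, yM} : Set mSub) ≤ Cfsg.M24.comap (pointHom M) := by
    refine (Subgroup.closure_le _).2 (Set.insert_subset_iff.2 ⟨?_, Set.singleton_subset_iff.2 ?_⟩)
    · obtain ⟨σ, hσ, r⟩ := inGroup_of_isM24Tab tabs_ok.1
      show pointHom M xM ∈ Cfsg.M24
      rwa [show pointHom M xM = σ from Equiv.ext fun p => enc.injective (Fin.ext
        ((rep_x M p).symm.trans (r p)))]
    · obtain ⟨σ, hσ, r⟩ := inGroup_of_isM24Tab tabs_ok.2.1
      show pointHom M yM ∈ Cfsg.M24
      rwa [show pointHom M yM = σ from Equiv.ext fun p => enc.injective (Fin.ext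
        ((rep_y M p).symm.trans (r p)))]
  exact hle (by rw [gens_generate]; exact Subgroup.mem_top n)

/-- The isomorphism onto M24 as a homomorphism. -/
noncomputable def thetaJ (M : Model) : mSub →* Cfsg.M24 :=
  (pointHom M).codRestrict _ (pointHom_mem M)

theorem thetaJ_bijective (F : Facts) (M : Model) : Function.Bijective (thetaJ M) := by
  refine (Nat.bijective_iff_injective_and_card _).2 ⟨fun a b h => M.inj ?_, ?_⟩
  · exact (Equiv.permCongrHom enc.symm).injective (congrArg Subtype.val h)
  · rw [F.cardM, Mathieu.card_M24]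

/-- The columns of `repD24` on `x`. -/
def dX : MTwentyThreeUnique.Gl11.M :=
  colMat [468, 767, 331, 1190, 1387, 1371, 881, 936, 1272, 1581, 1359]

/-- The columns of `repD24` on `y`. -/
def dY : MTwentyThreeUnique.Gl11.M :=
  colMat [1740, 1763, 1594, 8, 512, 797, 4, 128, 1, 1972, 2]

theorem eVec_spec : ∀ j : Fin 11, Cocode.eVec (pt j.val) = Pi.single j 1 ∧
    Cocode.eVec (pt (app tabX j.val)) + Cocode.eVec (pt (app tabX 23)) = (fun i => dX i j) ∧
    Cocode.eVec (pt (app tabY j.val)) + Cocode.eVec (pt (app tabY 23)) = (fun i => dY i j) := by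
  decide +kernel

theorem repD24_of_rep {σ : Cfsg.M24} {t : ℕ} (r : Rep enc (σ : Equiv.Perm GolayPt) t)
    {D : MTwentyThreeUnique.Gl11.M}
    (h : ∀ j : Fin 11, Cocode.eVec (pt (app t j.val)) + Cocode.eVec (pt (app t 23)) = fun i => D i j) :
    repD24 σ = D := by
  have hp : ∀ p : GolayPt, (σ : Equiv.Perm GolayPt) p = pt (app t (idx p)) := fun p => by
    refine (pt_idx _).symm.trans (congrArg pt ?_)
    exact (r p).symm
  refine Matrix.ext fun i j => ?_
  have e := congrFun (Cocode.repD24_eVec σ (pt j.val)) i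
  rw [(eVec_spec j).1, Matrix.mulVec_single_one, hp, hp, idx_pt (by omega), show idx (none : GolayPt) = 23 from rfl,
    h j] at e
  exact e

theorem conj_gens : (∀ i : Fin 11, listVec (conjX.getD i.val []) = cMat *ᵥ (dX *ᵥ (cInv *ᵥ Pi.single i 1)) ∧
    ∀ a ∈ conjX.getD i.val [], a < 11) ∧
    ∀ i : Fin 11, listVec (conjY.getD i.val []) = cMat *ᵥ (dY *ᵥ (cInv *ᵥ Pi.single i 1)) ∧
    ∀ a ∈ conjY.getD i.val [], a < 11 := by
  decide +kernel

theorem conj_psiJ_gen (F : Facts) {g : J} {L : List (List ℕ)} {D : MTwentyThreeUnique.Gl11.M}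
    (hg : ∀ i : Fin 11, g * qJ i.val = qList (L.getD i.val []) * g)
    (hc : ∀ i : Fin 11, listVec (L.getD i.val []) = cMat *ᵥ (D *ᵥ (cInv *ᵥ Pi.single i 1)) ∧
      ∀ a ∈ L.getD i.val [], a < 11) (v : V) :
    g * psiJ F (Multiplicative.ofAdd v) * g⁻¹ = psiJ F (Multiplicative.ofAdd (D *ᵥ v)) := by
  have key : (MulAut.conj g).toMonoidHom.comp (q0 F) = (q0 F).comp (mulHom (cMat * (D * cInv))) :=
    hom_ext fun i => by
      show g * q0 F (Multiplicative.ofAdd (Pi.single i 1)) * g⁻¹ =
        q0 F (Multiplicative.ofAdd ((cMat * (D * cInv)) *ᵥ Pi.single i 1))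
      rw [q0_single, hg, mul_inv_cancel_right, qList_eq F _ (hc i).2, (hc i).1, Matrix.mulVec_mulVec,
        Matrix.mulVec_mulVec, Matrix.mul_assoc]
  have := DFunLike.congr_fun key (Multiplicative.ofAdd (cMat *ᵥ v))
  refine Eq.trans this ?_
  show q0 F (Multiplicative.ofAdd ((cMat * (D * cInv)) *ᵥ (cMat *ᵥ v))) = _
  rw [psiJ_apply, Matrix.mulVec_mulVec, Matrix.mulVec_mulVec, Matrix.mul_assoc, Matrix.mul_assoc,
    cMat_inv.2, Matrix.mul_one]

/-- The subgroup on two generators acts on the coordinates as M24 on the cocode. -/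
theorem conj_psiJ (F : Facts) (M : Model) (n : mSub) (v : V) :
    (n : J) * psiJ F (Multiplicative.ofAdd v) * (n : J)⁻¹ =
      psiJ F (Multiplicative.ofAdd (repD24 (thetaJ M n) *ᵥ v)) := by
  have hn : n ∈ Subgroup.closure ({xM, yM} : Set mSub) := by rw [gens_generate]; trivial
  induction hn using Subgroup.closure_induction generalizing v with
  | mem g hg =>
    rcases hg with rfl | rfl
    · rw [repD24_of_rep (σ := thetaJ M xM) (rep_x M) fun j => (eVec_spec j).2.1]
      exact conj_psiJ_gen F (conjX_eq F) conj_gens.1 v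
    · rw [repD24_of_rep (σ := thetaJ M yM) (rep_y M) fun j => (eVec_spec j).2.2]
      exact conj_psiJ_gen F (conjY_eq F) conj_gens.2 v
  | one => simp
  | mul g h _ _ ig ih =>
    rw [map_mul, map_mul, ← Matrix.mulVec_mulVec, ← ig, ← ih, Subgroup.coe_mul]
    group
  | inv g _ ig =>
    have e := ig (repD24 (thetaJ M g⁻¹) *ᵥ v)
    rw [Matrix.mulVec_mulVec, ← map_mul, ← map_mul, mul_inv_cancel, map_one, map_one, Matrix.one_mulVec] at e
    rw [← e, Subgroup.coe_inv]
    group

theorem eq_one_of_psiJ (F : Facts) (M : Model) {v : Multiplicative V} {n : mSub}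
    (h : psiJ F v = (n : J)) : v = 1 ∧ n = 1 := by
  have hn : n = 1 := by
    refine (thetaJ_bijective F M).1 ?_
    rw [map_one]
    refine repD24_injective ?_
    rw [map_one]
    refine Matrix.ext_iff_mulVec.2 fun w => Multiplicative.ofAdd.injective (psiJ_injective F ?_)
    rw [← conj_psiJ, ← h, ← map_mul, mul_comm v, map_mul, mul_inv_cancel_right, Matrix.one_mulVec]
  refine ⟨psiJ_injective F ?_, hn⟩
  rw [map_one, h, hn, OneMemClass.coe_one]

theorem exists_decomp (F : Facts) (M : Model) {a : J} (ha : a ∈ HJ) :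
    ∃ (v : Multiplicative V) (n : mSub), psiJ F v * (n : J) = a := by
  induction ha using Subgroup.closure_induction with
  | mem g hg =>
    rcases hg with rfl | rfl | rfl
    · exact ⟨1, xM, by rw [map_one, one_mul]; rfl⟩
    · exact ⟨1, yM, by rw [map_one, one_mul]; rfl⟩
    · obtain ⟨v, hv⟩ : HBound.sJ ∈ (psiJ F).range := by rw [range_psiJ]; exact sJ_mem_vJ F
      exact ⟨v, 1, by rw [OneMemClass.coe_one, mul_one, hv]⟩
  | one => exact ⟨1, 1, by rw [map_one, OneMemClass.coe_one, one_mul]⟩
  | mul a b _ _ iha ihb =>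
    obtain ⟨v, n, rfl⟩ := iha
    obtain ⟨w, m, rfl⟩ := ihb
    refine ⟨v * Multiplicative.ofAdd (repD24 (thetaJ M n) *ᵥ w.toAdd), n * m, ?_⟩
    rw [map_mul, ← conj_psiJ, ofAdd_toAdd, Subgroup.coe_mul]
    group
  | inv a _ iha =>
    obtain ⟨v, n, rfl⟩ := iha
    refine ⟨Multiplicative.ofAdd (repD24 (thetaJ M n⁻¹) *ᵥ v⁻¹.toAdd), n⁻¹, ?_⟩
    rw [← conj_psiJ, ofAdd_toAdd, map_inv, Subgroup.coe_inv]
    group

end CfsgLib.JFourAmalgam
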