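import Cfsg.Agent.JFourAmalgam.FactsProof
import Cfsg.Agent.JFourAmalgam.ToNModel
import Cfsg.Agent.JFourEleven.Complement
import Cfsg.Agent.LargeExtraspecial.Simplicity
import Cfsg.Agent.Small.StronglyEmbedded
import Cfsg.Agent.SEmbed.Cosets
import Cfsg.Agent.ThompsonWielandt.Basic

/-!
# The subgroup generated by the two local subgroups is the whole group

The hexad stabiliser is maximal in the automorphism group of `M22`, so a subgroup `M` containing the
normaliser of `A` and one further element of the centraliser of the involution contains that centraliser.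
Then `M` is a simple group of Janko-four type, its involutions are conjugate into `A` within `M`, and `M`
would be strongly embedded if it were proper.
-/

set_option autoImplicit false
set_option linter.style.haveILetI false
set_option linter.unusedSectionVars false

namespace CfsgLib.JFourAmalgam.Endgame

open Cfsg CfsgLib.JFourType CfsgLib.JFourEleven CfsgLib.LargeFischerJ

universe u

/-- In a group of Janko-four type every involution is conjugate into the elementary abelian group. -/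
def ClassFact : Prop :=
  ∀ (X : Type u) [Group X] [Finite X] [IsSimpleGroup X], ¬ IsMulCommutative X →
    ∀ (zX : X) (L : Setting zX) (x : X), orderOf x = 2 → ∃ a ∈ L.A, IsConj a x

/-- The centralisers of the involutions not conjugate to the central one. -/
def CentFact {G : Type*} [Group G] [Finite G] (z : G) : Prop :=
  ∀ L : Setting z, ∀ a ∈ Layer.others z L.A,
    Subgroup.centralizer ({a} : Set G) ≤ Subgroup.normalizer (L.A : Set G)

/-! ### Small index subgroups of `M22` -/

theorem eq_top_of_index_lt {K : Subgroup M22g} (hK : K.index < 16) : K = ⊤ := by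
  classical
  haveI : IsSimpleGroup M22g := CfsgLib.Mathieu.simple_SporM22
  by_contra hne
  haveI : Fintype (M22g ⧸ K) := Fintype.ofFinite _
  haveI : Fintype (MulAction.orbitRel.Quotient hexadGroup (M22g ⧸ K)) := Fintype.ofFinite _
  let fx : M22g → ℕ := fun g => Nat.card (MulAction.fixedBy (M22g ⧸ K) g)
  have hconj : ∀ g x : M22g, fx (g * x * g⁻¹) = fx x := fun g x => by
    refine (Nat.card_congr (α := MulAction.fixedBy (M22g ⧸ K) x)
      (β := MulAction.fixedBy (M22g ⧸ K) (g * x * g⁻¹)) ⟨fun c => ⟨g • c.1, ?_⟩,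
      fun c => ⟨g⁻¹ • c.1, ?_⟩, fun c => Subtype.ext (inv_smul_smul g c.1),
      fun c => Subtype.ext (smul_inv_smul g c.1)⟩).symm
    · have h : x • c.1 = c.1 := c.2
      show (g * x * g⁻¹) • g • c.1 = g • c.1
      rw [← mul_smul, inv_mul_cancel_right, mul_smul, h]
    · have h : (g * x * g⁻¹) • c.1 = c.1 := c.2
      show x • g⁻¹ • c.1 = g⁻¹ • c.1
      conv_rhs => rw [← h]
      rw [← mul_smul, ← mul_smul]
      congr 1
      group
  obtain ⟨u, hu, hu1⟩ : ∃ u ∈ hexadGroup, u ≠ 1 := by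
    by_contra! hcon
    have h := card_hexadGroup
    rw [(Subgroup.eq_bot_iff_forall hexadGroup).2 hcon, Subgroup.card_bot] at h
    norm_num at h
  haveI : Fact (Nat.Prime 2) := ⟨Nat.prime_two⟩
  have hord : ∀ x ∈ hexadGroup, x ≠ 1 → orderOf x = 2 := fun x hx h1 =>
    orderOf_eq_prime (by rw [pow_two, hexad_sq hx]) h1
  have hall : ∀ x ∈ hexadGroup, x ≠ 1 → fx x = fx u := fun x hx h1 => by
    obtain ⟨g, rfl⟩ := isConj_iff.1 (isConj_involutions (hord u hu hu1) (hord x hx h1))
    exact hconj g u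
  have hlt : fx u < K.index := by
    have hle : fx u ≤ K.index := by
      rw [Subgroup.index]
      exact Nat.card_le_card_of_injective Subtype.val Subtype.val_injective
    refine lt_of_le_of_ne hle fun he => hne ?_
    have htriv : ∀ c : M22g ⧸ K, u • c = c := by
      intro c
      have hs : (MulAction.fixedBy (M22g ⧸ K) u) = Set.univ := by
        refine Set.eq_univ_of_forall fun c => ?_
        by_contra hc
        have hsub : MulAction.fixedBy (M22g ⧸ K) u ⊂ Set.univ :=
          (Set.subset_univ _).ssubset_of_ne fun e => hc (e ▸ Set.mem_univ c)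
        have h := Set.ncard_lt_ncard hsub
        rw [Set.ncard_univ, ← Nat.card_coe_set_eq] at h
        exact h.ne he
      have h := Set.mem_univ c
      rw [← hs] at h
      exact h
    have hker : u ∈ (MulAction.toPermHom M22g (M22g ⧸ K)).ker :=
      MonoidHom.mem_ker.2 (Equiv.ext htriv)
    rcases ((MulAction.toPermHom M22g (M22g ⧸ K)).normal_ker).eq_bot_or_eq_top with e | e
    · rw [e, Subgroup.mem_bot] at hker; exact absurd hker hu1
    · rw [← Subgroup.normalCore_eq_ker] at e
      exact eq_top_iff.2 (e ▸ Subgroup.normalCore_le K)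
  haveI : ∀ a : hexadGroup, Fintype (MulAction.fixedBy (M22g ⧸ K) a) := fun a => Fintype.ofFinite _
  have hsum := MulAction.sum_card_fixedBy_eq_card_orbits_mul_card_group hexadGroup (M22g ⧸ K)
  rw [← Finset.add_sum_erase _ _ (Finset.mem_univ (1 : hexadGroup)), Finset.sum_congr rfl
    (g := fun _ => fx u) (fun a ha => by
      rw [← Nat.card_eq_fintype_card]
      exact hall a.1 a.2 fun e => Finset.ne_of_mem_erase ha (Subtype.ext e)),
    Finset.sum_const, Finset.card_erase_of_mem (Finset.mem_univ _), Finset.card_univ,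
    ← Nat.card_eq_fintype_card (α := hexadGroup), card_hexadGroup, smul_eq_mul,
    ← Nat.card_eq_fintype_card] at hsum
  have h1 : Nat.card (MulAction.fixedBy (M22g ⧸ K) (1 : hexadGroup)) = K.index := by
    rw [Subgroup.index]
    exact Nat.card_congr (Equiv.subtypeUnivEquiv fun c => one_smul hexadGroup c)
  rw [h1] at hsum
  omega

/-! ### The normaliser is maximal in the centraliser -/

theorem eq_top_of_gt {H : Type*} [Group H] {C : Cent H} [Finite H] (D : C.Coord) {K : Subgroup H}
    (hle : Subgroup.normalizer (D.R : Set H) ≤ K) {k : H} (hk : k ∈ K)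
    (hkN : k ∉ Subgroup.normalizer (D.R : Set H)) : K = ⊤ := by
  have hker : C.pr.ker ≤ Subgroup.normalizer (D.R : Set H) := fun h hh =>
    D.mem_normalizer_R.2 fun m hm => by rw [MonoidHom.mem_ker.1 hh]; exact hm
  let T := (K.map C.pr).comap (MulAut.conj : M22g →* MulAut M22g)
  set Nh := Subgroup.normalizer (hexadGroup : Set M22g) with hNh
  have hNT : Nh ≤ T := by
    intro d hd
    obtain ⟨c, hc⟩ := C.exists_lift d
    exact ⟨c, hle (D.lift_normalizer_R hc hd), hc.2⟩
  obtain ⟨σ, hσ, ho⟩ := D.exists_outer_stab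
  have hσK : σ ∈ K.map C.pr := Subgroup.map_mono hle hσ
  have h77 : Nh.index = 77 := by
    have h := Subgroup.card_mul_index Nh
    rw [card_normalizer_hexad, CfsgLib.Mathieu.card_SporM22] at h
    omega
  have hT : T = ⊤ := by
    have hd : T.index ∣ 77 := h77 ▸ Subgroup.index_dvd_of_le hNT
    have hne : T ≠ Nh := by
      intro e
      apply hkN
      rw [D.mem_normalizer_R]
      have hmem : C.pr k ∈ K.map C.pr := Subgroup.mem_map_of_mem C.pr hk
      have key : ∀ τ ∈ K.map C.pr, τ ∈ Inn M22g → τ ∈ D.hexStab := by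
        rintro _ hτ ⟨d, rfl⟩
        have : d ∈ Nh := e ▸ (hτ : d ∈ T)
        exact D.mem_hexStab.2 fun m hm => (Subgroup.mem_normalizer_iff.1 this m).1 hm
      refine D.mem_hexStab.1 ?_
      by_cases hi : C.pr k ∈ Inn M22g
      · exact key _ hmem hi
      · have h2 : C.pr k * σ ∈ Inn M22g := by
          rw [Subgroup.mul_mem_iff_of_index_two JFourEleven.index_inn]
          exact iff_of_false hi ho
        exact (Subgroup.mul_mem_cancel_right _ hσ).1 (key _ (mul_mem hmem hσK) h2)
    refine eq_top_of_index_lt ?_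
    by_contra hge
    have hle' : T.index ≤ 77 := Nat.le_of_dvd (by norm_num) hd
    have h77' : T.index = 77 := by
      rw [show (77 : ℕ) = 7 * 11 by norm_num] at hd
      rcases Nat.mem_divisors.2 ⟨hd, by norm_num⟩ |> (by decide : ∀ {n}, n ∈ Nat.divisors (7 * 11) →
        n = 1 ∨ n = 7 ∨ n = 11 ∨ n = 77) with h | h | h | h <;> omega
    have h := Subgroup.relIndex_mul_index hNT
    rw [h77, h77'] at h
    exact hne (le_antisymm (Subgroup.relIndex_eq_one.1 (by omega)) hNT)
  refine eq_top_iff.2 fun h _ => ?_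
  have hmem : C.pr h ∈ K.map C.pr := by
    by_cases hi : C.pr h ∈ Inn M22g
    · obtain ⟨d, hd⟩ := hi
      have : d ∈ T := hT ▸ Subgroup.mem_top d
      exact hd ▸ this
    · have h2 : C.pr h * σ ∈ Inn M22g := by
        rw [Subgroup.mul_mem_iff_of_index_two JFourEleven.index_inn]
        exact iff_of_false hi ho
      obtain ⟨d, hd⟩ := h2
      have : d ∈ T := hT ▸ Subgroup.mem_top d
      exact (Subgroup.mul_mem_cancel_right _ hσK).1 (hd ▸ this)
  obtain ⟨k', hk', e⟩ := hmem
  have hkk : k'⁻¹ * h ∈ C.pr.ker := by rw [MonoidHom.mem_ker, map_mul, map_inv, e, inv_mul_cancel]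
  have := mul_mem hk' (hle (hker hkk))
  rwa [mul_inv_cancel_left] at this

section

variable {G : Type u} [Group G] [Finite G] {z : G}

/-- A subgroup containing the normaliser and one further element centralising `z` contains `C(z)`. -/
theorem H_le (L : Setting z) (M : Subgroup G) (hNM : Subgroup.normalizer (L.A : Set G) ≤ M) {g : G}
    (hgM : g ∈ M) (hgz : g * z = z * g) (hg : g ∉ Subgroup.normalizer (L.A : Set G)) :
    Subgroup.centralizer ({z} : Set G) ≤ M := by
  have h := eq_top_of_gt L.D (K := M.subgroupOf L.H) (fun h hh => hNM (L.mem_normalizer_iff.2 hh))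
    (k := ⟨g, Subgroup.mem_centralizer_singleton_iff.2 hgz⟩) hgM
    fun hh => hg (L.mem_normalizer_iff.2 hh)
  exact Subgroup.subgroupOf_eq_top.1 h

/-- The elements of `A` conjugate to `z` are conjugate to it by the normaliser. -/
theorem exists_normalizer_conj (L : Setting z) {a : G} (ha : a ∈ L.A) (hc : IsConj z a) :
    ∃ m ∈ Subgroup.normalizer (L.A : Set G), m * z * m⁻¹ = a := by
  obtain ⟨g, rfl⟩ := isConj_iff.1 hc
  exact L.fusion z L.z_A g ha

theorem card_conj_lt_closure [IsSimpleGroup G] (hG : ¬ IsMulCommutative G) (L : Setting z)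
    {S : Subgroup G} (hS : ∀ a ∈ L.A, IsConj z a → a ∈ S) : L.A ≤ S := by
  set T := Subgroup.closure (Layer.conjs z L.A) with hT
  have hTA : T ≤ L.A := (Subgroup.closure_le _).2 fun a ha => ha.1
  have hcard : 1771 ≤ Nat.card T := by
    rw [← (L.layer hG).main.1]
    exact Nat.card_le_card_of_injective (fun a : Layer.conjs z L.A =>
      (⟨a.1, Subgroup.subset_closure a.2⟩ : T)) fun a b e => Subtype.ext (congrArg (fun x : T => x.1) e)
  have heq : T = L.A := by
    refine Subgroup.eq_of_le_of_card_ge hTA ?_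
    have hd := Subgroup.card_dvd_of_le hTA
    rw [L.card_A] at hd ⊢
    obtain ⟨k, hk, e⟩ := (Nat.dvd_prime_pow Nat.prime_two).1 hd
    rw [e] at hcard ⊢
    exact Nat.pow_le_pow_right two_pos (by
      by_contra hlt
      have := Nat.pow_le_pow_right two_pos (show k ≤ 10 by omega)
      omega)
  rw [← heq]
  exact (Subgroup.closure_le _).2 fun a ha => hS a ha.1 ha.2

/-! ### The type passes to a subgroup containing the centraliser -/

theorem map_centralizer {M : Subgroup G} (hH : Subgroup.centralizer ({z} : Set G) ≤ M) (zM : M)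
    (hz : (zM : G) = z) :
    (Subgroup.centralizer ({zM} : Set M)).map M.subtype = Subgroup.centralizer ({z} : Set G) := by
  ext x
  constructor
  · rintro ⟨m, hm, rfl⟩
    refine Subgroup.mem_centralizer_singleton_iff.2 ?_
    rw [← hz]
    exact congrArg Subtype.val (Subgroup.mem_centralizer_singleton_iff.1 hm)
  · intro hx
    refine ⟨⟨x, hH hx⟩, Subgroup.mem_centralizer_singleton_iff.2 (Subtype.ext ?_), rfl⟩
    show x * (zM : G) = zM * x
    rw [hz]
    exact Subgroup.mem_centralizer_singleton_iff.1 hx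

theorem map_twoCore {M : Subgroup G} (hH : Subgroup.centralizer ({z} : Set G) ≤ M) (zM : M)
    (hz : (zM : G) = z) : (twoCoreOfCentralizer zM).map M.subtype = twoCoreOfCentralizer z := by
  let e : Subgroup.centralizer ({zM} : Set M) ≃* Subgroup.centralizer ({z} : Set G) :=
    ((Subgroup.centralizer ({zM} : Set M)).equivMapOfInjective M.subtype M.subtype_injective).trans
      (MulEquiv.subgroupCongr (map_centralizer hH zM hz))
  have hcomp : M.subtype.comp (Subgroup.centralizer ({zM} : Set M)).subtype =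
      (Subgroup.centralizer ({z} : Set G)).subtype.comp e.toMonoidHom := by ext a; rfl
  unfold twoCoreOfCentralizer
  rw [Subgroup.map_map, hcomp, ← Subgroup.map_map, ThompsonWielandt.map_pCore_equiv]

theorem isType_subgroup {M : Subgroup G} (hH : Subgroup.centralizer ({z} : Set G) ≤ M) (zM : M)
    (hz : (zM : G) = z) (hJ : IsOfJankoFourTypeAt z) : IsOfJankoFourTypeAt zM := by
  obtain ⟨P, hord, hext, hcard, hcent, ⟨N, hEN, hNH, hHN, hNcard, ⟨hNn, ⟨ε⟩⟩, hPN⟩, hP3, hfix, hne,
    hperf⟩ := hJ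
  haveI := hNn
  have hmc := map_centralizer hH zM hz
  have hme := map_twoCore hH zM hz
  have hinj := M.subtype_injective
  have hPM : (P.comap M.subtype).map M.subtype = P :=
    Subgroup.map_comap_eq_self (by rw [Subgroup.range_subtype]; exact (hPN.trans hNH).trans hH)
  have hNM : (N.comap M.subtype).map M.subtype = N :=
    Subgroup.map_comap_eq_self (by rw [Subgroup.range_subtype]; exact hNH.trans hH)
  set Pm := P.comap M.subtype
  set Nm := N.comap M.subtype
  have hcP : ∀ x : M, x ∈ Subgroup.centralizer (Pm : Set M) ↔ (x : G) ∈ Subgroup.centralizer (P : Set G) := by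
    intro x
    simp only [Subgroup.mem_centralizer_iff]
    constructor
    · intro h p hp
      exact congrArg Subtype.val (h ⟨p, hH (hNH (hPN hp))⟩ hp)
    · exact fun h p hp => Subtype.ext (h p hp)
  have hnP : ∀ x : M, x ∈ Subgroup.normalizer (Pm : Set M) ↔ (x : G) ∈ Subgroup.normalizer (P : Set G) := by
    intro x
    simp only [Subgroup.mem_normalizer_iff]
    constructor
    · intro h p
      constructor
      · intro hp
        exact (h ⟨p, hH (hNH (hPN hp))⟩).1 hp
      · intro hp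
        have hpM : p ∈ M := by
          have : p = (x : G)⁻¹ * ((x : G) * p * (x : G)⁻¹) * x := by group
          rw [this]
          exact mul_mem (mul_mem (inv_mem x.2) (hH (hNH (hPN hp)))) x.2
        exact (h ⟨p, hpM⟩).2 hp
    · exact fun h p => h p
  have hC2 : (Subgroup.centralizer ({zM} : Set M) ⊓ Subgroup.centralizer (Pm : Set M)).map M.subtype =
      Subgroup.centralizer ({z} : Set G) ⊓ Subgroup.centralizer (P : Set G) := by
    rw [Subgroup.map_inf_eq _ _ _ hinj, hmc]
    ext x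
    constructor
    · rintro ⟨h1, y, hy, rfl⟩
      exact ⟨h1, (hcP y).1 hy⟩
    · rintro ⟨h1, h2⟩
      exact ⟨h1, ⟨x, hH h1⟩, (hcP _).2 h2, rfl⟩
  refine ⟨Pm, by rw [← Subgroup.orderOf_coe, hz, hord], ?_, ?_, ?_, ⟨Nm, ?_, ?_, ?_, ?_, ?_, ?_⟩, ?_,
    ?_, ?_, ?_⟩
  · exact LargeExtraspecial.isExtraspecial_of_mulEquiv
      ((MulEquiv.subgroupCongr hme.symm).trans
        ((twoCoreOfCentralizer zM).equivMapOfInjective M.subtype hinj).symm) hext
  · rw [← Subgroup.card_map_of_injective (f := M.subtype) hinj, hme, hcard]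
  · rintro x ⟨hx1, hx2⟩
    have hxG : (x : G) ∈ twoCoreOfCentralizer z := hcent ⟨hmc ▸ ⟨x, hx1, rfl⟩,
      Subgroup.mem_centralizer_iff.2 fun y hy => by
        rw [SetLike.mem_coe, ← hme] at hy
        obtain ⟨y', hy', rfl⟩ := hy
        exact congrArg Subtype.val (Subgroup.mem_centralizer_iff.1 hx2 y' hy')⟩
    rw [← hme] at hxG
    exact (Subgroup.mem_map_iff_mem hinj).1 hxG
  · rw [← Subgroup.map_le_map_iff_of_injective hinj, hme, hNM]
    exact hEN
  · rw [← Subgroup.map_le_map_iff_of_injective hinj, hmc, hNM]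
    exact hNH
  · intro x hx
    have hn := hHN (hmc ▸ ⟨x, hx, rfl⟩ : (x : G) ∈ Subgroup.centralizer ({z} : Set G))
    exact Subgroup.mem_normalizer_iff.2 fun y => Subgroup.mem_normalizer_iff.1 hn y
  · rw [← Subgroup.card_map_of_injective (f := M.subtype) hinj, hNM,
      ← Subgroup.card_map_of_injective (f := M.subtype) (K := twoCoreOfCentralizer zM) hinj, hme, hNcard]
  · let e : Subgroup.centralizer ({zM} : Set M) ≃* Subgroup.centralizer ({z} : Set G) :=
      ((Subgroup.centralizer ({zM} : Set M)).equivMapOfInjective M.subtype hinj).trans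
        (MulEquiv.subgroupCongr hmc)
    have hmap : (Nm.subgroupOf (Subgroup.centralizer ({zM} : Set M))).map e.toMonoidHom =
        N.subgroupOf (Subgroup.centralizer ({z} : Set G)) := by
      ext x
      obtain ⟨y, rfl⟩ := e.surjective x
      rw [Subgroup.mem_map_equiv, e.symm_apply_apply]
      rfl
    have hn : (Nm.subgroupOf (Subgroup.centralizer ({zM} : Set M))).Normal := by
      have hc := hNn.comap e.toMonoidHom
      have : (N.subgroupOf (Subgroup.centralizer ({z} : Set G))).comap e.toMonoidHom =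
          Nm.subgroupOf (Subgroup.centralizer ({zM} : Set M)) := rfl
      rwa [this] at hc
    exact ⟨hn, ⟨(QuotientGroup.congr _ _ e hmap).trans ε⟩⟩
  · exact Subgroup.comap_mono hPN
  · rw [← Subgroup.card_map_of_injective (f := M.subtype) hinj, hPM, hP3]
  · apply Subgroup.map_injective hinj
    rw [Subgroup.map_inf_eq _ _ _ hinj, hme, MonoidHom.map_zpowers,
      show M.subtype zM = z from hz, ← hfix]
    ext x
    constructor
    · rintro ⟨h1, y, hy, rfl⟩
      exact ⟨h1, (hcP y).1 hy⟩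
    · rintro ⟨h1, h2⟩
      have hxM : x ∈ M := hH (hEN.trans hNH h1)
      exact ⟨h1, ⟨x, hxM⟩, (hcP _).2 h2, rfl⟩
  · intro e
    apply hne
    ext x
    constructor
    · rintro ⟨h1, h2⟩
      have hx : (⟨x, hH h1⟩ : M) ∈ Subgroup.centralizer ({zM} : Set M) ⊓ Subgroup.normalizer (Pm : Set M) :=
        ⟨(Subgroup.mem_map_iff_mem hinj).1 (hmc.symm ▸ h1), (hnP _).2 h2⟩
      rw [e] at hx
      exact ⟨h1, (hcP _).1 hx.2⟩
    · rintro ⟨h1, h2⟩
      exact ⟨h1, Subgroup.centralizer_le_normalizer _ h2⟩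
  · rw [← Subgroup.map_le_map_iff_of_injective hinj, hPM, Subgroup.map_commutator, hC2]
    exact hperf

/-! ### The subgroup is simple -/

/-- The large extraspecial subgroup at the central involution. -/
theorem isZSub {X : Type*} [Group X] [Finite X] {zX : X} (L : Setting zX) :
    LargeExtraspecial.IsZSub L.E zX := by
  have hE : L.E = twoCoreOfCentralizer zX := L.mapE
  have hext : Cfsg.IsExtraspecial 2 L.E := hE ▸ L.type.2.1
  have h2 : orderOf zX = 2 := L.type.1
  have hzc : ∀ x ∈ L.E, x * zX = zX * x := fun x hx =>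
    Subgroup.mem_centralizer_singleton_iff.1 (L.E_le_H hx)
  have hcen : (Subgroup.center L.E).map L.E.subtype = Subgroup.zpowers zX := by
    refine (Subgroup.eq_of_le_of_card_ge (Subgroup.zpowers_le.2
      (show zX ∈ (Subgroup.center L.E).map L.E.subtype from
        ⟨⟨zX, L.z_E⟩, Subgroup.mem_center_iff.2 fun x => Subtype.ext (hzc x x.2), rfl⟩)) ?_).symm
    rw [Subgroup.card_map_of_injective L.E.subtype_injective, hext.2, Nat.card_zpowers, h2]
  refine ⟨hext, le_antisymm (fun c hc => ?_) ?_, ?_, hcen, h2⟩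
  · rw [hcen]
    have hcH : c ∈ L.H := Subgroup.mem_centralizer_singleton_iff.2
      (Subgroup.mem_centralizer_iff.1 hc zX L.z_E).symm
    rcases L.C.centE ⟨c, hcH⟩ fun e he => Subtype.ext
      (Subgroup.mem_centralizer_iff.1 hc e (L.mem_E.2 he)).symm with e | e
    · rw [show c = 1 from congrArg Subtype.val e]; exact one_mem _
    · rw [show c = zX from (congrArg Subtype.val e).trans L.Cz]; exact Subgroup.mem_zpowers zX
  · rw [hcen, Subgroup.zpowers_le]
    exact Subgroup.mem_centralizer_iff.2 hzc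
  · intro c hc
    have hcH : c ∈ L.H := Subgroup.mem_centralizer_singleton_iff.2
      (Subgroup.mem_centralizer_iff.1 hc zX (hcen ▸ Subgroup.mem_zpowers zX)).symm
    refine Subgroup.mem_normalizer_fintype ?_
    rintro _ ⟨e, he, rfl⟩
    exact ⟨⟨c, hcH⟩ * e * ⟨c, hcH⟩⁻¹, L.C.normal _ _ he, rfl⟩

/-- A subgroup normalised by `M` and containing `z` contains the normaliser. -/
theorem normalizer_le_of_normal [IsSimpleGroup G] (hG : ¬ IsMulCommutative G) (L : Setting z)
    (K : Subgroup G) (hzK : z ∈ K)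
    (hnA : ∀ m ∈ Subgroup.normalizer (L.A : Set G), ∀ k ∈ K, m * k * m⁻¹ ∈ K)
    (hnH : ∀ m ∈ L.H, ∀ k ∈ K, m * k * m⁻¹ ∈ K) :
    Subgroup.normalizer (L.A : Set G) ≤ K ∧ ∃ g ∈ K, g * z = z * g ∧
      g ∉ Subgroup.normalizer (L.A : Set G) := by
  haveI : IsSimpleGroup M22g := CfsgLib.Mathieu.simple_SporM22
  haveI : IsSimpleGroup Cfsg.M24 := CfsgLib.Mathieu.simple_M24
  have hAK : L.A ≤ K := card_conj_lt_closure hG L fun a ha hc => by
    obtain ⟨m, hm, rfl⟩ := exists_normalizer_conj L ha hc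
    exact hnA m hm z hzK
  -- the image of `K` in the automorphism group contains every inner automorphism
  let KH := K.subgroupOf L.H
  haveI hKHn : KH.Normal := ⟨fun k hk m => hnH m m.2 k hk⟩
  let T := (KH.map L.C.pr).comap (MulAut.conj : M22g →* MulAut M22g)
  haveI : (KH.map L.C.pr).Normal := hKHn.map _ L.C.surj
  have hTn : T.Normal := inferInstance
  obtain ⟨a, -, -, ha, -, -, a3, -, -, a1, -, -, -, -, hfree, -, -, -, -⟩ := exists_hexad_norm
  have hanot : a ∉ hexadGroup := fun h => a1 (hfree a h rfl)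
  have hT : T = ⊤ := by
    refine hTn.eq_bot_or_eq_top.resolve_left fun hbot => ?_
    obtain ⟨u, hu, hu1⟩ : ∃ u ∈ hexadGroup, u ≠ 1 := by
      by_contra! hcon
      have h := card_hexadGroup
      rw [(Subgroup.eq_bot_iff_forall hexadGroup).2 hcon, Subgroup.card_bot] at h
      norm_num at h
    rw [← L.D.inner_R] at hu
    obtain ⟨r, hr, e⟩ := L.D.mem_inner.1 hu
    have : u ∈ T := ⟨r, hAK (L.mem_A.2 hr), e⟩
    rw [hbot, Subgroup.mem_bot] at this
    exact hu1 this
  have hlift : ∀ d : M22g, ∃ c : L.H, (c : G) ∈ K ∧ L.C.pr c = MulAut.conj d := fun d => by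
    obtain ⟨c, hc, e⟩ : d ∈ T := hT ▸ Subgroup.mem_top d
    exact ⟨c, hc, e⟩
  refine ⟨?_, ?_⟩
  · obtain ⟨Kτ⟩ := nonempty_model (L.layer hG)
    obtain ⟨c, hcK, hc⟩ := hlift a
    have hcN : c ∈ Subgroup.normalizer (L.D.R : Set L.H) := L.D.mem_normalizer_R.2 fun m hm => by
      rw [hc, MulAut.conj_apply]
      exact (Subgroup.mem_normalizer_iff.1 ha m).1 hm
    have hcA : (c : G) ∉ L.A := fun h => hanot (by
      rw [← L.D.inner_R]
      exact L.D.mem_inner.2 ⟨c, L.mem_A.1 h, hc⟩)
    set N := Subgroup.normalizer (L.A : Set G)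
    haveI : (K.subgroupOf N).Normal := ⟨fun k hk m => hnA m m.2 k hk⟩
    let cN : N := ⟨c, L.mem_normalizer_iff.2 hcN⟩
    have himg : (K.subgroupOf N).map Kτ.τ = ⊤ := by
      refine (Subgroup.Normal.map inferInstance _ Kτ.surj).eq_bot_or_eq_top.resolve_left fun hbot => ?_
      have h : Kτ.τ cN ∈ (K.subgroupOf N).map Kτ.τ := Subgroup.mem_map_of_mem _ hcK
      rw [hbot, Subgroup.mem_bot] at h
      exact hcA (Kτ.mem_ker.1 h)
    intro n hn
    obtain ⟨k, hk, e⟩ : Kτ.τ ⟨n, hn⟩ ∈ (K.subgroupOf N).map Kτ.τ := himg ▸ Subgroup.mem_top _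
    have hker : Kτ.τ (k⁻¹ * ⟨n, hn⟩) = 1 := by rw [map_mul, map_inv, e, inv_mul_cancel]
    have := mul_mem (show (k : G) ∈ K from hk) (hAK (Kτ.mem_ker.1 hker))
    simpa using this
  · obtain ⟨d, hd⟩ : ∃ d : M22g, d ∉ Subgroup.normalizer (hexadGroup : Set M22g) := by
      by_contra! hcon
      have h := card_normalizer_hexad
      rw [(Subgroup.eq_top_iff' _).2 hcon, Subgroup.card_top, CfsgLib.Mathieu.card_SporM22] at h
      norm_num at h
    obtain ⟨c, hcK, hc⟩ := hlift d
    refine ⟨c, hcK, Subgroup.mem_centralizer_singleton_iff.1 c.2, fun h => hd ?_⟩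
    refine Subgroup.mem_normalizer_fintype fun m hm => ?_
    have := L.D.pr_mem_of_normalizer (L.mem_normalizer_iff.1 h) hm
    rwa [hc, MulAut.conj_apply] at this

theorem isSimple_subgroup [IsSimpleGroup G] (hG : ¬ IsMulCommutative G) (L : Setting z)
    (M : Subgroup G) (hNM : Subgroup.normalizer (L.A : Set G) ≤ M) (hH : L.H ≤ M) :
    IsSimpleGroup M := by
  have hzM : z ∈ M := hNM (Subgroup.le_normalizer L.z_A)
  have hJ : IsOfJankoFourTypeAt z := ⟨L.P, L.type⟩
  obtain ⟨LM⟩ := nonempty_setting (isType_subgroup hH ⟨z, hzM⟩ rfl hJ)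
  have hZ := isZSub LM
  have hEmap : LM.E.map M.subtype = L.E := by
    rw [show LM.E = twoCoreOfCentralizer _ from LM.mapE, map_twoCore hH _ rfl]
    exact L.mapE.symm
  obtain ⟨a, ⟨haA, haE⟩, hac, hne⟩ := L.exists_conj_inner hG
  obtain ⟨m, hm, e⟩ := exists_normalizer_conj L haA hac
  have hs : (⟨m, hNM hm⟩ : M) * ⟨z, hzM⟩ * ⟨m, hNM hm⟩⁻¹ ∈ LM.E := by
    rw [← hEmap] at haE
    obtain ⟨y, hy, hye⟩ := haE
    rwa [show (⟨m, hNM hm⟩ : M) * ⟨z, hzM⟩ * ⟨m, hNM hm⟩⁻¹ = y from
      Subtype.ext (show m * z * m⁻¹ = (y : G) from e.trans hye.symm)]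
  have hlarge := LargeExtraspecial.isLarge_of_pairData (LargeExtraspecial.pairData_of_mem hZ
    (by rw [LM.card_E]; norm_num) hs fun e' => hne (e.symm.trans (congrArg Subtype.val e')))
  refine hZ.isSimpleGroup hlarge ?_
  set W := Subgroup.normalClosure ({⟨z, hzM⟩} : Set M) with hW
  set K := W.map M.subtype with hK
  have hnK : ∀ m ∈ M, ∀ k ∈ K, m * k * m⁻¹ ∈ K := by
    rintro m hm _ ⟨k, hk, rfl⟩
    exact ⟨⟨m, hm⟩ * k * ⟨m, hm⟩⁻¹, Subgroup.normalClosure_normal.conj_mem k hk _, rfl⟩
  obtain ⟨hNK, g, hgK, hgz, hg⟩ := normalizer_le_of_normal hG L K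
    ⟨_, Subgroup.subset_normalClosure rfl, rfl⟩ (fun m hm => hnK m (hNM hm))
    fun m hm => hnK m (hH hm)
  have hHK := H_le L K hNK hgK hgz hg
  intro x hx
  have : (x : G) ∈ K := hHK (map_centralizer hH ⟨z, hzM⟩ rfl ▸ ⟨x, hx, rfl⟩)
  exact (Subgroup.mem_map_iff_mem M.subtype_injective).1 this

theorem not_comm_subgroup (L : Setting z) (M : Subgroup G) (hH : L.H ≤ M) :
    ¬ IsMulCommutative M := by
  intro hc
  have hle : L.C.E ≤ Subgroup.zpowers L.C.z := fun h hh => by
    rcases L.C.centE h fun e he => by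
      have h1 : (⟨(h : G), hH h.2⟩ : M) * ⟨(e : G), hH e.2⟩ = ⟨(e : G), hH e.2⟩ * ⟨(h : G), hH h.2⟩ :=
        mul_comm' _ _
      exact Subtype.ext (show (h : G) * e = e * h from congrArg (fun x : M => (x : G)) h1) with e | e
    · rw [e]; exact one_mem _
    · rw [e]; exact Subgroup.mem_zpowers _
  have h := Subgroup.card_le_of_le hle
  rw [Nat.card_zpowers, L.C.two, L.C.cardE] at h
  norm_num at h

/-- The involutions of a subgroup containing `N(A)` and `C(z)` are conjugate inside it into `A`. -/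
theorem exists_conj_in [IsSimpleGroup G] (hG : ¬ IsMulCommutative G) (hcl : ClassFact.{u})
    (L : Setting z) (M : Subgroup G) (hNM : Subgroup.normalizer (L.A : Set G) ≤ M) (hH : L.H ≤ M)
    {x : G} (hxM : x ∈ M) (hx : orderOf x = 2) :
    ∃ m ∈ M, ∃ a ∈ L.A, a ≠ 1 ∧ m * a * m⁻¹ = x ∧
      (IsConj z a → ∃ n ∈ M, n * z * n⁻¹ = x) := by
  have hzM : z ∈ M := hNM (Subgroup.le_normalizer L.z_A)
  obtain ⟨LM⟩ := nonempty_setting (isType_subgroup hH ⟨z, hzM⟩ rfl ⟨L.P, L.type⟩)
  haveI := isSimple_subgroup hG L M hNM hH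
  obtain ⟨b, hb, hbx⟩ := hcl M (not_comm_subgroup L M hH) _ LM ⟨x, hxM⟩
    (by rw [← Subgroup.orderOf_coe]; exact hx)
  obtain ⟨m, hm⟩ := isConj_iff.1 hbx
  -- the group of order `2 ^ 11` of `M` is conjugate to `A` by an element of `C(z)`
  obtain ⟨g, hg⟩ := L.exists_conj_eq_A (V := LM.A.map M.subtype)
    (isElementaryAbelian_of_sq (by rintro _ ⟨v, hv, rfl⟩; exact congrArg Subtype.val (LM.A_sq hv)))
    (by rw [Subgroup.card_map_of_injective M.subtype_injective, LM.card_A])
  have hz' : z ∈ L.A.map (MulAut.conj g).toMonoidHom := hg.symm ▸ ⟨_, LM.z_A, rfl⟩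
  obtain ⟨z₁, hz₁, hz₁e⟩ := hz'
  have hz₁e' : g⁻¹ * z * g = z₁ := by
    rw [show z = g * z₁ * g⁻¹ from hz₁e.symm]; group
  obtain ⟨n, hn, hne⟩ := L.fusion z L.z_A g⁻¹ (by rw [inv_inv, hz₁e']; exact hz₁)
  rw [inv_inv] at hne
  have hgnH : g * n ∈ L.H := Subgroup.mem_centralizer_singleton_iff.2 (by
    have : g * n * z * (g * n)⁻¹ = z := by
      rw [show g * n * z * (g * n)⁻¹ = g * (n * z * n⁻¹) * g⁻¹ by group, hne]; group
    exact mul_inv_eq_iff_eq_mul.1 this)
  have hgM : g ∈ M := by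
    have := mul_mem (hH hgnH) (inv_mem (hNM hn))
    rwa [mul_inv_cancel_right] at this
  obtain ⟨a, ha, hae⟩ : (b : G) ∈ L.A.map (MulAut.conj g).toMonoidHom := hg.symm ▸ ⟨b, hb, rfl⟩
  have hmx : (m : G) * g * a * ((m : G) * g)⁻¹ = x := by
    rw [show (m : G) * g * a * ((m : G) * g)⁻¹ = (m : G) * (g * a * g⁻¹) * (m : G)⁻¹ by group,
      show g * a * g⁻¹ = (b : G) from hae]
    exact congrArg Subtype.val hm
  refine ⟨(m : G) * g, mul_mem m.2 hgM, a, ha, ?_, hmx, fun hc => ?_⟩
  · rintro rfl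
    rw [mul_one, mul_inv_cancel] at hmx
    rw [← hmx, orderOf_one] at hx
    norm_num at hx
  · obtain ⟨k, hk, rfl⟩ := exists_normalizer_conj L ha hc
    exact ⟨(m : G) * g * k, mul_mem (mul_mem m.2 hgM) (hNM hk), by rw [← hmx]; group⟩

/-- A subgroup containing `N(A)` and `C(z)` is the whole group. -/
theorem eq_top_of_local [IsSimpleGroup G] (hG : ¬ IsMulCommutative G) (hcl : ClassFact.{u})
    (hcent : CentFact z) (L : Setting z) (M : Subgroup G)
    (hNM : Subgroup.normalizer (L.A : Set G) ≤ M) (hH : L.H ≤ M) : M = ⊤ := by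
  by_contra hne
  have hzM : z ∈ M := hNM (Subgroup.le_normalizer L.z_A)
  have heven : Even (Nat.card M) := by
    rw [even_iff_two_dvd]
    exact (L.type.1 ▸ Subgroup.orderOf_mk z hzM ▸ orderOf_dvd_natCard (⟨z, hzM⟩ : M))
  have hse : Cfsg.IsStronglyEmbedded M := by
    rw [CfsgLib.Small.isStronglyEmbedded_iff_centralizer hne heven]
    refine ⟨fun x hx h2 => ?_, fun x hx y hy hx2 hy2 hc => ?_⟩
    · obtain ⟨m, hm, a, ha, ha1, hma, hz⟩ := exists_conj_in hG hcl L M hNM hH hx h2
      have key : ∀ {b n : G}, n ∈ M → n * b * n⁻¹ = x →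
          Subgroup.centralizer ({b} : Set G) ≤ M → Subgroup.centralizer ({x} : Set G) ≤ M := by
        intro b n hn e hb c hcx
        have hcb : n⁻¹ * c * n ∈ Subgroup.centralizer ({b} : Set G) := by
          rw [Subgroup.mem_centralizer_singleton_iff] at hcx ⊢
          rw [show b = n⁻¹ * x * n by rw [← e]; group]
          calc n⁻¹ * c * n * (n⁻¹ * x * n) = n⁻¹ * (c * x) * n := by group
            _ = n⁻¹ * (x * c) * n := by rw [hcx]
            _ = n⁻¹ * x * n * (n⁻¹ * c * n) := by group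
        have := mul_mem (mul_mem hn (hb hcb)) (inv_mem hn)
        simpa [mul_assoc] using this
      by_cases hza : IsConj z a
      · obtain ⟨n, hn, e⟩ := hz hza
        exact key hn e hH
      · exact key hm hma ((hcent L a ⟨ha, ha1, hza⟩).trans hNM)
    · obtain ⟨m, hm, a, ha, ha1, hma, hza'⟩ := exists_conj_in hG hcl L M hNM hH hx hx2
      obtain ⟨k, hk, b, hb, hb1, hkb, hzb'⟩ := exists_conj_in hG hcl L M hNM hH hy hy2
      have hab : IsConj a b :=
        ((isConj_iff.2 ⟨m, hma⟩).trans hc).trans (isConj_iff.2 ⟨k, hkb⟩).symm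
      by_cases hza : IsConj z a
      · obtain ⟨n, hn, e1⟩ := hza' hza
        obtain ⟨n', hn', e2⟩ := hzb' (hza.trans hab)
        exact ⟨n' * n⁻¹, mul_mem hn' (inv_mem hn), by rw [← e1, ← e2]; group⟩
      · have hzb : ¬ IsConj z b := fun h => hza (h.trans hab.symm)
        obtain ⟨q, hq, e⟩ := (L.layer hG).others_transitive ⟨ha, ha1, hza⟩ ⟨hb, hb1, hzb⟩
        exact ⟨k * q * m⁻¹, mul_mem (mul_mem hk (hNM hq)) (inv_mem hm),
          by rw [← hma, ← hkb, ← e]; group⟩
  haveI := CfsgLib.SEmbed.nontrivial_cosets hse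
  haveI : Nonempty (Layer.others z L.A) :=
    (Nat.card_pos_iff.1 (by rw [(L.layer hG).card_others]; norm_num)).1
  obtain ⟨a, ha, ha1, hza⟩ := Classical.arbitrary (Layer.others z L.A)
  haveI : Fact (Nat.Prime 2) := ⟨Nat.prime_two⟩
  exact hza (CfsgLib.SEmbed.isConj_invol (CfsgLib.SEmbed.uniqueFix hse) L.type.1
    (orderOf_eq_prime (by rw [pow_two, L.A_sq ha]) ha1))

/-- The two classes of involutions. -/
theorem two_classes [IsSimpleGroup G] (hG : ¬ IsMulCommutative G) (hJ : IsOfJankoFourTypeAt z)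
    (hcl : ClassFact.{u}) :
    ∃ x y : G, orderOf x = 2 ∧ orderOf y = 2 ∧ ¬ IsConj x y ∧
      ∀ w : G, orderOf w = 2 → IsConj w x ∨ IsConj w y := by
  obtain ⟨L⟩ := nonempty_setting hJ
  haveI : Nonempty (Layer.others z L.A) :=
    (Nat.card_pos_iff.1 (by rw [(L.layer hG).card_others]; norm_num)).1
  obtain ⟨y, hy, hy1, hzy⟩ := Classical.arbitrary (Layer.others z L.A)
  haveI : Fact (Nat.Prime 2) := ⟨Nat.prime_two⟩
  refine ⟨z, y, L.type.1, orderOf_eq_prime (by rw [pow_two, L.A_sq hy]) hy1, hzy, fun w hw => ?_⟩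
  obtain ⟨a, ha, haw⟩ := hcl G hG z L w hw
  by_cases hza : IsConj z a
  · exact Or.inl (hza.trans haw).symm
  · have ha1 : a ≠ 1 := by
      rintro rfl
      rw [isConj_one_right] at haw
      rw [haw, orderOf_one] at hw
      norm_num at hw
    obtain ⟨m, -, e⟩ := (L.layer hG).others_transitive ⟨ha, ha1, hza⟩ ⟨hy, hy1, hzy⟩
    exact Or.inr (haw.symm.trans (isConj_iff.2 ⟨m, e⟩))

/-- The endgame of the recognition. -/
theorem eq_top_of [IsSimpleGroup G] (hG : ¬ IsMulCommutative G) (hJ : IsOfJankoFourTypeAt z)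
    (hcl : ClassFact.{u}) (hcent : CentFact z) (N : NMap G z) (M : Subgroup G)
    (hN : N.e.range ≤ M) {g : G} (hgM : g ∈ M) (hgz : g * z = z * g) (hg : g ∉ N.e.range) :
    M = ⊤ := by
  obtain ⟨L⟩ := nonempty_setting hJ
  obtain ⟨V, hV, hVc, hrange, hmem⟩ := N.range_eq
  rw [hrange] at hN hg
  have hzvJ : zJ ∈ vJ := Subgroup.list_prod_mem _ fun a ha => by
    obtain ⟨i, hi, rfl⟩ := List.mem_map.1 ha
    refine Subgroup.subset_closure ⟨i, ?_, rfl⟩
    simp only [List.mem_cons, List.not_mem_nil, or_false] at hi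
    omega
  have hzV : z ∈ V := N.map_z (vJ_le_HJ facts hzvJ) ▸ (hmem ⟨zJ, vJ_le_HJ facts hzvJ⟩).1 hzvJ
  obtain ⟨k, hk⟩ := L.exists_conj_eq_A hV hVc
  obtain ⟨z₁, hz₁, hz₁e⟩ : z ∈ L.A.map (MulAut.conj k).toMonoidHom := hk.symm ▸ hzV
  have hz₁e' : k⁻¹ * z * k = z₁ := by rw [show z = k * z₁ * k⁻¹ from hz₁e.symm]; group
  obtain ⟨n, hn, hne⟩ := L.fusion z L.z_A k⁻¹ (by rw [inv_inv, hz₁e']; exact hz₁)
  rw [inv_inv] at hne
  -- `h` centralises `z` and carries `A` to `V`
  set h := k * n with hh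
  have hhz : h * z = z * h := by
    apply mul_inv_eq_iff_eq_mul.1
    rw [hh, show k * n * z * (k * n)⁻¹ = k * (n * z * n⁻¹) * k⁻¹ by group, hne]; group
  have hVA : ∀ x, x ∈ Subgroup.normalizer (L.A : Set G) ↔
      h * x * h⁻¹ ∈ Subgroup.normalizer (V : Set G) := by
    have hmap : L.A.map (MulAut.conj h).toMonoidHom = V := by
      rw [← hk]
      refine Subgroup.eq_of_le_of_card_ge ?_ ?_
      · rintro _ ⟨a, ha, rfl⟩
        exact ⟨n * a * n⁻¹, (Subgroup.mem_normalizer_iff.1 hn a).1 ha, by simp [hh, mul_assoc]⟩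
      · rw [Subgroup.card_map_of_injective (MulAut.conj _).injective,
          Subgroup.card_map_of_injective (MulAut.conj _).injective]
    intro x
    rw [← hmap, show ((L.A.map (MulAut.conj h).toMonoidHom : Subgroup G) : Set G) =
      ((L.A : Subgroup G).map (MulAut.conj h).toMonoidHom : Set G) from rfl,
      ← Subgroup.map_equiv_normalizer_eq, Subgroup.mem_map_equiv]
    simp [mul_assoc]
  -- the conjugate of `M`
  set M' := M.comap (MulAut.conj h).toMonoidHom with hM'
  have hNM' : Subgroup.normalizer (L.A : Set G) ≤ M' := fun x hx => hN ((hVA x).1 hx)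
  have hH' : L.H ≤ M' := by
    refine H_le L M' hNM' (g := h⁻¹ * g * h) ?_ ?_ ?_
    · show h * (h⁻¹ * g * h) * h⁻¹ ∈ M
      simpa [mul_assoc] using hgM
    · have c : Commute g z := hgz
      have d : Commute h z := hhz
      exact ((d.inv_left.mul_left c).mul_left d).eq
    · intro hc
      exact hg (by simpa [mul_assoc] using (hVA _).1 hc)
  have hhM : h ∈ M := by
    have := hH' (Subgroup.mem_centralizer_singleton_iff.2 hhz)
    simpa [hM'] using this
  have hNM : Subgroup.normalizer (L.A : Set G) ≤ M := fun x hx => by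
    have := mul_mem (mul_mem (inv_mem hhM) (hNM' hx : h * x * h⁻¹ ∈ M)) hhM
    simpa [mul_assoc] using this
  have hH : L.H ≤ M := fun x hx => by
    have := mul_mem (mul_mem (inv_mem hhM) (hH' hx : h * x * h⁻¹ ∈ M)) hhM
    simpa [mul_assoc] using this
  exact eq_top_of_local hG hcl hcent L M hNM hH

end

end CfsgLib.JFourAmalgam.Endgame
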