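import Cfsg.Agent.JFourAmalgam.ChecksA
import Cfsg.Agent.JFourAmalgam.ChecksB
import Cfsg.Agent.JFourAmalgam.ChecksC
import Cfsg.Agent.JFourAmalgam.ChecksD
import Cfsg.Agent.JFourAmalgam.ChecksE

/-!
# A compatible amalgam gives a homomorphism of the presented fourth Janko group

The images of `x, y` come from the map on `HJ` and that of `t` from the map on `dJ`; the two relations
saying that `t` commutes with the trio stabiliser follow from compatibility, and the two long ones from
`Glue.first_relation` and `Glue.second_relation`.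
-/

set_option autoImplicit false
set_option maxRecDepth 100000

namespace CfsgLib.JFourAmalgam

open CfsgLib.JankoFour

local notation "J" => Cfsg.Spor.J4

theorem small_letters : ∀ w ∈ [HBound.aW, HBound.pW, HBound.vW, uWord, Words.l, Words.l2, Words.b, Words.c,
    Words.T3, Words.n1, Words.n2, Words.n3], ∀ c ∈ w, c < 3 := by decide +kernel

theorem ev_winv {w : List ℕ} (h : ∀ c ∈ w, c < 3) : ev (HBound.winv w) = (ev w)⁻¹ := by
  rw [ev_wv h, ev_wv, HBound.wv_winv]
  intro c hc
  rw [HBound.winv, List.mem_reverse, List.mem_map] at hc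
  obtain ⟨a, ha, rfl⟩ := hc
  have := h a ha
  interval_cases a <;> decide

theorem ev_zero : ev [0] = xJ := by simp [ev, tabJ_zero]

theorem ev_one : ev [1] = yJ := by simp [ev, tabJ_one]

theorem ev_aW : ev HBound.aW = yJ * xJ * yJ * ((xJ * yJ⁻¹) ^ 2) * ((xJ * yJ) ^ 3) := by
  rw [ev_wv (small_letters _ (by simp))]
  simp [HBound.wv, HBound.aW, HBound.lv, pow_succ, mul_assoc]

theorem ev_uWord : ev uWord = yJ * xJ * yJ⁻¹ * xJ * yJ * xJ * yJ⁻¹ * xJ := by
  rw [ev_wv (small_letters _ (by simp))]
  simp [HBound.wv, uWord, HBound.uW, HBound.lv, mul_assoc]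

theorem ev_pW : ev HBound.pW = (yJ * xJ * yJ * xJ * yJ * xJ * yJ) ^ 3 := by
  rw [ev_wv (small_letters _ (by simp))]
  simp [HBound.wv, HBound.pW, HBound.lv, pow_succ, mul_assoc]

theorem ev_vW : ev HBound.vW = (xJ * yJ) ^ 3 * yJ * (xJ * yJ) ^ 6 * yJ := by
  rw [ev_wv (small_letters _ (by simp))]
  simp [HBound.wv, HBound.vW, HBound.lv, pow_succ, mul_assoc]

theorem word_mem_HJ {w : List ℕ} (h : ∀ c ∈ w, c < 3) : ev w ∈ HJ := by
  refine Subgroup.list_prod_mem _ fun a ha => ?_
  obtain ⟨c, hc, rfl⟩ := List.mem_map.1 ha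
  have := h c hc
  interval_cases c
  · rw [tabJ_zero]; exact Subgroup.subset_closure (Or.inl rfl)
  · rw [tabJ_one]; exact Subgroup.subset_closure (Or.inr (Or.inl rfl))
  · rw [tabJ_two]; exact inv_mem (Subgroup.subset_closure (Or.inr (Or.inl rfl)))

variable {G : Type*} [Group G] {z : G}

/-- A compatible amalgam gives a homomorphism agreeing with its two maps on the generators. -/
theorem exists_hom (hinj : Function.Injective CfsgLib.JankoFourRep.rep) (hq : BasicMem)
    (A : Amalgam G z) (hc : A.glue.Compat) :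
    ∃ Φ : J →* G, (∀ (a : J) (h : a ∈ HJ), a ∈ Subgroup.closure ({xJ, yJ} : Set J) → Φ a = A.toN.e ⟨a, h⟩) ∧
      Φ tJ = A.toC ⟨tJ, tJ_mem_dJ⟩ := by
  have cA := ok_aW
  have cl := ok_l
  have cl2 := ok_l2
  have cby := ok_by
  have cn := ok_first
  have cg := ok_pW
  have cf := ok_four
  have cn1 := ok_n1
  have cn2 := ok_n2
  have cn3 := ok_n3
  have cs1 := ok_step1
  have cs3 := ok_step3
  have ch := ok_h
  have chc := ok_hc
  have cgd := ok_g
  have ctd := ok_t
  have cbd := ok_b
  have dh := dom_h
  have dhi := dom_hi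
  have dhc := dom_hc
  have dg := dom_g
  have dt := dom_t
  have db := dom_b
  have hP := fun {w : List ℕ} (h : isP w = true) => ev_mem_pJ hinj hq h
  have xN_mem : xJ ∈ HJ := xJ_mem_HJ
  have yN_mem : yJ ∈ HJ := Subgroup.subset_closure (Or.inr (Or.inl rfl))
  set e := A.toN.e with he
  let xN : HJ := ⟨xJ, xN_mem⟩
  let yN : HJ := ⟨yJ, yN_mem⟩
  set gt := A.toC ⟨tJ, tJ_mem_dJ⟩ with hgt
  -- the image of `t` centralises the image of the trio stabiliser
  have htx : gt * e xN = e xN * gt := A.glue.comm_x hc tJ_mem_dJ HBound.tJ_comm_x.symm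
  have haW : ∀ c ∈ HBound.aW, c < 3 := small_letters _ (by simp)
  let aN : HJ := ⟨ev HBound.aW, word_mem_HJ haW⟩
  have hta : gt * e aN = e aN * gt :=
    A.glue.comm_P tJ_mem_dJ (hP cA) (by rw [ev_wv haW]; exact HBound.tJ_comm_a)
  have hlw : ∀ (w : List (List ℕ)) (h : ∀ c ∈ w.flatten, c < 3), (∀ p ∈ w, p = [0] ∨ p = HBound.aW) →
      gt * e ⟨ev w.flatten, word_mem_HJ h⟩ = e ⟨ev w.flatten, word_mem_HJ h⟩ * gt := by
    intro w
    induction w with
    | nil =>
      intro h _
      have h1 : (⟨ev ([] : List (List ℕ)).flatten, word_mem_HJ h⟩ : HJ) = 1 := Subtype.ext rfl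
      rw [h1, map_one]; simp
    | cons p w ih =>
      intro h hp
      have h' : ∀ c ∈ w.flatten, c < 3 := fun c hc => h c (List.mem_append_right _ hc)
      have hpl : ∀ c ∈ p, c < 3 := fun c hc => h c (List.mem_append_left _ hc)
      rw [show (⟨ev (p :: w).flatten, word_mem_HJ h⟩ : HJ) = ⟨ev p, word_mem_HJ hpl⟩ *
        ⟨ev w.flatten, word_mem_HJ h'⟩ from Subtype.ext (ev_append p w.flatten), map_mul, ← mul_assoc]
      have h1 : gt * e ⟨ev p, word_mem_HJ hpl⟩ = e ⟨ev p, word_mem_HJ hpl⟩ * gt := by
        rcases hp p List.mem_cons_self with rfl | rfl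
        · rw [show (⟨ev [0], word_mem_HJ hpl⟩ : HJ) = xN from Subtype.ext ev_zero]; exact htx
        · exact hta
      rw [h1, mul_assoc, ih h' fun q hq => hp q (List.mem_cons_of_mem _ hq), mul_assoc]
  have hl : gt * e ⟨ev Words.l, word_mem_HJ (small_letters _ (by simp))⟩ =
      e ⟨ev Words.l, word_mem_HJ (small_letters _ (by simp))⟩ * gt := by
    have e0 : Words.l = ([[0], HBound.aW, [0]] : List (List ℕ)).flatten := by decide
    simp only [e0]
    exact hlw _ (by decide) (by simp)
  have hl2 : gt * e ⟨ev Words.l2, word_mem_HJ (small_letters _ (by simp))⟩ =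
      e ⟨ev Words.l2, word_mem_HJ (small_letters _ (by simp))⟩ * gt := by
    have e0 : Words.l2 = ([HBound.aW, HBound.aW, [0]] : List (List ℕ)).flatten := by decide
    simp only [e0]
    exact hlw _ (by decide) (by simp)
  have hlJ : ∀ {w : List ℕ}, eqW (w ++ [3]) ([3] ++ w) = true → tJ * ev w = ev w * tJ := fun {w} h => by
    have := eq_of_eqW hinj h
    rw [ev_append, ev_append, ev_t] at this
    exact this.symm
  -- the presentation
  have px : projJ (FreeGroup.of Cfsg.Spor.J4.Gen.x) = xJ := rfl
  have py : projJ (FreeGroup.of Cfsg.Spor.J4.Gen.y) = yJ := rfl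
  have pt : projJ (FreeGroup.of Cfsg.Spor.J4.Gen.t) = tJ := rfl
  have hrel : ∀ r ∈ Cfsg.Spor.J4.extra, projJ r = 1 := fun r hr => rel_eq_one hr
  simp only [Cfsg.Spor.J4.extra, List.forall_mem_cons, map_mul, map_pow, map_inv, Cfsg.Spor.J4.x,
    Cfsg.Spor.J4.y, Cfsg.Spor.J4.t, px, py, pt] at hrel
  obtain ⟨r0, r1, r2, r3, r4, r5, r6, r7, r8, r9, r10, r11, -⟩ := hrel
  let f : Cfsg.Spor.J4.Gen → G := fun g => match g with
    | .x => e xN
    | .y => e yN
    | .t => gt
  have fx : f .x = e xN := rfl
  have fy : f .y = e yN := rfl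
  have ft : f .t = gt := rfl
  have hextra : ∀ r ∈ Cfsg.Spor.J4.extra, FreeGroup.lift f r = 1 := by
    simp only [Cfsg.Spor.J4.extra, List.forall_mem_cons, List.forall_mem_nil, map_mul, map_pow, map_inv,
      Cfsg.Spor.J4.x, Cfsg.Spor.J4.y, Cfsg.Spor.J4.t, FreeGroup.lift_apply_of, fx, fy, ft]
    have eaN : e aN = e yN * e xN * e yN * ((e xN * (e yN)⁻¹) ^ 2) * ((e xN * e yN) ^ 3) := by
      simp only [← map_inv, ← map_mul, ← map_pow]
      exact congrArg e (Subtype.ext (by simpa [aN, xN, yN] using ev_aW))
    refine ⟨?_, ?_, ?_, ?_, ?_, ?_, ?_, ?_, ?_, ?_, ?_, ?_, fun _ h => absurd h List.not_mem_nil⟩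
    iterate 7
      · simp only [← map_inv, ← map_mul, ← map_pow]
        refine (congrArg e (Subtype.ext ?_)).trans (map_one e)
        simp only [Subgroup.coe_mul, Subgroup.coe_inv, SubmonoidClass.coe_pow, OneMemClass.coe_one, xN, yN]
        assumption
    · rw [hgt, ← map_pow, show (⟨tJ, tJ_mem_dJ⟩ : dJ) ^ 2 = 1 from Subtype.ext tJ_sq, map_one]
    · rw [← eaN, mul_assoc, mul_assoc, hta]; group
    · rw [mul_assoc, mul_assoc, htx]; group
    · let aJ : HJ := ⟨ev uWord, word_mem_HJ (small_letters _ (by simp))⟩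
      let bN : HJ := ⟨ev Words.b, word_mem_HJ (small_letters _ (by simp))⟩
      have h := A.glue.first_relation tJ_mem_dJ yN aJ bN
        ⟨ev Words.l, word_mem_HJ (small_letters _ (by simp))⟩ hl (hlJ cl)
        (by
          have := hP cby
          rwa [ev_append, ev_append, ev_winv (small_letters _ (by simp)), ev_one] at this)
        (by
          have := hP cn
          rwa [ev_append, ev_append, ev_winv (small_letters _ (by simp))] at this)
        (by simpa [yN, aJ, ev_uWord] using r10)
      have eaJ : e aJ = e yN * e xN * (e yN)⁻¹ * e xN * e yN * e xN * (e yN)⁻¹ * e xN := by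
        simp only [← map_inv, ← map_mul]
        exact congrArg e (Subtype.ext (by simpa [aJ, xN, yN] using ev_uWord))
      rw [← eaJ]
      exact h
    · have egP : ev HBound.pW ∈ pJ := hP cg
      have hh : ev hW ∈ dJ := ev_mem_dJ hinj hq ch dh
      have hhi : ev hiW = (ev hW)⁻¹ := by
        have := eq_of_eqW hinj dhi
        rw [ev_append, ev_nil] at this
        exact eq_inv_of_mul_eq_one_right this
      let bN : HJ := ⟨ev HBound.vW, word_mem_HJ (small_letters _ (by simp))⟩
      let S : A.glue.Second tJ (ev HBound.pW) :=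
        { t_mem := tJ_mem_dJ
          g_mem := egP
          b := bN
          l := ⟨ev Words.l2, word_mem_HJ (small_letters _ (by simp))⟩
          l_t := hlJ cl2
          l_comm := hl2
          c := ⟨ev Words.c, word_mem_HJ (small_letters _ (by simp))⟩
          four := by
            have := hP cf
            rwa [ev_append, ev_append, ev_winv (small_letters _ (by simp))] at this
          h := ⟨ev hW, hh⟩
          h_c := by
            have := ev_mem_dJ hinj hq chc dhc
            rwa [ev_append, ev_append, ev_winv (small_letters _ (by simp))] at this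
          n₁ := ev Words.n1
          n₁_mem := hP cn1
          step₁ := by
            have := hP cs1
            rwa [ev_append, ev_append, ev_zero] at this
          n₂ := ev Words.n2
          n₂_mem := hP cn2
          n₃ := ev Words.n3
          n₃_mem := hP cn3
          step₃ := by
            have := hP cs3
            rw [ev_append, ev_append, ev_append, ev_append, ev_winv (small_letters _ (by simp)),
              ev_winv (small_letters _ (by simp)), ev_zero] at this
            show (ev Words.n2 * xJ)⁻¹ * ((ev Words.c)⁻¹ * ev Words.n3 * xJ) ∈ pJ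
            rwa [mul_inv_rev, xJ_inv]
          g_dom := by
            have := ev_mem_dJ hinj hq cgd dg
            simp only [ev_append, ev_zero, hhi, ev_winv (small_letters Words.n2 (by simp))] at this
            simpa only [Amalgam.glue, mul_assoc] using this
          t_dom := by
            have := ev_mem_dJ hinj hq ctd dt
            simp only [ev_append, ev_zero, ev_t, hhi, ev_winv (small_letters Words.n2 (by simp))] at this
            simpa only [Amalgam.glue, mul_assoc] using this
          b_dom := by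
            have := ev_mem_dJ hinj hq cbd db
            simp only [ev_append, ev_zero, ev_t, hhi, ev_winv (small_letters Words.n3 (by simp)),
              ev_winv (small_letters Words.c (by simp)), ev_winv (small_letters HBound.vW (by simp))] at this
            simp only [Amalgam.glue, bN, mul_assoc] at this ⊢
            exact this }
      have h := A.glue.second_relation hc S (by simpa [S, bN, ev_pW, ev_vW] using r11)
      have egN : e ⟨ev HBound.pW, pJ_le_HJ egP⟩ = (e yN * e xN * e yN * e xN * e yN * e xN * e yN) ^ 3 := by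
        simp only [← map_mul, ← map_pow]
        exact congrArg e (Subtype.ext (by simpa [xN, yN] using ev_pW))
      have ebN : e bN = (e xN * e yN) ^ 3 * e yN * (e xN * e yN) ^ 6 * e yN := by
        simp only [← map_mul, ← map_pow]
        exact congrArg e (Subtype.ext (by simpa [bN, xN, yN] using ev_vW))
      rw [← egN, ← ebN]
      exact h
  refine ⟨PresentedGroup.toGroup (f := f) ?_, ?_, PresentedGroup.toGroup.of _⟩
  · rintro r (hr | hr)
    · obtain ⟨a, hx, -⟩ := hr
      simp [Cfsg.Spor.coxNodes, Cfsg.Spor.J4.edges] at hx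
    · exact hextra r hr
  · intro a ha hm
    set Φ := PresentedGroup.toGroup (f := f) _
    have key : ∀ a ∈ Subgroup.closure ({xJ, yJ} : Set J), ∃ h : a ∈ HJ, Φ a = e ⟨a, h⟩ := by
      intro a hm
      induction hm using Subgroup.closure_induction with
      | mem a ha =>
        rcases ha with rfl | rfl
        · exact ⟨xN_mem, PresentedGroup.toGroup.of _⟩
        · exact ⟨yN_mem, PresentedGroup.toGroup.of _⟩
      | one => exact ⟨one_mem _, by rw [map_one, show (⟨1, one_mem HJ⟩ : HJ) = 1 from rfl, map_one]⟩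
      | mul a b _ _ iha ihb =>
        obtain ⟨h1, e1⟩ := iha
        obtain ⟨h2, e2⟩ := ihb
        exact ⟨mul_mem h1 h2, by rw [map_mul, e1, e2, ← map_mul]; rfl⟩
      | inv a _ iha =>
        obtain ⟨h1, e1⟩ := iha
        exact ⟨inv_mem h1, by rw [map_inv, e1, ← map_inv]; rfl⟩
    obtain ⟨h, e'⟩ := key a hm
    exact e'

end CfsgLib.JFourAmalgam
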