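import Cfsg.Agent.JFourAmalgam.Config

/-!
# Kernel checks: the third generator of `HJ` is a conjugate of `zJ` inside the amalgam
-/

set_option autoImplicit false
set_option maxRecDepth 100000

namespace CfsgLib.JFourAmalgam

open CfsgLib.JankoFour

/-- The conjugator of the third generator. -/
def sB : List ℕ :=
  [0, 1, 0, 1, 0, 2, 0, 2, 0, 2, 0, 1, 0, 1, 0, 2, 0]

/-- The word fixing `t`. -/
def sL : List ℕ := HBound.aW ++ HBound.aW ++ HBound.aW ++ [0]

/-- The conjugate of `y`. -/
def sM : List ℕ := sB ++ [1] ++ HBound.winv sB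

/-- The element moving the frame. -/
def sN : List ℕ := sB ++ HBound.winv HBound.sW ++ sL

/-- The conjugate of `y w⁻¹ t w`. -/
def sK : List ℕ := sM ++ (sN ++ [3] ++ HBound.winv sN)

/-- The word of the third generator. -/
def sWord : List ℕ :=
  let k := [1] ++ HBound.winv HBound.sW ++ [3] ++ HBound.sW
  k ++ k ++ k

theorem sM_ok : isP sM = true := by decide +kernel

theorem sN_ok : isP sN = true := by decide +kernel

theorem sK_ok : eqW (sK ++ sK ++ sK) zW = true := by decide +kernel

theorem sWord_ok : eqW (HBound.winv sB ++ zW ++ sB) sWord = true := by decide +kernel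

theorem s_small : ∀ w ∈ [sB, HBound.sW, sL, sM, sN], ∀ c ∈ w, c < 3 := by decide +kernel

end CfsgLib.JFourAmalgam
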