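import Cfsg.Agent.JFourAmalgam.Exist
import Cfsg.Agent.JFourAmalgam.Relators
import Cfsg.Agent.JFourAmalgam.SigmaChecks
import Cfsg.Agent.JankoFourM24.Main

/-!
# The recognition of the fourth Janko group from a compatible amalgam
-/

set_option autoImplicit false
set_option maxRecDepth 100000

namespace CfsgLib.JFourAmalgam

open CfsgLib.JankoFour

local notation "J" => Cfsg.Spor.J4

/-- The subgroup criterion: a subgroup containing the normalizer and one further element centralizing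
the involution is everything. -/
def EndGame (G : Type*) [Group G] (z : G) : Prop :=
  ∀ (N : NMap G z) (K : Subgroup G), N.e.range ≤ K →
    (∃ g ∈ K, g * z = z * g ∧ g ∉ N.e.range) → K = ⊤

theorem closure_gens : Subgroup.closure ({xJ, yJ, tJ} : Set J) = ⊤ := by
  rw [eq_top_iff, ← PresentedGroup.closure_range_of relsJ, Subgroup.closure_le]
  rintro _ ⟨g, rfl⟩
  cases g
  · exact Subgroup.subset_closure (Or.inl rfl)
  · exact Subgroup.subset_closure (Or.inr (Or.inl rfl))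
  · exact Subgroup.subset_closure (Or.inr (Or.inr rfl))

theorem word_mem_closure {w : List ℕ} (h : ∀ c ∈ w, c < 3) :
    ev w ∈ Subgroup.closure ({xJ, yJ} : Set J) := by
  refine Subgroup.list_prod_mem _ fun a ha => ?_
  obtain ⟨c, hc, rfl⟩ := List.mem_map.1 ha
  have := h c hc
  interval_cases c
  · rw [tabJ_zero]; exact Subgroup.subset_closure (Or.inl rfl)
  · rw [tabJ_one]; exact Subgroup.subset_closure (Or.inr rfl)
  · rw [tabJ_two]; exact inv_mem (Subgroup.subset_closure (Or.inr rfl))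

theorem ev_sWord : ev sWord = HBound.sJ := by
  have hw : ∀ c ∈ HBound.sW, c < 3 := s_small _ (by simp)
  rw [HBound.sJ, sWord]
  simp only [ev_append, ev_one, ev_t, ev_winv hw]
  rw [← ev_wv hw, pow_succ, pow_two]

variable {G : Type*} [Group G] {z : G}

/-- The homomorphism of an amalgam is the identification on `HJ`. -/
theorem hom_eq_on_HJ (hinj : Function.Injective CfsgLib.JankoFourRep.rep) (hq : BasicMem)
    (A : Amalgam G z) {Φ : J →* G}
    (hΦ : ∀ (a : J) (h : a ∈ HJ), a ∈ Subgroup.closure ({xJ, yJ} : Set J) → Φ a = A.toN.e ⟨a, h⟩)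
    (hΦt : Φ tJ = A.toC ⟨tJ, tJ_mem_dJ⟩) (hz : zJ ∈ pJ) (a : J) (h : a ∈ HJ) :
    Φ a = A.toN.e ⟨a, h⟩ := by
  set e := A.toN.e with he
  have hB : ∀ c ∈ sB, c < 3 := s_small _ (by simp)
  have hM : ∀ c ∈ sM, c < 3 := s_small _ (by simp)
  have hN : ∀ c ∈ sN, c < 3 := s_small _ (by simp)
  have onP : ∀ (w : List ℕ) (hw : ∀ c ∈ w, c < 3) (hp : ev w ∈ pJ),
      Φ (ev w) = A.toC ⟨ev w, pJ_le_dJ hp⟩ := fun w hw hp =>
    (hΦ _ (pJ_le_HJ hp) (word_mem_closure hw)).trans (A.agree _ _ _ hp)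
  have hm := ev_mem_pJ hinj hq sM_ok
  have hn := ev_mem_pJ hinj hq sN_ok
  let k : dJ := ⟨ev sM, pJ_le_dJ hm⟩ * (⟨ev sN, pJ_le_dJ hn⟩ * ⟨tJ, tJ_mem_dJ⟩ * ⟨ev sN, pJ_le_dJ hn⟩⁻¹)
  have hk : (k : J) = ev sK := by
    simp only [k, sK, ev_append, ev_t, ev_winv hN, Subgroup.coe_mul, Subgroup.coe_inv]
  have hΦk : Φ (k : J) = A.toC k := by
    simp only [k, Subgroup.coe_mul, Subgroup.coe_inv, map_mul, map_inv, onP _ hM hm, onP _ hN hn, hΦt]
  have hk3 : k ^ 3 = ⟨zJ, pJ_le_dJ hz⟩ := by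
    refine Subtype.ext ?_
    rw [SubmonoidClass.coe_pow, hk, pow_succ, pow_two, ← ev_append, ← ev_append]
    exact (eq_of_eqW hinj sK_ok).trans ev_zW
  have hΦz : Φ zJ = e ⟨zJ, pJ_le_HJ hz⟩ := by
    have h1 : Φ ((k : J) ^ 3) = A.toC (k ^ 3) := by rw [map_pow, hΦk, map_pow]
    rw [← SubmonoidClass.coe_pow, hk3] at h1
    exact h1.trans (A.agree _ _ _ hz).symm
  have hΦB := hΦ _ (word_mem_HJ hB) (word_mem_closure hB)
  let bN : HJ := ⟨ev sB, word_mem_HJ hB⟩
  have hs : HBound.sJ = (ev sB)⁻¹ * zJ * ev sB := by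
    rw [← ev_sWord, ← eq_of_eqW hinj sWord_ok, ev_append, ev_append, ev_winv hB, ev_zW]
  have key : ∀ a ∈ HJ, ∃ h : a ∈ HJ, Φ a = e ⟨a, h⟩ := by
    intro a ha
    induction ha using Subgroup.closure_induction with
    | mem a ha =>
      rcases ha with rfl | rfl | rfl
      · exact ⟨xJ_mem_HJ, hΦ _ _ (Subgroup.subset_closure (Or.inl rfl))⟩
      · exact ⟨Subgroup.subset_closure (Or.inr (Or.inl rfl)),
          hΦ _ _ (Subgroup.subset_closure (Or.inr rfl))⟩
      · refine ⟨Subgroup.subset_closure (Or.inr (Or.inr rfl)), ?_⟩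
        have e2 := congrArg Φ hs
        rw [map_mul, map_mul, map_inv, hΦz, hΦB, ← map_inv, ← map_mul, ← map_mul] at e2
        exact e2.trans (congrArg e (Subtype.ext hs.symm))
    | one => exact ⟨one_mem _, by rw [map_one, show (⟨1, one_mem HJ⟩ : HJ) = 1 from rfl, map_one]⟩
    | mul a b _ _ iha ihb =>
      obtain ⟨h1, e1⟩ := iha
      obtain ⟨h2, e2⟩ := ihb
      exact ⟨mul_mem h1 h2, by rw [map_mul, e1, e2, ← map_mul]; rfl⟩
    | inv a _ iha =>
      obtain ⟨h1, e1⟩ := iha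
      exact ⟨inv_mem h1, by rw [map_inv, e1, ← map_inv]; rfl⟩
  obtain ⟨h', e'⟩ := key a h
  exact e'

/-- A group of Janko-four type with an identification of the normalizer is `J₄`. -/
theorem ModelFacts.isoJ4 (M : ModelFacts) (F : Facts) [Finite G]
    (hJ : Cfsg.IsOfJankoFourTypeAt z) (N₀ : NMap G z) (hend : EndGame G z) :
    Cfsg.Spor.IsoJ4 G := by
  have := JankoFour.finite_group
  have hS : IsSimpleGroup J := JankoFour.isJ4.1
  obtain ⟨A, hc⟩ := M.exists_amalgam hJ N₀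
  obtain ⟨Φ, hΦ, hΦt⟩ := exists_hom F.inj M.basic A hc
  have hH := hom_eq_on_HJ F.inj M.basic A hΦ hΦt M.loc.z_mem
  have hle : A.toN.e.range ≤ Φ.range := by
    rintro _ ⟨⟨a, ha⟩, rfl⟩
    exact ⟨a, hH a ha⟩
  have hinj : Function.Injective Φ := by
    rw [← MonoidHom.ker_eq_bot_iff]
    refine Φ.normal_ker.eq_bot_or_eq_top.resolve_right fun h => ?_
    have hx : (⟨xJ, xJ_mem_HJ⟩ : HJ) = 1 := A.toN.inj (by
      rw [← hH, map_one]; exact MonoidHom.mem_ker.1 (h ▸ Subgroup.mem_top xJ))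
    have h2 := congrArg HJ.subtype hx
    rw [map_one] at h2
    exact JankoFourM24.xJ_ne_one h2
  have htop : Φ.range = ⊤ := by
    refine hend A.toN _ hle ⟨Φ tJ, ⟨tJ, rfl⟩, by rw [hΦt]; exact A.toC_central _, fun ht => ?_⟩
    have h1 : Φ.range ≤ A.toN.e.range := by
      rw [MonoidHom.range_eq_map, ← closure_gens, MonoidHom.map_closure, Subgroup.closure_le]
      rintro _ ⟨g, hg, rfl⟩
      rcases hg with rfl | rfl | rfl
      · exact ⟨⟨xJ, xJ_mem_HJ⟩, (hH _ _).symm⟩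
      · exact ⟨⟨yJ, Subgroup.subset_closure (Or.inr (Or.inl rfl))⟩, (hH _ _).symm⟩
      · exact ht
    have h2 := Subgroup.card_le_of_le h1
    rw [← Nat.card_congr (MonoidHom.ofInjective hinj).toEquiv,
      ← Nat.card_congr (MonoidHom.ofInjective A.toN.inj).toEquiv, F.card, F.cardH] at h2
    omega
  exact ⟨(MulEquiv.ofBijective Φ ⟨hinj, MonoidHom.range_eq_top.1 htop⟩).symm⟩

end CfsgLib.JFourAmalgam
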