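import Cfsg.Agent.JFourAmalgam.Endgame
import Cfsg.Agent.JFourAmalgam.Final
import Cfsg.Agent.JFourEleven.Orbit

/-!
# The subgroup criterion from the facts on involutions
-/

set_option autoImplicit false

namespace CfsgLib.JFourAmalgam.Endgame

universe u

/-- The centralisers of the second class normalise the subgroup of order `2 ^ 11`. -/
theorem centFact {G : Type u} [Group G] [Finite G] [IsSimpleGroup G] (hG : ¬ IsMulCommutative G)
    (z : G) : CentFact z := fun L _ ha => L.centralizer_others hG ha

/-- The criterion used by the recognition. -/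
theorem endGame {G : Type u} [Group G] [Finite G] [IsSimpleGroup G] {z : G} (hG : ¬ IsMulCommutative G)
    (hJ : Cfsg.IsOfJankoFourTypeAt z) (hcl : ClassFact.{u}) : EndGame G z :=
  fun N K hle ⟨_, hgK, hgz, hg⟩ => eq_top_of hG hJ hcl (centFact hG z) N K hle hgK hgz hg

end CfsgLib.JFourAmalgam.Endgame
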