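import Cfsg.Agent.JFourAmalgam.Coords

/-!
# An element of the centralizer acting as `t`

An element of order four modulo `E` squaring an element of order five has one of the candidate matrices,
so some element of the centralizer has the matrix of `t` or of its conjugate by the twist. An automorphism
of `E` trivial modulo the centre is inner, so some element acts on `E` as `t`, or as its conjugate by the
twist.
-/

set_option autoImplicit false
set_option linter.style.haveILetI false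
set_option maxHeartbeats 1000000

namespace CfsgLib.JFourAmalgam.Cert

open CfsgLib.JankoFour CfsgLib.Mathieu CfsgLib.JFourType Module Matrix

theorem list_facts :
    (∀ k < 16, (pMats.getD k []).length = 12) ∧ threeMat.length = 12 ∧ fiveMat.length = 12 ∧
    wordC oneC fiveWord = fiveMat ∧ powC fiveMat 5 = oneC ∧ (fiveMat == oneC) = false ∧
    fiveMat.all (fun x => Nat.blt x 4096) = true ∧
    testMats = testWords.map (wordC oneC) ∧ (testWords.all fun w => w.all fun k => Nat.blt k 16) = true ∧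
    (testMats.all fun c => mulC c threeMat == mulC threeMat c) = true ∧
    fiveWord.all (fun k => Nat.blt k 16) = true ∧ (mulC hMat hMat == oneC) = true ∧
    powC threeMat 3 = oneC := by
  decide +kernel

theorem letC_lt {k : ℕ} (hk : k < 16) : letC oneC k = pMats.getD k [] := by
  revert k hk
  decide +kernel

namespace Frame

variable {G : Type*} [Group G] [Finite G] (A : Frame G)

theorem mat_pow {u : G} (hu : u ∈ A.T.H) : ∀ r : ℕ, A.mat (u ^ r) = A.mat u ^ r
  | 0 => by rw [pow_zero, pow_zero, mat_one]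
  | r + 1 => by rw [pow_succ, pow_succ, A.mat_mul (pow_mem hu r) hu, mat_pow hu r]

/-- The image of the element of `pJ` given by a word. -/
theorem mat_word : ∀ w : List ℕ, (∀ k ∈ w, k < 16) → ∃ h : pProd w ∈ pJ,
    (wordC oneC w).length = 12 ∧ A.mat (A.N.e ⟨pProd w, h.1⟩) = toM (wordC oneC w)
  | [], _ => ⟨one_mem _, rfl, by
      rw [show (⟨pProd [], (one_mem pJ : (1 : Cfsg.Spor.J4) ∈ pJ).1⟩ : HJ) = 1 from rfl, map_one,
        mat_one, wordC, toM_oneC]⟩
  | k :: w, hw => by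
    obtain ⟨h, hl, e⟩ := mat_word w fun j hj => hw j (List.mem_cons_of_mem _ hj)
    have hk := hw k List.mem_cons_self
    have hp := A.facts.pElem_mem k hk
    refine ⟨by rw [show pProd (k :: w) = pElem k * pProd w by simp [pProd]]; exact mul_mem hp h, ?_, ?_⟩
    · rw [wordC, mulC_length, letC_lt hk, list_facts.1 k hk]
    · rw [show (⟨pProd (k :: w), _⟩ : HJ) = ⟨pElem k, hp.1⟩ * ⟨pProd w, h.1⟩ from
          Subtype.ext (by simp [pProd]), map_mul, A.mat_mul (A.eN_mem hp) (A.eN_mem h), e, wordC,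
        letC_lt hk, toM_mul (list_facts.1 k hk) hl, A.mat_table hp (A.facts.tab_p k hk)]

/-- The matrix of `p` commutes with whatever commutes with the tabulated element of order three. -/
theorem mat_p_comm {M : M12} (h : M * toM threeMat = toM threeMat * M) :
    ∀ j : ℕ, A.N.e ⟨HBound.wv threeWord, A.facts.three_mem.1⟩ = A.T.p ^ j → j % 3 ≠ 0 →
      M * A.mat A.T.p = A.mat A.T.p * M := by
  intro j hj hj0
  set y := A.N.e ⟨HBound.wv threeWord, A.facts.three_mem.1⟩ with hy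
  have hM : A.mat y = toM threeMat := A.mat_table A.facts.three_mem A.facts.tab_three
  obtain ⟨r, hr⟩ : ∃ r : ℕ, A.T.p = y ^ r := by
    rcases (by omega : j % 3 = 1 ∨ j % 3 = 2) with e | e
    · exact ⟨1, by rw [pow_one, hj, A.T.p_pow_mod, e, pow_one]⟩
    · refine ⟨2, ?_⟩
      rw [hj, ← pow_mul, A.T.p_pow_mod (j * 2), show j * 2 % 3 = 1 by omega, pow_one]
  have hyH : y ∈ A.T.H := A.eN_mem A.facts.three_mem
  have hpow : A.mat (y ^ r) = toM threeMat ^ r := by
    rw [A.mat_pow hyH, hM]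
  rw [hr, hpow]
  exact ((show Commute M (toM threeMat) from h).pow_right r).eq

/-- An element of the centralizer commutes with `p` modulo `E` if its matrix commutes with that of `p`. -/
theorem comm_mod_E {u : G} (hu : u ∈ A.T.H) (h : A.mat u * A.mat A.T.p = A.mat A.T.p * A.mat u) :
    u * A.T.p * u⁻¹ * A.T.p⁻¹ ∈ A.T.E := by
  have hp := A.T.p_mem_H
  refine A.mat_eq_one (mul_mem (mul_mem (mul_mem hu hp) (inv_mem hu)) (inv_mem hp)) ?_
  rw [A.mat_mul (mul_mem (mul_mem hu hp) (inv_mem hu)) (inv_mem hp),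
    A.mat_mul (mul_mem hu hp) (inv_mem hu), A.mat_mul hu hp, h, mul_assoc (A.mat A.T.p),
    ← A.mat_mul hu (inv_mem hu), mul_inv_cancel, mat_one, mul_one, ← A.mat_mul hp (inv_mem hp),
    mul_inv_cancel, mat_one]

/-- Some element of the centralizer has the matrix of `t`, or of its conjugate by the twist. -/
theorem exists_mat (hy : ∃ j : ℕ, A.N.e ⟨HBound.wv threeWord, A.facts.three_mem.1⟩ = A.T.p ^ j) :
    ∃ u ∈ A.T.H, A.mat u = toM tMat ∨ A.mat u = toM hMat * toM tMat * toM hMat := by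
  obtain ⟨-, hth, hfl, hfw, hf5, hf1, hflt, htm, htw, htc, hf16, -, -⟩ := list_facts
  -- `p` is a power of the element of order three
  obtain ⟨j, hj⟩ := hy
  have hj0 : j % 3 ≠ 0 := fun e => by
    rw [A.T.p_pow_mod, e, pow_zero, ← map_one A.N.e] at hj
    have h := congrArg Subtype.val (A.N.inj hj)
    have h3 := A.facts.three_order
    rw [show HBound.wv threeWord = 1 from h, orderOf_one] at h3
    norm_num at h3
  -- the element of order five
  obtain ⟨hF, hFl, hFm⟩ := A.mat_word fiveWord (fun k hk => by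
    simpa [Nat.blt_eq] using List.all_eq_true.1 hf16 k hk)
  rw [hfw] at hFm
  set F := A.N.e ⟨pProd fiveWord, hF.1⟩ with hFdef
  have hFH : F ∈ A.T.H := A.eN_mem hF
  have hF5 : toM fiveMat ^ 5 = 1 := by rw [← toM_powC hfl, hf5, toM_oneC]
  have hkH : F ^ 6 ∈ A.T.H := pow_mem hFH 6
  have hkm : A.mat (F ^ 6) = toM fiveMat := by
    rw [A.mat_pow hFH, hFm,
      show (6 : ℕ) = 5 + 1 by norm_num, pow_succ, hF5, one_mul]
  have hk5 : orderOf (F ^ 6) = 5 := by
    haveI : Fact (Nat.Prime 5) := ⟨by norm_num⟩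
    refine orderOf_eq_prime ?_ fun h1 => ?_
    · rw [← pow_mul, show 6 * 5 = 10 * 3 by norm_num, pow_mul, hFdef, ← map_pow,
        show (⟨pProd fiveWord, hF.1⟩ : HJ) ^ 10 = 1 from
          Subtype.ext (by simpa using A.facts.five_pow), map_one, one_pow]
    · rw [h1, mat_one, ← toM_oneC] at hkm
      have := toM_injective hfl (by rfl) hflt (by decide +kernel) hkm.symm
      rw [this] at hf1
      exact absurd hf1 (by decide +kernel)
  obtain ⟨g, hgC, hg4, -, hg5⟩ := exists_normalising_five A.T hkH hk5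
  have hgH := A.T.C_le_H hgC
  have hb := inv_mem hgH
  -- its matrix
  set β := A.mat g⁻¹ with hβ
  have hgg : A.mat g * β = 1 := by rw [hβ, ← A.mat_mul hgH hb, mul_inv_cancel, mat_one]
  have hgg' : β * A.mat g = 1 := by rw [hβ, ← A.mat_mul hb hgH, inv_mul_cancel, mat_one]
  have hβp : β * A.mat A.T.p = A.mat A.T.p * β := by
    rw [hβ, ← A.mat_mul hb A.T.p_mem_H, ← A.mat_mul A.T.p_mem_H hb]
    exact congrArg A.mat ((show Commute g A.T.p from (A.T.mem_C.1 hgC).2).inv_left).eq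
  have h3 : β * toM threeMat = toM threeMat * β := by
    have hM : A.mat (A.N.e ⟨_, A.facts.three_mem.1⟩) = toM threeMat :=
      A.mat_table A.facts.three_mem A.facts.tab_three
    rw [← hM, hj, A.mat_pow A.T.p_mem_H]
    exact ((show Commute β (A.mat A.T.p) from hβp).pow_right j).eq
  have h5 : toM fiveMat * β = β * toM fiveMat ^ 2 := by
    have h := A.mat_E hg5
    rw [A.mat_mul (mul_mem (mul_mem hgH hkH) hb) (inv_mem (pow_mem hkH 2)),
      A.mat_mul (mul_mem hgH hkH) hb, A.mat_mul hgH hkH, hkm, ← hβ] at h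
    have h2 : A.mat ((F ^ 6) ^ 2) = toM fiveMat ^ 2 := by
      rw [A.mat_pow hkH, hkm]
    have h' : A.mat g * toM fiveMat * β = toM fiveMat ^ 2 := by
      rw [← h2]
      calc A.mat g * toM fiveMat * β
          = A.mat g * toM fiveMat * β * A.mat ((F ^ 6) ^ 2)⁻¹ * A.mat ((F ^ 6) ^ 2) := by
            rw [mul_assoc _ (A.mat _) (A.mat _), ← A.mat_mul (inv_mem (pow_mem hkH 2)) (pow_mem hkH 2),
              inv_mul_cancel, mat_one, mul_one]
        _ = _ := by rw [h, one_mul]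
    calc toM fiveMat * β = β * A.mat g * (toM fiveMat * β) := by rw [hgg', one_mul]
      _ = β * (A.mat g * toM fiveMat * β) := by simp only [mul_assoc]
      _ = _ := by rw [h']
  have h4 : β ^ 4 = 1 := by
    have e : A.mat g ^ 4 = 1 := by
      rw [← A.mat_pow hgH]
      exact A.mat_E hg4
    calc β ^ 4 = (β * A.mat g) ^ 4 := by
          rw [(show Commute β (A.mat g) from hgg'.trans hgg.symm).mul_pow, e, mul_one]
      _ = 1 := by rw [hgg', one_pow]
  have hinv : ∀ c ∈ testMats, ∀ k : ℕ, ((β * toM c) ^ k) ^ 2 = 1 → (β * toM c) ^ k ≠ 1 →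
      ((β * toM c) ^ k + 1).rank = 4 := by
    intro c hc k hsq hne
    have hcc : toM c * toM threeMat = toM threeMat * toM c := by
      have hl : c.length = 12 := beq_iff_eq.1 (List.all_eq_true.1 mats_ok.2.1 _ hc)
      rw [← toM_mul hl hth, ← toM_mul hth hl, beq_iff_eq.1 (List.all_eq_true.1 htc c hc)]
    rw [htm, List.mem_map] at hc
    obtain ⟨w, hw, rfl⟩ := hc
    obtain ⟨hW, -, hWm⟩ := A.mat_word w (fun i hi => by
      simpa [Nat.blt_eq] using List.all_eq_true.1 (List.all_eq_true.1 htw w hw) i hi)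
    set c' := A.N.e ⟨pProd w, hW.1⟩
    have hcH : c' ∈ A.T.H := A.eN_mem hW
    have huH : g⁻¹ * c' ∈ A.T.H := mul_mem hb hcH
    have hm : (β * toM (wordC oneC w)) ^ k = A.mat ((g⁻¹ * c') ^ k) := by
      rw [hβ, ← hWm, ← A.mat_mul hb hcH]
      exact (A.mat_pow huH k).symm
    rw [hm] at hsq hne ⊢
    set u := (g⁻¹ * c') ^ k
    have hu : u ∈ A.T.H := pow_mem huH k
    rw [rank_mat]
    refine rank_four A.T (inv_mem hu) (A.comm_mod_E (inv_mem hu) ?_) ?_ fun h => hne (A.mat_E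
      (by simpa using inv_mem h))
    · have hcomm : Commute (A.mat u) (A.mat A.T.p) := by
        rw [← hm]
        exact (Commute.mul_left (show Commute β (A.mat A.T.p) from hβp)
          (show Commute (toM (wordC oneC w)) (A.mat A.T.p) from A.mat_p_comm hcc j hj hj0)).pow_left k
      have hinvu : A.mat u⁻¹ = A.mat u := by
        calc A.mat u⁻¹ = A.mat u⁻¹ * A.mat u ^ 2 := by rw [hsq, mul_one]
          _ = A.mat u⁻¹ * A.mat u * A.mat u := by rw [pow_two, mul_assoc]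
          _ = A.mat u := by rw [← A.mat_mul (inv_mem hu) hu, inv_mul_cancel, mat_one, one_mul]
      rw [hinvu]
      exact hcomm.eq
    · refine A.mat_eq_one (pow_mem (inv_mem hu) 2) ?_
      rw [inv_pow]
      calc A.mat (u ^ 2)⁻¹ = A.mat (u ^ 2)⁻¹ * A.mat (u ^ 2) := by
            rw [A.mat_pow hu, hsq, mul_one]
        _ = 1 := by rw [← A.mat_mul (inv_mem (pow_mem hu 2)) (pow_mem hu 2), inv_mul_cancel, mat_one]
  -- generated matrices come from the centralizer
  have hrange : Submonoid.closure (pGens ∪ {β}) ≤ MonoidHom.mrange A.matHom := by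
    refine Submonoid.closure_le.2 ?_
    rintro M (⟨l, hl, rfl⟩ | rfl)
    · obtain ⟨k, hk, rfl⟩ := List.getElem_of_mem hl
      have hk16 : k < 16 := hk
      refine ⟨⟨_, A.eN_mem (A.facts.pElem_mem k hk16)⟩, ?_⟩
      show A.mat _ = _
      rw [A.mat_table (A.facts.pElem_mem k hk16) (A.facts.tab_p k hk16), List.getD_eq_getElem _ _ hk]
    · exact ⟨⟨g⁻¹, hb⟩, rfl⟩
  rcases candidate_cases β (A.quad_mat hb) h3 h5 h4 hinv with h | h <;> obtain ⟨⟨u, hu⟩, e⟩ := hrange h
  · exact ⟨u, hu, Or.inl e⟩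
  · exact ⟨u, hu, Or.inr e⟩

/-- An element with the matrix of an automorphism of `oJ` acts as it, after a change by an element of `E`. -/
theorem exists_act {u : G} (hu : u ∈ A.T.H) (σ : oJ →* oJ) (hz : σ zO = zO)
    (hb : ∀ i : Fin 12, A.co (σ (bO i)) = A.mat u i) :
    ∃ g ∈ A.T.H, ∀ q : oJ, g * A.eo q * g⁻¹ = A.eo (σ q) := by
  let w : Fin 12 → A.T.Vec := fun i => A.pc (σ (bO i))
  have hw : ∀ v : V12, A.phi (Matrix.vecMul v (A.mat u)) =
      ∑ i, v i • w i := fun v => by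
    rw [Matrix.vecMul_eq_sum, map_sum]
    refine Finset.sum_congr rfl fun i _ => ?_
    rw [map_smul, ← hb i, phi_co]
  let L : A.T.Vec →ₗ[ZMod 2] (Fin 12 → ZMod 2) := LinearMap.pi fun i => A.T.space.B.flip (w i)
  have hL : Function.Surjective L := by
    refine (LinearMap.injective_iff_surjective_of_finrank_eq_finrank
      (by rw [Shape.finrank_vec, finrank_fin_fun])).1 ?_
    refine (injective_iff_map_eq_zero L).2 fun a ha => A.T.space.nd a fun y => ?_
    obtain ⟨v, rfl⟩ : ∃ v : V12, A.phi (Matrix.vecMul v (A.mat u)) = y :=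
      ⟨A.phi.symm (A.T.cj u (y)), by
        rw [vecMul_mat, LinearEquiv.apply_symm_apply, LinearEquiv.apply_symm_apply, Shape.cj_inv]⟩
    rw [hw, map_sum]
    refine Finset.sum_eq_zero fun i _ => ?_
    rw [map_smul, show A.T.space.B a (w i) = 0 from congrFun ha i, smul_zero]
  -- the discrepancy on the basis
  let x : Fin 12 → G := fun i => u⁻¹ * A.eo (bO i) * u
  have hx : ∀ i, x i ∈ A.T.E := fun i => A.T.conj_mem' hu (A.eo_mem _)
  obtain ⟨a, ha⟩ := hL fun i => Shape.zc (x i * (A.eo (σ (bO i)))⁻¹)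
  obtain ⟨f, hf, rfl⟩ := Shape.pr_surj a
  refine ⟨f * u⁻¹, mul_mem (A.T.E_le_H hf) (inv_mem hu), ?_⟩
  have hbasis : ∀ i : Fin 12, f * x i * f⁻¹ = A.eo (σ (bO i)) := by
    intro i
    set s := A.eo (σ (bO i)) with hs
    have hsE : s ∈ A.T.E := A.eo_mem _
    have hB : Shape.zc (f * s * f⁻¹ * s⁻¹) = Shape.zc (x i * s⁻¹) := by
      rw [← congrFun ha i, ← Shape.space_B hf hsE]
      rfl
    have hpr : A.T.pr (x i) = A.T.pr s := by
      have h := congrArg A.phi (hb i)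
      rw [phi_co] at h
      have e : A.phi (A.mat u i) = A.T.pr (x i) := by
        rw [← Matrix.row_apply' (A := A.mat u), ← Matrix.single_one_vecMul, vecMul_mat,
          LinearEquiv.apply_symm_apply, phi_apply, phiMap_single, pc,
          A.T.cj_pr (inv_mem hu) (A.eo_mem _), inv_inv]
      rw [← e, ← h]
      rfl
    rcases (Shape.pr_eq_iff (hx i) hsE).1 hpr with e | e
    · rw [e, mul_inv_cancel, Shape.zc_one] at hB
      rw [e]
      exact mul_inv_eq_one.1 (Shape.zc_eq_zero hB)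
    · have hzs : A.T.z * s * s⁻¹ = A.T.z := by rw [mul_inv_cancel_right]
      rw [e, hzs, Shape.zc_z] at hB
      rcases A.T.sub.comm_eq hf hsE with e' | e'
      · rw [e', Shape.zc_one] at hB
        exact absurd hB.symm one_ne_zero
      · rw [e, show f * (A.T.z * s) * f⁻¹ = f * A.T.z * f⁻¹ * (f * s * f⁻¹ * s⁻¹) * s by group, e',
          A.T.sub.z_comm hf, mul_inv_cancel_right, A.T.z_mul_z, one_mul]
  intro q
  let h1 : oJ →* G := (MulAut.conj (f * u⁻¹)).toMonoidHom.comp A.eo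
  let h2 : oJ →* G := A.eo.comp σ
  suffices h1 q = h2 q from this
  have hgz : f * u⁻¹ * A.T.z = A.T.z * (f * u⁻¹) :=
    A.T.mem_H.1 (mul_mem (A.T.E_le_H hf) (inv_mem hu))
  obtain ⟨q, hq⟩ := q
  have hq' := hq
  rw [oJ_eq] at hq'
  induction hq' using Subgroup.closure_induction with
  | mem b hbm =>
    rw [Set.mem_union, Set.mem_singleton_iff, Set.mem_ofPred_eq] at hbm
    rcases hbm with e | ⟨i, hi, e⟩
    · rw [show (⟨b, hq⟩ : oJ) = zO from Subtype.ext e]
      show f * u⁻¹ * A.eo zO * (f * u⁻¹)⁻¹ = A.eo (σ zO)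
      rw [hz, eo_z, hgz, mul_inv_cancel_right]
    · rw [show (⟨b, hq⟩ : oJ) = bO (⟨i, hi⟩ : Fin 12) from Subtype.ext (e.trans (coe_bO hi).symm)]
      show f * u⁻¹ * A.eo (bO _) * (f * u⁻¹)⁻¹ = A.eo (σ (bO _))
      rw [← hbasis ⟨i, hi⟩]
      simp only [x]
      group
  | one => rw [show (⟨1, hq⟩ : oJ) = 1 from rfl, map_one, map_one]
  | mul a' b' ha' hb' iha ihb =>
    have h' : a' ∈ oJ := by rw [oJ_eq]; exact ha'
    have h'' : b' ∈ oJ := by rw [oJ_eq]; exact hb'
    rw [show (⟨a' * b', hq⟩ : oJ) = ⟨a', h'⟩ * ⟨b', h''⟩ from rfl, map_mul, map_mul, iha h', ihb h'']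
  | inv a' ha' iha =>
    have h' : a' ∈ oJ := by rw [oJ_eq]; exact ha'
    rw [show (⟨a'⁻¹, hq⟩ : oJ) = ⟨a', h'⟩⁻¹ from rfl, map_inv, map_inv, iha h']

end Frame

open Frame in
/-- **An element acting as `t`.** -/
theorem exists_t_action {G : Type*} [Group G] [Finite G] {z : G} (N : NMap G z)
    (hJ : Cfsg.IsOfJankoFourTypeAt z)
    (hO : (oJ.subgroupOf HJ).map N.e = Cfsg.twoCoreOfCentralizer z) (F : ActFacts)
    (τ : HJ ≃* HJ) (hτz : ∀ h : zJ ∈ HJ, (τ ⟨zJ, h⟩ : Cfsg.Spor.J4) = zJ)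
    (hτo : (oJ.subgroupOf HJ).map τ.toMonoidHom = oJ.subgroupOf HJ)
    (hτtab : ∀ i < 12, ∀ h : oBasis i ∈ HJ,
      ModZ (τ ⟨oBasis i, h⟩ : Cfsg.Spor.J4) (selProd (hMat.getD i 0))) :
    ∃ g : G, g * z = z * g ∧
      ((∀ (q : Cfsg.Spor.J4) (_ : q ∈ oJ) (h : q ∈ HJ) (h' : tJ * q * tJ⁻¹ ∈ HJ),
          g * N.e ⟨q, h⟩ * g⁻¹ = N.e ⟨tJ * q * tJ⁻¹, h'⟩) ∨
        (∀ (q : Cfsg.Spor.J4) (_ : q ∈ oJ) (h : q ∈ HJ) (h' : tJ * q * tJ⁻¹ ∈ HJ),
          g * N.e (τ ⟨q, h⟩) * g⁻¹ = N.e (τ ⟨tJ * q * tJ⁻¹, h'⟩))) := by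
  obtain ⟨P, hP⟩ := hJ
  obtain ⟨S, hSz, -⟩ := Shape.exists_of_isOfJankoFourTypeWith hP
  subst hSz
  obtain ⟨R, hRp, hR27, hwR, hRc⟩ := F.three_sylow
  set R' := (R.subgroupOf HJ).map N.e with hR'def
  have hoH := oJ_le_HJ F
  have hR'H : R' ≤ S.H := by
    rintro _ ⟨⟨r, hr⟩, hrR, rfl⟩
    have hc : r * zJ = zJ * r :=
      Subgroup.mem_centralizer_singleton_iff.1 (Subgroup.mem_inf.1 (hRp hrR)).2
    let r' : HJ := ⟨r, hr⟩
    let z' : HJ := ⟨zJ, hoH zJ_mem⟩
    have hc' : r' * z' = z' * r' := Subtype.ext hc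
    have h : N.e r' * N.e z' = N.e z' * N.e r' := by rw [← map_mul, ← map_mul, hc']
    rw [show N.e z' = S.z from N.map_z _] at h
    exact S.mem_H.2 h
  have hR'27 : Nat.card R' = 27 := by
    rw [hR'def, Subgroup.card_map_of_injective N.inj,
      Nat.card_congr (Subgroup.subgroupOfEquivOfLe (hRp.trans inf_le_left)).toEquiv, hR27]
  obtain ⟨T, hTz, hfull⟩ := Shape.exists_full hR'H hR'27
  have hy := hfull.central_mem (x := N.e ⟨HBound.wv threeWord, F.three_mem.1⟩)
    (Subgroup.mem_map_of_mem N.e (Subgroup.mem_subgroupOf.2 hwR)) (by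
    rintro _ ⟨⟨r, hr⟩, hrR, rfl⟩
    rw [← map_mul, ← map_mul]
    exact congrArg N.e (Subtype.ext (hRc r hrR)))
  obtain ⟨N', hN'⟩ : ∃ N' : NMap G T.z, N'.e = N.e :=
    ⟨⟨N.e, N.inj, N.range_eq, fun h => (N.map_z h).trans hTz.symm⟩, rfl⟩
  let A : Frame G := ⟨T, N', F, by rw [hN', E_eq_twoCore T, hTz, hO]⟩
  obtain ⟨u, hu, hcase⟩ := A.exists_mat (by
    show ∃ j : ℕ, N'.e _ = T.p ^ j
    rw [hN']
    exact hy)
  -- conjugation by `t`
  have ht : tJ ∈ dJ := (le_sup_right : Subgroup.zpowers tJ ≤ dJ) (Subgroup.mem_zpowers _)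
  have ti : tJ⁻¹ = tJ := inv_eq_of_mul_eq_one_right (by rw [← pow_two]; exact tJ_sq)
  let σt : oJ →* oJ := MonoidHom.mk' (fun q => ⟨tJ * q * tJ⁻¹, F.norm _ ht _ q.2⟩) fun a b =>
    Subtype.ext (by simp only [Subgroup.coe_mul]; group)
  have htz : σt zO = zO := Subtype.ext (by
    show tJ * zJ * tJ⁻¹ = zJ
    rw [F.t_comm, mul_inv_cancel_right])
  have hbt : ∀ i : Fin 12, A.co (σt (bO i)) = toM tMat i := fun i => by
    refine A.co_modZ (n := tMat.getD i.val 0) ?_
    show ModZ (tJ * (bO (i : ℕ) : Cfsg.Spor.J4) * tJ⁻¹) _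
    rw [coe_bO i.isLt]
    have h := F.tab_t i i.isLt
    rwa [ti] at h ⊢
  have key : ∀ σ : oJ →* oJ, σ zO = zO → (∀ i : Fin 12, A.co (σ (bO i)) = A.mat u i) →
      ∃ g : G, g * S.z = S.z * g ∧ ∀ q : oJ, g * A.eo q * g⁻¹ = A.eo (σ q) := fun σ hσ hσb => by
    obtain ⟨g, hg, hg'⟩ := A.exists_act hu σ hσ hσb
    exact ⟨g, hTz ▸ A.T.mem_H.1 hg, hg'⟩
  have heo : ∀ (q : oJ) (h : (q : Cfsg.Spor.J4) ∈ HJ), A.eo q = N.e ⟨q, h⟩ := fun q h => by
    rw [A.eo_apply q h]
    exact DFunLike.congr_fun hN' _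
  rcases hcase with e | e
  · obtain ⟨g, hg, hg'⟩ := key σt htz fun i => by rw [hbt, e]
    refine ⟨g, hg, Or.inl fun q hq h h' => ?_⟩
    rw [← heo ⟨q, hq⟩ h, hg' ⟨q, hq⟩]
    exact heo _ h'
  · -- the twist on `oJ`
    have hmem : ∀ (q : oJ) (f : HJ ≃* HJ), (oJ.subgroupOf HJ).map f.toMonoidHom = oJ.subgroupOf HJ →
        (f ⟨q, hoH q.2⟩ : Cfsg.Spor.J4) ∈ oJ := fun q f hf => by
      have : f ⟨q, hoH q.2⟩ ∈ oJ.subgroupOf HJ := hf ▸ Subgroup.mem_map_of_mem f.toMonoidHom q.2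
      exact this
    have hτo' : (oJ.subgroupOf HJ).map τ.symm.toMonoidHom = oJ.subgroupOf HJ := by
      conv_lhs => rw [← hτo]
      ext x
      constructor
      · rintro ⟨y, ⟨w, hw, rfl⟩, rfl⟩
        simpa using hw
      · exact fun hx => ⟨τ x, ⟨x, hx, rfl⟩, by simp⟩
    let στ : oJ →* oJ := MonoidHom.mk' (fun q => ⟨τ ⟨q, hoH q.2⟩, hmem q τ hτo⟩) fun a b =>
      Subtype.ext (by
        show (τ (⟨a, hoH a.2⟩ * ⟨b, hoH b.2⟩) : Cfsg.Spor.J4) = _
        rw [map_mul]; rfl)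
    let στ' : oJ →* oJ := MonoidHom.mk' (fun q => ⟨τ.symm ⟨q, hoH q.2⟩, hmem q τ.symm hτo'⟩) fun a b =>
      Subtype.ext (by
        show (τ.symm (⟨a, hoH a.2⟩ * ⟨b, hoH b.2⟩) : Cfsg.Spor.J4) = _
        rw [map_mul]; rfl)
    have hinv : ∀ q, στ (στ' q) = q := fun q => Subtype.ext (by
      show (τ (τ.symm ⟨q, hoH q.2⟩) : Cfsg.Spor.J4) = _
      rw [MulEquiv.apply_symm_apply])
    have hinv' : ∀ q, στ' (στ q) = q := fun q => Subtype.ext (by
      show (τ.symm (τ ⟨q, hoH q.2⟩) : Cfsg.Spor.J4) = _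
      rw [MulEquiv.symm_apply_apply])
    have hτz1 : στ zO = zO := Subtype.ext (hτz _)
    have hτz2 : στ' zO = zO := (congrArg στ' hτz1.symm).trans (hinv' _)
    have hτlin : ∀ q, A.co (στ q) = Matrix.vecMul (A.co q) (toM hMat) :=
      A.co_endo στ hτz1 fun i => by
        refine A.co_modZ (n := hMat.getD i.val 0) ?_
        show ModZ (τ ⟨(bO (i : ℕ) : Cfsg.Spor.J4), _⟩ : Cfsg.Spor.J4) _
        simp only [coe_bO i.isLt]
        exact hτtab i i.isLt _
    have hh2 : toM hMat * toM hMat = 1 := by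
      rw [← toM_mul rfl rfl, beq_iff_eq.1 list_facts.2.2.2.2.2.2.2.2.2.2.2.1, toM_oneC]
    have hτlin' : ∀ q, A.co (στ' q) = Matrix.vecMul (A.co q) (toM hMat) := fun q => by
      conv_rhs => rw [← hinv q, hτlin, Matrix.vecMul_vecMul, hh2, Matrix.vecMul_one]
    have htlin : ∀ q, A.co (σt q) = Matrix.vecMul (A.co q) (toM tMat) := A.co_endo σt htz hbt
    obtain ⟨g, hg, hg'⟩ := key (στ.comp (σt.comp στ'))
      (by simp only [MonoidHom.comp_apply, hτz2, htz, hτz1]) fun i => by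
        rw [MonoidHom.comp_apply, MonoidHom.comp_apply, hτlin, htlin, hτlin', Matrix.vecMul_vecMul,
          Matrix.vecMul_vecMul, A.co_bO, Matrix.single_one_vecMul, e, mul_assoc]
        rfl
    refine ⟨g, hg, Or.inr fun q hq h h' => ?_⟩
    have h1 := hg' (στ ⟨q, hq⟩)
    rw [MonoidHom.comp_apply, MonoidHom.comp_apply, hinv', heo _ (hoH (στ _).2),
      heo _ (hoH (στ _).2)] at h1
    exact h1

end CfsgLib.JFourAmalgam.Cert
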