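import Cfsg.Agent.JFourAmalgam.Transfer
import Cfsg.Agent.JFourAmalgam.Compat
import Cfsg.Agent.JFourAmalgam.ModelWords
import Cfsg.Agent.JFourAmalgam.TAction
import Cfsg.Agent.JFourAmalgam.GSide

/-!
# Existence of a compatible amalgam in a group of Janko-four type

The element acting as `t` gives, by the transfer, a homomorphism of `dJ` that agrees with the map of
`HJ` on `pJ` up to a character of `pJ`; that character is the restriction of a character of `dJ`.
-/

set_option autoImplicit false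
set_option linter.style.haveILetI false

namespace CfsgLib.JFourAmalgam

open CfsgLib.JankoFour CfsgLib.JFourType

local notation "J" => Cfsg.Spor.J4

/-- The element of order three of `pJ`. -/
local notation "w3" => HBound.wv threeWord

/-- All facts on the presented group needed for the existence of a compatible amalgam. -/
structure ModelFacts : Prop where
  act : Cert.ActFacts
  loc : LocalFacts
  z_oJ : zJ ∈ oJ
  z_sq : zJ * zJ = 1
  z'_sq : zJ' * zJ' = 1
  z'_ne_one : zJ' ≠ 1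
  z'_ne_z : zJ' ≠ zJ
  three_fix : ∀ o ∈ oJ, w3 * o = o * w3 → o = 1 ∨ o = zJ
  three_conj : ∀ d ∈ dJ, d * w3 * d⁻¹ * w3⁻¹ ∈ oJ ∨ d * w3 * d⁻¹ * w3 ∈ oJ
  three_not_mem : w3 * w3 ∉ oJ
  basic : BasicMem
  odd_index : Odd ((pJ.subgroupOf dJ).index)
  hom_two : ∀ χ : pJ →* Multiplicative (ZMod 2), ∀ a : pJ,
    (a : J) * w3 * (a : J)⁻¹ * w3⁻¹ ∈ oJ → χ a = 1
  twist : ∃ τ : HJ ≃* HJ, (∀ a : HJ, (a : J) ∈ vJ → τ a = a) ∧
    (∀ h : zJ ∈ HJ, (τ ⟨zJ, h⟩ : J) = zJ) ∧
    (oJ.subgroupOf HJ).map τ.toMonoidHom = oJ.subgroupOf HJ ∧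
    ∀ i < 12, ∀ h : Cert.oBasis i ∈ HJ,
      Cert.ModZ (τ ⟨Cert.oBasis i, h⟩ : J) (Cert.selProd (Cert.hMat.getD i 0))

variable {G : Type*} [Group G] {z : G}

/-- An identification composed with an automorphism of `HJ`. -/
def NMap.twist (N : NMap G z) (τ : HJ ≃* HJ) (hv : ∀ a : HJ, (a : J) ∈ vJ → τ a = a)
    (hz : ∀ h : zJ ∈ HJ, (τ ⟨zJ, h⟩ : J) = zJ) : NMap G z where
  e := N.e.comp τ.toMonoidHom
  inj := N.inj.comp τ.injective
  range_eq := by
    obtain ⟨V, h1, h2, h3, h4⟩ := N.range_eq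
    refine ⟨V, h1, h2, ?_, fun a => ⟨fun ha => ?_, fun ha => ?_⟩⟩
    · rw [MonoidHom.range_comp, MonoidHom.range_eq_top.2 τ.surjective, ← MonoidHom.range_eq_map, h3]
    · show N.e (τ a) ∈ V
      rw [hv a ha]
      exact (h4 a).1 ha
    · have hb : ((τ a : HJ) : J) ∈ vJ := (h4 (τ a)).2 ha
      rwa [τ.injective (hv _ hb)] at hb
  map_z h := by
    show N.e (τ ⟨zJ, h⟩) = z
    rw [show τ ⟨zJ, h⟩ = ⟨zJ, h⟩ from Subtype.ext (hz h)]
    exact N.map_z h

namespace ModelFacts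

variable (M : ModelFacts)
include M

theorem three_mem_dJ : w3 ∈ dJ := pJ_le_dJ M.act.three_mem

theorem w3_norm {o : J} (ho : o ∈ oJ) : w3⁻¹ * o * w3 ∈ oJ := by
  have := M.act.norm _ (inv_mem M.three_mem_dJ) o ho
  rwa [inv_inv] at this

/-- The character of `dJ`: whether an element inverts the element of order three modulo `oJ`. -/
theorem exists_character : ∃ ε : dJ →* Multiplicative (ZMod 2),
    ∀ d : dJ, ε d = 1 ↔ (d : J) * w3 * (d : J)⁻¹ * w3⁻¹ ∈ oJ := by
  classical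
  let Pl : J → Prop := fun d => d * w3 * d⁻¹ * w3⁻¹ ∈ oJ
  have excl : ∀ {d : J}, Pl d → d * w3 * d⁻¹ * w3 ∈ oJ → False := fun {d} h h' => by
    refine M.three_not_mem ?_
    have := mul_mem (inv_mem h) h'
    rw [show (d * w3 * d⁻¹ * w3⁻¹)⁻¹ * (d * w3 * d⁻¹ * w3) = w3 * w3 by group] at this
    exact this
  let val : dJ → Multiplicative (ZMod 2) := fun d => if Pl d then 1 else Multiplicative.ofAdd 1
  have hmul : ∀ a b : dJ, val (a * b) = val a * val b := fun a b => by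
    have nb := fun {o} (ho : o ∈ oJ) => M.act.norm _ a.2 o ho
    have two : Multiplicative.ofAdd (1 : ZMod 2) * Multiplicative.ofAdd 1 = 1 := by decide
    obtain ⟨x, hx⟩ : ∃ x, (a : J) * w3 * (a : J)⁻¹ = x := ⟨_, rfl⟩
    by_cases ha : Pl a <;> by_cases hb : Pl b <;> simp only [val, ha, hb, if_true, if_false]
    · have : Pl ((a * b : dJ) : J) := by
        have h := mul_mem (nb hb) ha
        simp only [Pl] at *
        rw [Subgroup.coe_mul]
        convert h using 1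
        group
      rw [if_pos this, one_mul]
    · have hb' := (M.three_conj _ b.2).resolve_left hb
      have hn : ¬ Pl ((a * b : dJ) : J) := fun hp => by
        refine excl hp ?_
        have h := mul_mem (nb hb') (M.w3_norm (inv_mem ha))
        simp only [Pl] at *
        rw [Subgroup.coe_mul]
        convert h using 1
        group
      rw [if_neg hn, one_mul]
    · have ha' := (M.three_conj _ a.2).resolve_left ha
      have hn : ¬ Pl ((a * b : dJ) : J) := fun hp => by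
        refine excl hp ?_
        have h := mul_mem (nb hb) ha'
        simp only [Pl] at *
        rw [Subgroup.coe_mul]
        convert h using 1
        group
      rw [if_neg hn, mul_one]
    · have ha' := (M.three_conj _ a.2).resolve_left ha
      have hb' := (M.three_conj _ b.2).resolve_left hb
      have hp : Pl ((a * b : dJ) : J) := by
        have h := mul_mem (nb hb') (show w3 * ((a : J) * w3 * (a : J)⁻¹ * w3)⁻¹ * w3⁻¹ ∈ oJ from
          M.act.norm _ M.three_mem_dJ _ (inv_mem ha'))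
        simp only [Pl] at *
        rw [Subgroup.coe_mul]
        convert h using 1
        group
      rw [if_pos hp, two]
  refine ⟨MonoidHom.mk' val hmul, fun d => ?_⟩
  by_cases h : Pl d
  · simp only [MonoidHom.mk'_apply, val, h, if_true, true_iff]
    exact h
  · simp only [MonoidHom.mk'_apply, val, h, if_false]
    exact ⟨fun e => absurd e (by decide), fun e => absurd e h⟩

/-- The map of `dJ` agreeing with an identification on `pJ`, from an element acting as `t`. -/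
theorem exists_toC [Finite G] (hJ : Cfsg.IsOfJankoFourTypeAt z) (N : NMap G z)
    (hO : (oJ.subgroupOf HJ).map N.e = Cfsg.twoCoreOfCentralizer z) {g : G} (hg : g * z = z * g)
    (hact : ∀ (q : J) (_ : q ∈ oJ) (h : q ∈ HJ) (h' : tJ * q * tJ⁻¹ ∈ HJ),
      g * N.e ⟨q, h⟩ * g⁻¹ = N.e ⟨tJ * q * tJ⁻¹, h'⟩) :
    ∃ A : Amalgam G z, A.toN = N := by
  classical
  obtain ⟨P0, hP0⟩ := hJ
  obtain ⟨S, hSz, -⟩ := Shape.exists_of_isOfJankoFourTypeWith hP0
  have hSE : S.E = (oJ.subgroupOf HJ).map N.e := by rw [hO, E_eq_twoCore, hSz]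
  have zH : zJ ∈ HJ := pJ_le_HJ M.loc.z_mem
  have hzz : z * z = 1 := by
    have h : N.e ⟨zJ, zH⟩ * N.e ⟨zJ, zH⟩ = 1 := by
      rw [← map_mul, ← map_one N.e]; exact congrArg N.e (Subtype.ext M.z_sq)
    rwa [N.map_z zH] at h
  have hcm : ∀ a : J, ∀ h : a ∈ pJ, N.e ⟨a, pJ_le_HJ h⟩ * z = z * N.e ⟨a, pJ_le_HJ h⟩ := fun a h => by
    have h' : N.e ⟨a, pJ_le_HJ h⟩ * N.e ⟨zJ, zH⟩ = N.e ⟨zJ, zH⟩ * N.e ⟨a, pJ_le_HJ h⟩ := by
      rw [← map_mul, ← map_mul]
      exact congrArg N.e (Subtype.ext (Subgroup.mem_centralizer_singleton_iff.1 h.2))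
    rwa [N.map_z zH] at h'
  let P : Subgroup dJ := pJ.subgroupOf dJ
  let eP : P →* G := N.e.comp
    ((Subgroup.inclusion pJ_le_HJ).comp (Subgroup.subgroupOfEquivOfLe pJ_le_dJ).toMonoidHom)
  have eP_apply : ∀ p : P, eP p = N.e ⟨((p : dJ) : J), pJ_le_HJ p.2⟩ := fun p => rfl
  let X : Extension dJ G :=
    { P := P
      Q := oJ.subgroupOf dJ
      Q_le := fun a ha => M.loc.o_le ha
      normal := fun a q hq => M.act.norm _ a.2 _ hq
      e := eP
      H := Subgroup.centralizer ({z} : Set G)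
      e_mem := fun p => Subgroup.mem_centralizer_singleton_iff.2 (hcm _ p.2)
      t := ⟨tJ, tJ_mem_dJ⟩
      gen := by
        apply Subgroup.map_injective dJ.subtype_injective
        rw [Subgroup.map_sup, Subgroup.map_subgroupOf_eq_of_le pJ_le_dJ, MonoidHom.map_zpowers,
          ← MonoidHom.range_eq_map, Subgroup.range_subtype]
        rfl
      odd := M.odd_index
      z := z
      z_mem := Subgroup.mem_centralizer_singleton_iff.2 rfl
      z_sq := hzz
      z_central := fun h hh => (Subgroup.mem_centralizer_singleton_iff.1 hh).symm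
      g := g
      g_mem := Subgroup.mem_centralizer_singleton_iff.2 hg
      g_act := fun q hq => hact _ hq _ _
      cent := fun h hh hc => by
        have hm : h ∈ S.H ⊓ Subgroup.centralizer (S.E : Set G) := by
          refine ⟨?_, Subgroup.mem_centralizer_iff.2 ?_⟩
          · show h ∈ S.H
            rw [Shape.mem_H, hSz]
            exact Subgroup.mem_centralizer_singleton_iff.1 hh
          rw [hSE]
          rintro _ ⟨⟨q, hq⟩, hqo, rfl⟩
          exact (hc ⟨q, pJ_le_dJ (M.loc.o_le hqo)⟩ hqo).symm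
        rw [inf_centralizer_E, hSz] at hm
        obtain ⟨k, rfl⟩ := hm
        rcases Int.even_or_odd' k with ⟨m, rfl | rfl⟩
        · left
          show z ^ (2 * m) = 1
          rw [zpow_mul, zpow_two, hzz, one_zpow]
        · right
          show z ^ (2 * m + 1) = z
          rw [zpow_add, zpow_mul, zpow_two, hzz, one_zpow, one_mul, zpow_one] }
  obtain ⟨ψ, hψH, hψP⟩ := X.exists_hom
  have hψc : ∀ d, ψ d * z = z * ψ d := fun d => Subgroup.mem_centralizer_singleton_iff.1 (hψH d)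
  by_cases hz1 : z = 1
  · refine ⟨⟨N, ψ, hψc, fun a hN hD hP => ?_⟩, rfl⟩
    rcases hψP ⟨⟨a, hD⟩, hP⟩ with h | h
    · exact h.symm.trans rfl
    · rw [show X.z = z from rfl, hz1, mul_one] at h
      exact h.symm.trans rfl
  -- the difference with the identification on `pJ` is a character
  have hval : ∀ a : pJ, ψ ⟨a, pJ_le_dJ a.2⟩ = N.e ⟨a, pJ_le_HJ a.2⟩ ∨
      ψ ⟨a, pJ_le_dJ a.2⟩ = N.e ⟨a, pJ_le_HJ a.2⟩ * z := fun a => hψP ⟨⟨a, pJ_le_dJ a.2⟩, a.2⟩
  let χv : pJ → Multiplicative (ZMod 2) := fun a =>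
    if ψ ⟨a, pJ_le_dJ a.2⟩ = N.e ⟨a, pJ_le_HJ a.2⟩ then 1 else Multiplicative.ofAdd 1
  have hχ : ∀ a b : pJ, χv (a * b) = χv a * χv b := fun a b => by
    have hne : ∀ {u : G}, u * z ≠ u := fun {u} h => hz1 (mul_left_cancel (h.trans (mul_one u).symm))
    have eψ : ψ ⟨((a * b : pJ) : J), pJ_le_dJ (a * b).2⟩ = ψ ⟨a, pJ_le_dJ a.2⟩ * ψ ⟨b, pJ_le_dJ b.2⟩ := by
      rw [← map_mul]; rfl
    have ee : N.e ⟨((a * b : pJ) : J), pJ_le_HJ (a * b).2⟩ =
        N.e ⟨a, pJ_le_HJ a.2⟩ * N.e ⟨b, pJ_le_HJ b.2⟩ := by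
      rw [← map_mul]; rfl
    have hbz : z * N.e ⟨b, pJ_le_HJ b.2⟩ = N.e ⟨b, pJ_le_HJ b.2⟩ * z := (hcm _ b.2).symm
    obtain ⟨u, hu⟩ : ∃ u, N.e ⟨(a : J), pJ_le_HJ a.2⟩ = u := ⟨_, rfl⟩
    obtain ⟨v, hv⟩ : ∃ v, N.e ⟨(b : J), pJ_le_HJ b.2⟩ = v := ⟨_, rfl⟩
    rw [hv] at hbz
    rcases hval a with ha | ha <;> rcases hval b with hb | hb <;>
      simp only [χv, eψ, ee, ha, hb, hu, hv]
    · simp
    · rw [← mul_assoc, if_neg hne, if_neg hne]; simp
    · rw [mul_assoc, hbz, ← mul_assoc, if_neg hne, if_neg hne]; simp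
    · rw [show u * z * (v * z) = u * v by
        rw [mul_assoc, ← mul_assoc z, hbz, mul_assoc, hzz, mul_one], if_pos rfl, if_neg hne, if_neg hne]
      decide
  let χ : pJ →* Multiplicative (ZMod 2) := MonoidHom.mk' χv hχ
  obtain ⟨ε, hε⟩ := M.exists_character
  have hχ1 : ∀ a : pJ, ε ⟨a, pJ_le_dJ a.2⟩ = 1 → χ a = 1 := fun a h => M.hom_two χ a ((hε _).1 h)
  have two : ∀ u : Multiplicative (ZMod 2), u = 1 ∨ u = Multiplicative.ofAdd 1 := by decide
  have hc : (∀ a : pJ, χ a = 1) ∨ ∀ a : pJ, χ a = ε ⟨a, pJ_le_dJ a.2⟩ := by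
    by_cases h : ∀ a : pJ, χ a = 1
    · exact Or.inl h
    · push Not at h
      obtain ⟨b, hb⟩ := h
      have heb : ε ⟨b, pJ_le_dJ b.2⟩ = Multiplicative.ofAdd 1 :=
        (two _).resolve_left fun e => hb (hχ1 b e)
      refine Or.inr fun a => ?_
      rcases two (ε ⟨a, pJ_le_dJ a.2⟩) with ea | ea <;> rw [ea]
      · exact hχ1 a ea
      · have hab : χ (a * b⁻¹) = 1 := hχ1 _ (by
          rw [show (⟨((a * b⁻¹ : pJ) : J), pJ_le_dJ (a * b⁻¹).2⟩ : dJ) =
            ⟨a, pJ_le_dJ a.2⟩ * ⟨b, pJ_le_dJ b.2⟩⁻¹ from rfl, map_mul, map_inv, ea, heb, mul_inv_cancel])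
        rw [map_mul, map_inv, mul_inv_eq_one] at hab
        rw [hab]
        exact (two _).resolve_left hb
  rcases hc with hc | hc
  · refine ⟨⟨N, ψ, hψc, fun a hN hD hP => ?_⟩, rfl⟩
    have := hc ⟨a, hP⟩
    simp only [χ, MonoidHom.mk'_apply, χv] at this
    by_contra hne
    rw [if_neg fun h => hne h.symm] at this
    exact absurd this (by decide)
  · let zc : Multiplicative (ZMod 2) →* G := MonoidHom.mk' (fun u => if u = 1 then 1 else z) fun u v => by
      rcases two u with rfl | rfl <;> rcases two v with rfl | rfl <;>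
        simp [hzz, show Multiplicative.ofAdd (1 : ZMod 2) * Multiplicative.ofAdd 1 = 1 by decide]
    have zcc : ∀ u, ∀ d : dJ, zc u * ψ d = ψ d * zc u := fun u d => by
      rcases two u with rfl | rfl
      · simp
      · simp [zc, (hψc d).symm]
    let ψ' : dJ →* G := MonoidHom.mk' (fun d => ψ d * zc (ε d)) fun a b => by
      rw [map_mul, map_mul, map_mul]
      calc ψ a * ψ b * (zc (ε a) * zc (ε b)) = ψ a * (ψ b * zc (ε a)) * zc (ε b) := by group
        _ = ψ a * (zc (ε a) * ψ b) * zc (ε b) := by rw [zcc]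
        _ = _ := by group
    refine ⟨⟨N, ψ', fun d => ?_, fun a hN hD hP => ?_⟩, rfl⟩
    · show ψ d * zc (ε d) * z = z * (ψ d * zc (ε d))
      refine (Commute.mul_left (hψc d) ?_).eq
      rcases two (ε d) with h | h <;> rw [h] <;> simp [zc, Commute, SemiconjBy]
    · show N.e ⟨a, hN⟩ = ψ ⟨a, hD⟩ * zc (ε ⟨a, hD⟩)
      have h := hc ⟨a, hP⟩
      simp only [χ, MonoidHom.mk'_apply, χv] at h
      rw [← h]
      rcases hval ⟨a, hP⟩ with h1 | h1
      · rw [if_pos h1]
        simp [zc, h1]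
      · have hne : ¬ ψ ⟨a, pJ_le_dJ hP⟩ = N.e ⟨a, pJ_le_HJ hP⟩ := fun e => hz1
          (mul_left_cancel ((h1.symm.trans e).trans (mul_one _).symm))
        rw [if_neg hne]
        simp [zc, h1, mul_assoc, hzz]

/-- A compatible amalgam exists over some identification. -/
theorem exists_amalgam [Finite G] (hJ : Cfsg.IsOfJankoFourTypeAt z) (N₀ : NMap G z) :
    ∃ A : Amalgam G z, A.glue.Compat := by
  obtain ⟨τ, hτv, hτz, hτo, hτtab⟩ := M.twist
  have himg : ∀ N : NMap G z, (oJ.subgroupOf HJ).map N.e = Cfsg.twoCoreOfCentralizer z := fun N =>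
    map_oJ N hJ M.loc.o_le M.act.card_oJ M.z_oJ M.act.three_mem M.act.three_order
      (fun o ho => M.act.norm _ M.three_mem_dJ o ho) M.three_fix M.act.three_sylow
  obtain ⟨g, hg, hact⟩ := Cert.exists_t_action N₀ hJ (himg N₀) M.act τ hτz hτo hτtab
  obtain ⟨N, hN⟩ : ∃ N : NMap G z, ∀ (q : J) (_ : q ∈ oJ) (h : q ∈ HJ) (h' : tJ * q * tJ⁻¹ ∈ HJ),
      g * N.e ⟨q, h⟩ * g⁻¹ = N.e ⟨tJ * q * tJ⁻¹, h'⟩ := by
    rcases hact with h | h
    · exact ⟨N₀, h⟩
    · exact ⟨N₀.twist τ hτv hτz, h⟩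
  obtain ⟨A, hA⟩ := M.exists_toC hJ N (himg N) hg hN
  refine ⟨A, A.compat M.loc (fun h hh hc => ?_) ?_ M.z'_sq⟩
  · obtain ⟨P0, hP0⟩ := hJ
    obtain ⟨S, hSz, -⟩ := Shape.exists_of_isOfJankoFourTypeWith hP0
    have hSE : S.E = (oJ.subgroupOf HJ).map A.toN.e := by
      rw [himg A.toN, E_eq_twoCore, hSz]
    have hzH : zJ' ∈ HJ := pJ_le_HJ (M.loc.o_le M.loc.z'_mem)
    have zH : zJ ∈ HJ := pJ_le_HJ M.loc.z_mem
    have := mem_of_fix_hyperplane S (e := A.toN.e ⟨zJ', hzH⟩) (h := h)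
      (by rw [hSE]; exact Subgroup.mem_map_of_mem _ (Subgroup.mem_subgroupOf.2 M.loc.z'_mem))
      (fun e => by
        have h' : (⟨zJ', hzH⟩ : HJ) = 1 := A.toN.inj (e.trans (map_one _).symm)
        have h2 := congrArg HJ.subtype h'
        rw [map_one] at h2
        simp only [Subgroup.subtype_apply] at h2
        exact M.z'_ne_one h2)
      (fun e => by
        have h' : (⟨zJ', hzH⟩ : HJ) = ⟨zJ, zH⟩ := A.toN.inj (e.trans (hSz.trans (A.toN.map_z zH).symm))
        have h2 := congrArg HJ.subtype h'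
        simp only [Subgroup.subtype_apply] at h2
        exact M.z'_ne_z h2)
      (by rw [Shape.mem_H, hSz]; exact hh)
      (fun x hx hxe => by
        rw [hSE] at hx
        obtain ⟨⟨q, hq⟩, hqo, rfl⟩ := hx
        rw [← map_mul, ← map_mul] at hxe
        exact (hc q hq hqo (congrArg Subtype.val (A.toN.inj hxe))).symm)
    rw [hSz] at this
    exact this
  · have zH : zJ ∈ HJ := pJ_le_HJ M.loc.z_mem
    have h : A.toN.e ⟨zJ, zH⟩ * A.toN.e ⟨zJ, zH⟩ = 1 := by
      rw [← map_mul, ← map_one A.toN.e]; exact congrArg A.toN.e (Subtype.ext M.z_sq)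
    rwa [A.toN.map_z zH] at h

end ModelFacts

end CfsgLib.JFourAmalgam
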