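import Cfsg.Agent.JFourAmalgam.ModelNThree
import Cfsg.Agent.JFourAmalgam.Exist

/-!
The facts on the model used for the existence of a compatible amalgam, apart from the tables of the
actions and the twist.
-/

set_option autoImplicit false

namespace CfsgLib.JFourAmalgam

open CfsgLib.JankoFour

local notation "J" => Cfsg.Spor.J4

/-- The local facts on the model. -/
theorem localFacts (A : Cert.ActFacts) : LocalFacts where
  x_z := x_zJ
  z_mem := zJ_mem_pJ
  o_le := A.oJ_le
  z'_mem := zJ'_mem_oJ
  d_cent := dJ_le_centralizer A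
  d_norm := A.norm
  odd_pair := odd_pair_index facts A

/-- The facts on the model, given the tables and the twist. -/
theorem modelFacts_of (A : Cert.ActFacts)
    (ht : ∃ τ : HJ ≃* HJ, (∀ a : HJ, (a : J) ∈ vJ → τ a = a) ∧
      (∀ h : zJ ∈ HJ, (τ ⟨zJ, h⟩ : J) = zJ) ∧
      (oJ.subgroupOf HJ).map τ.toMonoidHom = oJ.subgroupOf HJ ∧
      ∀ i < 12, ∀ h : Cert.oBasis i ∈ HJ,
        Cert.ModZ (τ ⟨Cert.oBasis i, h⟩ : J) (Cert.selProd (Cert.hMat.getD i 0))) :
    ModelFacts where
  act := A
  loc := localFacts A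
  z_oJ := Cert.zJ_mem
  z_sq := zJ_sq
  z'_sq := zJ'_sq
  z'_ne_one := zJ'_ne_one
  z'_ne_z := zJ'_ne_zJ
  three_fix := three_fix A
  three_conj := three_conj A
  three_not_mem := three_not_mem A
  basic := basicMem
  odd_index := odd_index_pJ facts
  hom_two := hom_two_pJ facts A (three_not_mem A)
  twist := ht

end CfsgLib.JFourAmalgam
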