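import Cfsg.Agent.JFourAmalgam.ToNModel
import Cfsg.Agent.JFourAmalgam.Coords
import Cfsg.Agent.JFourAmalgam.FactsProof

/-!
# The twist of `HJ` by a cocycle of M24 in the cocode

An element of `mSub` moving the base point `i₀` to `p` is multiplied by the element of the two points
`i₀, p`. This is an involutory automorphism of `HJ` which is trivial on the normal subgroup, fixes `oJ` and
acts on the basis of `oJ` modulo the centre as the matrix `hMat`.
-/

set_option autoImplicit false
set_option maxRecDepth 100000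
set_option linter.style.haveILetI false

namespace CfsgLib.JFourAmalgam

open CfsgLib.JankoFour CfsgLib.Mathieu CfsgLib.M24Classes CfsgLib.JFourEleven
open Cfsg (GolayPt)
open CfsgLib.MTwentyThreeUnique.Gl11 (V)
open CfsgLib.MTwentyFourUnique.Gl11 (repD24)
open CfsgLib.JankoFourIndex (Model xM yM)
open Matrix

local notation "J" => Cfsg.Spor.J4

namespace Twist

/-- The value of the cocycle: the pair of the base point and its image. -/
noncomputable def coc (M : Model) (n : mSub) : V := Cocode.duad (pt 0) (pointHom M n (pt 0))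

theorem coc_one (M : Model) : coc M 1 = 0 := by
  rw [coc, map_one]
  exact Cocode.duad_self _

theorem coc_mul (M : Model) (n m : mSub) :
    coc M (n * m) = coc M n + repD24 (thetaJ M n) *ᵥ coc M m := by
  rw [coc, coc, coc, Cocode.repD24_duad, map_mul]
  exact (Cocode.duad_add _ _ _).symm

/-- The letters of the tables on the points. -/
def letT (c : ℕ) (i : ℕ) : ℕ :=
  if c = 0 then app tabX i else if c = 1 then app tabY i else app tabY (app tabY i)

/-- The image of a point under a word. -/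
def img (w : List ℕ) (i : ℕ) : ℕ := w.foldr letT i

theorem apply_of_rep {σ : Equiv.Perm GolayPt} {t : ℕ} (r : Rep enc σ t) {i : ℕ} (hi : i < 24) :
    σ (pt i) = pt (app t i) := by
  have h := r (pt i)
  conv_rhs => rw [← idx_pt hi]
  refine (pt_idx _).symm.trans (congrArg pt ?_)
  exact h.symm

theorem pointHom_lv (M : Model) : ∀ c < 3, ∀ (h : HBound.lv c ∈ mSub) {i : ℕ}, i < 24 →
    pointHom M ⟨HBound.lv c, h⟩ (pt i) = pt (letT c i) := by
  intro c hc h i hi
  interval_cases c
  · exact apply_of_rep (rep_x M) hi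
  · exact apply_of_rep (rep_y M) hi
  · have e : (⟨HBound.lv 2, h⟩ : mSub) = yM * yM := Subtype.ext (by
      show yJ⁻¹ = yJ * yJ
      exact inv_eq_of_mul_eq_one_right (by rw [← mul_assoc, ← pow_two, ← pow_succ]; exact yJ_cube))
    rw [e, map_mul]
    exact apply_of_rep (rep_comp (rep_y M) (rep_y M)) hi |>.trans
      (congrArg pt (app_comp _ _ _ hi))

theorem letT_lt : ∀ c < 3, ∀ i < 24, letT c i < 24 := by decide +kernel

theorem pointHom_wv (M : Model) : ∀ {w : List ℕ}, (∀ c ∈ w, c < 3) → ∀ {i : ℕ}, i < 24 →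
    img w i < 24 ∧ pointHom M ⟨HBound.wv w, HBound.wv_mem_mSub w⟩ (pt i) = pt (img w i)
  | [], _, i, hi => by
    refine ⟨hi, ?_⟩
    rw [show (⟨HBound.wv [], HBound.wv_mem_mSub []⟩ : mSub) = 1 from rfl, map_one]
    rfl
  | c :: w, hw, i, hi => by
    have hc := hw c List.mem_cons_self
    obtain ⟨hlt, e⟩ := pointHom_wv M (fun d hd => hw d (List.mem_cons_of_mem _ hd)) hi
    have hl : HBound.lv c ∈ mSub := by simpa [HBound.wv] using HBound.wv_mem_mSub [c]
    refine ⟨letT_lt c hc _ hlt, ?_⟩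
    rw [show (⟨HBound.wv (c :: w), HBound.wv_mem_mSub (c :: w)⟩ : mSub) =
      ⟨HBound.lv c, hl⟩ * ⟨HBound.wv w, HBound.wv_mem_mSub w⟩ from Subtype.ext (by simp [HBound.wv]), map_mul]
    exact (congrArg _ e).trans (pointHom_lv M c hc hl hlt)

/-- The indices of the vectors of a row below six. -/
def pre (k : ℕ) : List ℕ := (List.range 6).filter ((Cert.hMat.getD (k + 6) 0).testBit ·)

/-- The basic involutions of a row. -/
def preList (k : ℕ) : List ℕ := (pre k).flatMap fun b => oLists.getD (b + 1) []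

theorem table_ok : ∀ k : Fin 6,
    ((∀ c ∈ oWords.getD k.val [], c < 3) ∧ (∀ a ∈ preList k.val, a < 11) ∧
      (List.range 12).filter ((Cert.hMat.getD (k.val + 6) 0).testBit ·) = pre k.val ++ [k.val + 6] ∧
      (List.range 12).filter ((Cert.hMat.getD k.val 0).testBit ·) = [k.val]) ∧
    (cMat *ᵥ Cocode.duad (pt 0) (pt (img (oWords.getD k.val []) 0)) = listVec (preList k.val) ∨
      cMat *ᵥ Cocode.duad (pt 0) (pt (img (oWords.getD k.val []) 0)) =
        listVec ([0, 2, 3, 5, 6, 9] ++ preList k.val)) := by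
  decide +kernel

theorem prod_ite {M : Type*} [Monoid M] (p : ℕ → Bool) (f : ℕ → M) : ∀ l : List ℕ,
    (l.map fun i => if p i then f i else 1).prod = ((l.filter p).map f).prod
  | [] => rfl
  | a :: l => by
    rw [List.map_cons, List.prod_cons, prod_ite p f l, List.filter_cons]
    split_ifs <;> simp

theorem qList_append (a b : List ℕ) : qList (a ++ b) = qList a * qList b := by simp [qList]

theorem oBasis_low : ∀ l : List ℕ, (∀ b ∈ l, b < 6) →
    (l.map Cert.oBasis).prod = qList (l.flatMap fun b => oLists.getD (b + 1) [])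
  | [], _ => rfl
  | a :: l, h => by
    rw [List.map_cons, List.prod_cons, List.flatMap_cons, qList_append,
      oBasis_low l fun b hb => h b (List.mem_cons_of_mem _ hb), Cert.oBasis, if_pos (h a List.mem_cons_self)]

theorem pre_lt {k b : ℕ} (hb : b ∈ pre k) : b < 6 := List.mem_range.1 (List.mem_filter.1 hb).1

theorem selProd_low (k : Fin 6) : Cert.selProd (Cert.hMat.getD k.val 0) = Cert.oBasis k.val := by
  rw [Cert.selProd, prod_ite, (table_ok k).1.2.2.2]
  simp

theorem selProd_high (k : Fin 6) : Cert.selProd (Cert.hMat.getD (k.val + 6) 0) =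
    qList (preList k.val) * HBound.wv (oWords.getD k.val []) := by
  rw [Cert.selProd, prod_ite, (table_ok k).1.2.2.1, List.map_append, List.prod_append,
    oBasis_low (pre _) fun b hb => pre_lt hb, List.map_singleton, List.prod_singleton,
    Cert.oBasis, if_neg (by omega), Nat.add_sub_cancel]
  rfl

end Twist

open Twist in
/-- **The twist.** -/
theorem exists_twist : ∃ τ : HJ ≃* HJ, (∀ a : HJ, (a : J) ∈ vJ → τ a = a) ∧
    (∀ h : zJ ∈ HJ, (τ ⟨zJ, h⟩ : J) = zJ) ∧
    (oJ.subgroupOf HJ).map τ.toMonoidHom = oJ.subgroupOf HJ ∧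
    ∀ i < 12, ∀ h : Cert.oBasis i ∈ HJ,
      Cert.ModZ (τ ⟨Cert.oBasis i, h⟩ : J) (Cert.selProd (Cert.hMat.getD i 0)) := by
  classical
  have F := facts
  let M : Model := JankoFourM24.model
  choose vv nn hdec using fun a : HJ => exists_decomp F M a.2
  have hmem : ∀ (v : Multiplicative V) (n : mSub), psiJ F v * (n : J) ∈ HJ := fun v n =>
    mul_mem (vJ_le_HJ F (range_psiJ F ▸ ⟨v, rfl⟩)) (mSub_le_HJ n.2)
  let t : HJ → HJ := fun a =>
    ⟨psiJ F (vv a * Multiplicative.ofAdd (coc M (nn a))) * (nn a : J), hmem _ _⟩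
  have uniq : ∀ {v w : Multiplicative V} {n m : mSub}, psiJ F v * (n : J) = psiJ F w * m → v = w ∧ n = m :=
    fun {v w n m} h => by
      have h' : psiJ F (w⁻¹ * v) = ((m * n⁻¹ : mSub) : J) := by
        rw [map_mul, map_inv, Subgroup.coe_mul, Subgroup.coe_inv, inv_mul_eq_iff_eq_mul, ← mul_assoc, ← h,
          mul_inv_cancel_right]
      obtain ⟨h1, h2⟩ := eq_one_of_psiJ F M h'
      exact ⟨(inv_mul_eq_one.1 h1).symm, (mul_inv_eq_one.1 h2).symm⟩
  have hval : ∀ (a : HJ) v (n : mSub), psiJ F v * (n : J) = a →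
      (t a : J) = psiJ F (v * Multiplicative.ofAdd (coc M n)) * n := fun a v n h => by
    obtain ⟨e1, e2⟩ := uniq ((hdec a).trans h.symm)
    show psiJ F _ * (nn a : J) = _
    rw [e1, e2]
  have hinv : Function.Involutive t := fun a => Subtype.ext (by
    rw [hval (t a) _ _ rfl, mul_assoc (vv a), ← ofAdd_add, Cocode.vec_add_self, ofAdd_zero, mul_one, hdec])
  have hmul : ∀ a b, t (a * b) = t a * t b := fun a b => Subtype.ext (by
    rw [hval (a * b) (vv a * Multiplicative.ofAdd (repD24 (thetaJ M (nn a)) *ᵥ (vv b).toAdd)) (nn a * nn b) (by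
        rw [map_mul, ← conj_psiJ, ofAdd_toAdd, Subgroup.coe_mul, Subgroup.coe_mul, ← hdec a, ← hdec b]
        group),
      Subgroup.coe_mul, Subgroup.coe_mul, hval a _ _ (hdec a), hval b _ _ (hdec b), coc_mul, ofAdd_add]
    generalize coc M (nn a) = c
    generalize coc M (nn b) = d
    have e : vv a * Multiplicative.ofAdd (repD24 (thetaJ M (nn a)) *ᵥ (vv b).toAdd) *
        (Multiplicative.ofAdd c * Multiplicative.ofAdd (repD24 (thetaJ M (nn a)) *ᵥ d)) =
        vv a * Multiplicative.ofAdd c *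
          Multiplicative.ofAdd (repD24 (thetaJ M (nn a)) *ᵥ (vv b * Multiplicative.ofAdd d).toAdd) := by
      rw [toAdd_mul, toAdd_ofAdd, Matrix.mulVec_add, ofAdd_add, mul_mul_mul_comm, mul_assoc]
    rw [e, map_mul, ← conj_psiJ, ofAdd_toAdd]
    group)
  let τ : HJ ≃* HJ := { toFun := t, invFun := t, left_inv := hinv, right_inv := hinv, map_mul' := hmul }
  have hV : ∀ a : HJ, (a : J) ∈ vJ → τ a = a := fun a ha => by
    rw [← range_psiJ F] at ha
    obtain ⟨v, hv⟩ := ha
    refine Subtype.ext ((hval a v 1 (by rw [OneMemClass.coe_one, mul_one, hv])).trans ?_)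
    rw [coc_one, ofAdd_zero, mul_one, OneMemClass.coe_one, mul_one, hv]
  have hqv : ∀ l : List ℕ, (∀ a ∈ l, a < 11) → qList l ∈ vJ := fun l hl => by
    refine Subgroup.list_prod_mem _ fun b hb => ?_
    obtain ⟨a, ha, rfl⟩ := List.mem_map.1 hb
    exact Subgroup.subset_closure ⟨a, hl a ha, rfl⟩
  have hz : zJ ∈ vJ := hqv _ (by decide)
  have hlists : ∀ l ∈ oLists, ∀ a ∈ l, a < 11 := by decide
  -- the twist on the words
  have hword : ∀ (k : Fin 6) (h : HBound.wv (oWords.getD k.val []) ∈ HJ),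
      Cert.ModZ (t ⟨_, h⟩ : J) (Cert.selProd (Cert.hMat.getD (k.val + 6) 0)) := fun k h => by
    obtain ⟨⟨hw, hl, -, -⟩, hc⟩ := table_ok k
    let n : mSub := ⟨_, HBound.wv_mem_mSub (oWords.getD k.val [])⟩
    rw [hval _ 1 n (by rw [map_one, one_mul]), one_mul, selProd_high, psiJ_apply]
    have e : coc M n = Cocode.duad (pt 0) (pt (img (oWords.getD k.val []) 0)) :=
      congrArg (Cocode.duad (pt 0)) (pointHom_wv M hw (by norm_num)).2
    rw [e]
    rcases hc with hc | hc <;> rw [hc, ← qList_eq F]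
    · exact Or.inl rfl
    · exact hl
    · exact Or.inr (by rw [qList_append, ← mul_assoc]; rfl)
    · intro a ha
      rcases List.mem_append.1 ha with ha | ha
      · exact (by decide : ∀ x ∈ ([0, 2, 3, 5, 6, 9] : List ℕ), x < 11) a ha
      · exact hl a ha
  have hpre : ∀ k < 6, qList (preList k) ∈ oJ := fun k hk => by
    rw [preList, ← oBasis_low (pre _) fun b hb => pre_lt hb]
    refine Subgroup.list_prod_mem _ fun b hb => ?_
    obtain ⟨i, hi, rfl⟩ := List.mem_map.1 hb
    exact Cert.oBasis_mem (lt_trans (pre_lt hi) (by norm_num))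
  refine ⟨τ, hV, fun h => by rw [hV ⟨zJ, h⟩ hz], ?_, fun i hi h => ?_⟩
  · have key : oJ ≤ ((oJ.comap (HJ.subtype.comp τ.toMonoidHom)).map HJ.subtype) := by
      refine (Subgroup.closure_le _).2 ?_
      rintro a (⟨l, hl, rfl⟩ | ⟨w, hw, rfl⟩)
      · refine ⟨⟨qList l, vJ_le_HJ F (hqv l (hlists l hl))⟩, ?_, rfl⟩
        show (τ _ : J) ∈ oJ
        rw [hV _ (hqv l (hlists l hl))]
        exact Subgroup.subset_closure (Or.inl ⟨l, hl, rfl⟩)
      · have hmw : HBound.wv w ∈ HJ := mSub_le_HJ (HBound.wv_mem_mSub w)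
        obtain ⟨k, hk, rfl⟩ := List.getElem_of_mem hw
        change k < 6 at hk
        refine ⟨⟨_, hmw⟩, ?_, rfl⟩
        show (t ⟨_, hmw⟩ : J) ∈ oJ
        have hgen : HBound.wv (oWords.getD k []) ∈ oJ := Subgroup.subset_closure (Or.inr ⟨_,
          (List.getD_eq_getElem oWords [] hk).symm ▸ List.getElem_mem _, rfl⟩)
        have e := selProd_high ⟨k, hk⟩
        have hsel : Cert.selProd (Cert.hMat.getD (k + 6) 0) ∈ oJ := e ▸ mul_mem (hpre k hk) hgen
        have hg : oWords[k] = oWords.getD k [] := (List.getD_eq_getElem oWords [] hk).symm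
        have hh := hword ⟨k, hk⟩ (hg ▸ hmw)
        simp only [hg] at hmw ⊢
        rcases hh with hh | hh <;> rw [hh]
        · exact hsel
        · exact mul_mem Cert.zJ_mem hsel
    have step : ∀ a : HJ, (a : J) ∈ oJ → (τ a : J) ∈ oJ := fun a ha => by
      obtain ⟨b, hb, e⟩ := key ha
      rw [← Subtype.ext e]
      exact hb
    refine le_antisymm ?_ fun a ha => ⟨t a, step a ha, hinv a⟩
    rintro _ ⟨a, ha, rfl⟩
    exact step a ha
  · rcases Nat.lt_or_ge i 6 with hi6 | hi6
    · refine Or.inl ?_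
      rw [selProd_low ⟨i, hi6⟩]
      refine congrArg Subtype.val (hV ⟨_, h⟩ ?_)
      show Cert.oBasis i ∈ vJ
      rw [Cert.oBasis, if_pos hi6]
      exact hqv _ (hlists _ ((List.getD_eq_getElem oLists [] (show i + 1 < 7 by omega)).symm ▸ List.getElem_mem _))
    · obtain ⟨k, rfl⟩ : ∃ k, i = k + 6 := ⟨i - 6, by omega⟩
      have e : Cert.oBasis (k + 6) = HBound.wv (oWords.getD k []) := by
        rw [Cert.oBasis, if_neg (by omega), Nat.add_sub_cancel]
      simp only [e] at h ⊢
      exact hword ⟨k, by omega⟩ h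

end CfsgLib.JFourAmalgam
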