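import Cfsg.Agent.JFourAmalgam.LocalFactsProof
import Cfsg.Agent.JFourAmalgam.Twist

/-!
# The facts on the presented group, from the action tables alone
-/

set_option autoImplicit false

namespace CfsgLib.JFourAmalgam

/-- Every fact on the presented group used for the amalgam, from the action tables. -/
theorem modelFacts_of_act (A : Cert.ActFacts) : ModelFacts :=
  modelFacts_of A exists_twist

end CfsgLib.JFourAmalgam
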