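import Cfsg.Agent.JFourAmalgam.MainOf
import Cfsg.Agent.JFourAmalgam.ModelFactsTwist
import Cfsg.Agent.JFourCent.ClassFact

/-!
# The recognition of the fourth Janko group, from the action tables
-/

set_option autoImplicit false

namespace CfsgLib.JFourAmalgam

universe u

variable {G : Type u} [Group G] [Finite G] [IsSimpleGroup G]

/-- A simple group of Janko-four type at an element is `J₄`. -/
theorem iso_J4_at_act (A : Cert.ActFacts) {z : G} (hJ : Cfsg.IsOfJankoFourTypeAt z) : Cfsg.Spor.IsoJ4 G :=
  iso_J4_of hJ (modelFacts_of_act A) JFourCent.classFact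

/-- The order and the two classes of involutions. -/
theorem isJ4_two_classes_act (A : Cert.ActFacts) {z : G} (hJ : Cfsg.IsOfJankoFourTypeAt z) :
    Cfsg.IsJ4 G ∧ ∃ x y : G, orderOf x = 2 ∧ orderOf y = 2 ∧ ¬ IsConj x y ∧
      ∀ w : G, orderOf w = 2 → IsConj w x ∨ IsConj w y :=
  isJ4_two_classes_of hJ (modelFacts_of_act A) JFourCent.classFact

end CfsgLib.JFourAmalgam
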