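import Cfsg.Agent.JFourAmalgam.Recognition
import Cfsg.Agent.JFourAmalgam.Endgame
import Cfsg.Agent.JFourEleven.Orbit

/-!
# The recognition of the fourth Janko group from the model facts and the class fact
-/

set_option autoImplicit false

namespace CfsgLib.JFourAmalgam

open CfsgLib.JFourAmalgam.Endgame

universe u

variable {G : Type u} [Group G] [Finite G] [IsSimpleGroup G]

/-- The centralizer fact. -/
theorem centFact {z : G} (hJ : Cfsg.IsOfJankoFourTypeAt z) : CentFact z := fun L _ ha =>
  L.centralizer_others (not_comm_of_type hJ) ha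

/-- The subgroup criterion from the facts on classes and centralizers of involutions. -/
theorem endGame_of {z : G} (hJ : Cfsg.IsOfJankoFourTypeAt z) (hcl : ClassFact.{u}) :
    EndGame G z := fun N K hN hg =>
  hg.elim fun _ hg =>
    eq_top_of (not_comm_of_type hJ) hJ hcl (centFact hJ) N K hN hg.1 hg.2.1 hg.2.2

/-- A simple group of Janko-four type is `J₄`. -/
theorem iso_J4_of {z : G} (hJ : Cfsg.IsOfJankoFourTypeAt z) (M : ModelFacts) (hcl : ClassFact.{u}) :
    Cfsg.Spor.IsoJ4 G :=
  isoJ4_of_type M (not_comm_of_type hJ) hJ (endGame_of hJ hcl)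

/-- The order and the classes of involutions of a simple group of Janko-four type. -/
theorem isJ4_two_classes_of {z : G} (hJ : Cfsg.IsOfJankoFourTypeAt z) (M : ModelFacts)
    (hcl : ClassFact.{u}) :
    Cfsg.IsJ4 G ∧ ∃ x y : G, orderOf x = 2 ∧ orderOf y = 2 ∧ ¬ IsConj x y ∧
      ∀ w : G, orderOf w = 2 → IsConj w x ∨ IsConj w y :=
  ⟨isJ4_of_iso (iso_J4_of hJ M hcl), two_classes (not_comm_of_type hJ) hJ hcl⟩

end CfsgLib.JFourAmalgam
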