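import Cfsg.Agent.JankoFour.LowerData
import Mathlib

/-!
Numbers as vectors over the field with two elements, and the products they index in a group.
-/

set_option autoImplicit false

namespace CfsgLib.JFourAmalgam.NModel

/-- The bits `i < n` of `v` applied to the values `f`. -/
def bitXor (f : ℕ → ℕ) (n v : ℕ) : ℕ :=
  ((List.range n).map fun i => bif v.testBit i then f i else 0).foldr (fun a r => a ^^^ r) 0

theorem bitXor_succ (f : ℕ → ℕ) (n v : ℕ) :
    bitXor f (n + 1) v = bitXor f n v ^^^ (bif v.testBit n then f n else 0) := by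
  have h : ∀ (l : List ℕ) (c : ℕ), l.foldr (fun a r => a ^^^ r) c =
      l.foldr (fun a r => a ^^^ r) 0 ^^^ c := by
    intro l c
    induction l with
    | nil => simp
    | cons a l ih => rw [List.foldr_cons, List.foldr_cons, ih, Nat.xor_assoc]
  rw [bitXor, bitXor, List.range_succ, List.map_append, List.foldr_append, h]
  simp

theorem bitXor_zero (f : ℕ → ℕ) : ∀ n, bitXor f n 0 = 0
  | 0 => rfl
  | n + 1 => by simp [bitXor_succ, bitXor_zero f n]

theorem bitXor_xor (f : ℕ → ℕ) (u v : ℕ) :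
    ∀ n, bitXor f n (u ^^^ v) = bitXor f n u ^^^ bitXor f n v
  | 0 => (Nat.xor_self 0).symm
  | n + 1 => by
    simp only [bitXor_succ, bitXor_xor f u v n, Nat.testBit_xor]
    cases u.testBit n <;> cases v.testBit n <;>
      simp [Nat.xor_assoc, Nat.xor_left_comm, Nat.xor_comm]

theorem bitXor_mem {p : ℕ → Prop} (f : ℕ → ℕ) (h0 : p 0) (hx : ∀ a b, p a → p b → p (a ^^^ b))
    (v : ℕ) : ∀ n, (∀ i < n, p (f i)) → p (bitXor f n v)
  | 0, _ => h0
  | n + 1, hf => by
    rw [bitXor_succ]
    refine hx _ _ (bitXor_mem f h0 hx v n fun i hi => hf i (by omega)) ?_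
    cases v.testBit n
    exacts [h0, hf n (by omega)]

theorem bitXor_two_pow (f : ℕ → ℕ) {i : ℕ} : ∀ {n : ℕ}, i < n → bitXor f n (2 ^ i) = f i
  | 0, h => absurd h (Nat.not_lt_zero i)
  | n + 1, h => by
    rw [bitXor_succ, Nat.testBit_two_pow]
    rcases Nat.lt_succ_iff_lt_or_eq.1 h with h | rfl
    · simp [bitXor_two_pow f h, Nat.ne_of_lt h]
    · have hz : ∀ m ≤ i, bitXor f m (2 ^ i) = 0 := by
        intro m
        induction m with
        | zero => exact fun _ => rfl
        | succ m ih =>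
          intro hm
          simp [bitXor_succ, ih (by omega), show ¬ i = m by omega]
      simp [hz i le_rfl]

theorem xor_lt {a b n : ℕ} (ha : a < 2 ^ n) (hb : b < 2 ^ n) : a ^^^ b < 2 ^ n :=
  Nat.xor_lt_two_pow ha hb

theorem bitXor_lt (f : ℕ → ℕ) (v : ℕ) {n m : ℕ} (hf : ∀ i < n, f i < 2 ^ m) :
    bitXor f n v < 2 ^ m :=
  bitXor_mem (p := fun a => a < 2 ^ m) f (Nat.two_pow_pos m) (fun _ _ => xor_lt) v n hf

section Group

variable {G : Type*} [Group G]

/-- The product of the values `f` at the bits `i < n` of `v`. -/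
def bitProd (f : ℕ → G) : ℕ → ℕ → G
  | 0, _ => 1
  | n + 1, v => bitProd f n v * (bif v.testBit n then f n else 1)

theorem bitProd_zero (f : ℕ → G) : ∀ n, bitProd f n 0 = 1
  | 0 => rfl
  | n + 1 => by simp [bitProd, bitProd_zero f n]

theorem bitProd_mem {K : Subgroup G} (f : ℕ → G) (v : ℕ) : ∀ n, (∀ i < n, f i ∈ K) → bitProd f n v ∈ K
  | 0, _ => K.one_mem
  | n + 1, h => by
    refine K.mul_mem (bitProd_mem f v n fun i hi => h i (by omega)) ?_
    cases v.testBit n
    exacts [K.one_mem, h n (by omega)]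

theorem bitProd_commute (f : ℕ → G) (v : ℕ) {g : G} :
    ∀ n, (∀ i < n, Commute g (f i)) → Commute g (bitProd f n v)
  | 0, _ => Commute.one_right g
  | n + 1, h => by
    refine (bitProd_commute f v n fun i hi => h i (by omega)).mul_right ?_
    cases v.testBit n
    exacts [Commute.one_right g, h n (by omega)]

theorem bitProd_xor (f : ℕ → G) (u v : ℕ) : ∀ n, (∀ i < n, ∀ j < n, Commute (f i) (f j)) →
    (∀ i < n, f i * f i = 1) → bitProd f n (u ^^^ v) = bitProd f n u * bitProd f n v
  | 0, _, _ => by simp [bitProd]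
  | n + 1, hc, h2 => by
    have ih := bitProd_xor f u v n (fun i hi j hj => hc i (by omega) j (by omega))
      fun i hi => h2 i (by omega)
    have hv : Commute (f n) (bitProd f n v) :=
      bitProd_commute f v n fun i hi => hc n (by omega) i (by omega)
    simp only [bitProd, ih, Nat.testBit_xor]
    cases u.testBit n <;> cases v.testBit n <;> simp only [Bool.xor_false, Bool.false_xor,
      Bool.xor_self, cond_false, cond_true, mul_one]
    · rw [mul_assoc]
    · rw [mul_assoc, mul_assoc, hv.eq]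
    · calc bitProd f n u * bitProd f n v
          = bitProd f n u * bitProd f n v * (f n * f n) := by rw [h2 n (by omega), mul_one]
        _ = bitProd f n u * (f n * bitProd f n v) * f n := by rw [hv.eq]; group
        _ = _ := by group

theorem bitProd_two_pow (f : ℕ → G) {i : ℕ} : ∀ {n : ℕ}, i < n → bitProd f n (2 ^ i) = f i
  | 0, h => absurd h (Nat.not_lt_zero i)
  | n + 1, h => by
    rw [bitProd, Nat.testBit_two_pow]
    rcases Nat.lt_succ_iff_lt_or_eq.1 h with h | rfl
    · simp [bitProd_two_pow f h, Nat.ne_of_lt h]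
    · have hz : ∀ m ≤ i, bitProd f m (2 ^ i) = 1 := by
        intro m
        induction m with
        | zero => exact fun _ => rfl
        | succ m ih =>
          intro hm
          simp [bitProd, ih (by omega), show ¬ i = m by omega]
      simp [hz i le_rfl]

theorem map_bitProd {H : Type*} [Group H] (φ : G →* H) (f : ℕ → G) (v : ℕ) :
    ∀ n, φ (bitProd f n v) = bitProd (fun i => φ (f i)) n v
  | 0 => map_one φ
  | n + 1 => by
    rw [bitProd, bitProd, map_mul, map_bitProd φ f v n]
    cases v.testBit n <;> simp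

theorem bitProd_congr {f g : ℕ → G} (v : ℕ) :
    ∀ n, (∀ i < n, f i = g i) → bitProd f n v = bitProd g n v
  | 0, _ => rfl
  | n + 1, h => by
    rw [bitProd, bitProd, bitProd_congr v n fun i hi => h i (by omega), h n (by omega)]

/-- A map turning sums into products turns `bitXor` into `bitProd`. -/
theorem bitProd_eq_of_hom (p : ℕ → G) (h0 : p 0 = 1) (hx : ∀ a b, p (a ^^^ b) = p a * p b)
    (f : ℕ → ℕ) (v : ℕ) : ∀ n, bitProd (fun i => p (f i)) n v = p (bitXor f n v)
  | 0 => h0.symm
  | n + 1 => by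
    rw [bitProd, bitXor_succ, hx, bitProd_eq_of_hom p h0 hx f v n]
    cases v.testBit n <;> simp [h0]

end Group

/-- The vector of a list of indices. -/
def bitsOf (l : List ℕ) : ℕ := l.foldr (fun i r => 2 ^ i ^^^ r) 0

/-- A linear map given by the images of the basis. -/
def actT (T : List ℕ) (v : ℕ) : ℕ := bitXor (fun i => T.getD i 0) 11 v

/-- The conjugation by `x`. -/
def tabX : List ℕ := CfsgLib.JankoFour.conjX.map bitsOf

/-- The conjugation by `y`. -/
def tabY : List ℕ := CfsgLib.JankoFour.conjY.map bitsOf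

/-- The action of a letter from the right. -/
def rA : ℕ → ℕ → ℕ
  | 0, v => actT tabX v
  | 1, v => actT tabY (actT tabY v)
  | _ + 2, v => actT tabY v

/-- The action of a word from the right. -/
def rW : List ℕ → ℕ → ℕ
  | [], v => v
  | c :: w, v => rW w (rA c v)

theorem rW_append : ∀ (a b : List ℕ) (v : ℕ), rW (a ++ b) v = rW b (rW a v)
  | [], _, _ => rfl
  | _ :: a, b, v => rW_append a b _

theorem rA_xor : ∀ (c u v : ℕ), rA c (u ^^^ v) = rA c u ^^^ rA c v
  | 0, u, v => by simp only [rA, actT, bitXor_xor]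
  | 1, u, v => by simp only [rA, actT, bitXor_xor]
  | _ + 2, u, v => by simp only [rA, actT, bitXor_xor]

theorem rW_xor : ∀ (w : List ℕ) (u v : ℕ), rW w (u ^^^ v) = rW w u ^^^ rW w v
  | [], _, _ => rfl
  | c :: w, u, v => by rw [rW, rA_xor, rW_xor w]; rfl

theorem rW_zero (w : List ℕ) : rW w 0 = 0 := by
  have h := rW_xor w 0 0
  rwa [Nat.xor_self, Nat.xor_self] at h

theorem tab_lt : ∀ i < 11, tabX.getD i 0 < 2 ^ 11 ∧ tabY.getD i 0 < 2 ^ 11 := by decide +kernel

theorem rA_lt : ∀ (c v : ℕ), rA c v < 2 ^ 11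
  | 0, _ => bitXor_lt _ _ fun i hi => (tab_lt i hi).1
  | 1, _ => bitXor_lt _ _ fun i hi => (tab_lt i hi).2
  | _ + 2, _ => bitXor_lt _ _ fun i hi => (tab_lt i hi).2

theorem rW_lt : ∀ (w : List ℕ) {v : ℕ}, v < 2 ^ 11 → rW w v < 2 ^ 11
  | [], _, h => h
  | c :: w, _, _ => rW_lt w (rA_lt c _)

theorem rW_bitXor (w : List ℕ) (f : ℕ → ℕ) (v : ℕ) :
    ∀ n, rW w (bitXor f n v) = bitXor (fun i => rW w (f i)) n v
  | 0 => rW_zero w
  | n + 1 => by
    rw [bitXor_succ, bitXor_succ, rW_xor, rW_bitXor w f v n]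
    cases v.testBit n <;> simp [rW_zero]

theorem bitXor_self : ∀ {v : ℕ}, v < 2 ^ 11 → bitXor (fun i => 2 ^ i) 11 v = v := by decide +kernel

end CfsgLib.JFourAmalgam.NModel
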