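import Cfsg.Agent.JFourAmalgam.Defs
import Cfsg.Agent.JFourAmalgam.ModelNBits

/-!
`HJ` is the product of `⟨x, y⟩` and the elementary abelian subgroup `vJ`, whose elements are the products
`phi v` indexed by the numbers `v < 2 ^ 11`; conjugation by a word is the linear map `rW`.
-/

set_option autoImplicit false
set_option linter.style.haveILetI false

namespace CfsgLib.JFourAmalgam.NModel

open CfsgLib.JankoFour CfsgLib.JankoFourRep
open scoped Pointwise

local notation "J" => Cfsg.Spor.J4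

theorem Facts.finite (F : Facts) : Finite J :=
  Nat.finite_of_card_ne_zero (by rw [F.card]; norm_num)

theorem qJ_mul_self (F : Facts) {i : ℕ} (h : i < 11) : qJ i * qJ i = 1 := by
  refine F.inj ?_
  rw [map_mul, map_one]
  exact lowerWitness.q_sq ⟨i, h⟩

theorem qJ_comm (F : Facts) {i j : ℕ} (hi : i < 11) (hj : j < 11) : Commute (qJ i) (qJ j) := by
  have key : ∀ i j : Fin 11, j < i → Commute (qJ j.val) (qJ i.val) := fun i j h => by
    refine F.inj ?_
    rw [map_mul, map_mul]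
    exact (lowerWitness.q_comm i j h).eq
  rcases lt_trichotomy i j with h | rfl | h
  · exact key ⟨j, hj⟩ ⟨i, hi⟩ h
  · exact Commute.refl _
  · exact (key ⟨i, hi⟩ ⟨j, hj⟩ h).symm

/-- The element of a vector. -/
def phi (v : ℕ) : J := bitProd qJ 11 v

theorem phi_zero : phi 0 = 1 := bitProd_zero _ _

theorem phi_xor (F : Facts) (u v : ℕ) : phi (u ^^^ v) = phi u * phi v :=
  bitProd_xor _ _ _ _ (fun _ hi _ hj => qJ_comm F hi hj) fun _ hi => qJ_mul_self F hi

theorem phi_mul_self (F : Facts) (v : ℕ) : phi v * phi v = 1 := by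
  rw [← phi_xor F, Nat.xor_self, phi_zero]

theorem phi_inv (F : Facts) (v : ℕ) : (phi v)⁻¹ = phi v :=
  inv_eq_of_mul_eq_one_right (phi_mul_self F v)

theorem phi_comm (F : Facts) (u v : ℕ) : phi u * phi v = phi v * phi u := by
  rw [← phi_xor F, ← phi_xor F, Nat.xor_comm]

theorem phi_two_pow {i : ℕ} (h : i < 11) : phi (2 ^ i) = qJ i := bitProd_two_pow _ h

theorem qList_eq (F : Facts) : ∀ l : List ℕ, (∀ i ∈ l, i < 11) → qList l = phi (bitsOf l)
  | [], _ => phi_zero.symm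
  | i :: l, h => by
    have ih := qList_eq F l fun j hj => h j (List.mem_cons_of_mem _ hj)
    rw [qList] at ih ⊢
    rw [List.map_cons, List.prod_cons, ih, show bitsOf (i :: l) = 2 ^ i ^^^ bitsOf l from rfl,
      phi_xor F, phi_two_pow (h i List.mem_cons_self)]

theorem phi_mem (v : ℕ) : phi v ∈ vJ :=
  bitProd_mem _ _ _ fun i hi => Subgroup.subset_closure ⟨i, hi, rfl⟩

theorem exists_phi (F : Facts) {a : J} (ha : a ∈ vJ) : ∃ v, v < 2 ^ 11 ∧ phi v = a := by
  induction ha using Subgroup.closure_induction with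
  | mem b hb =>
    obtain ⟨i, hi, rfl⟩ := hb
    exact ⟨2 ^ i, Nat.pow_lt_pow_right (by norm_num) hi, phi_two_pow hi⟩
  | one => exact ⟨0, by norm_num, phi_zero⟩
  | mul b c _ _ hb hc =>
    obtain ⟨u, hu, rfl⟩ := hb
    obtain ⟨v, hv, rfl⟩ := hc
    exact ⟨u ^^^ v, xor_lt hu hv, phi_xor F u v⟩
  | inv b _ hb =>
    obtain ⟨u, hu, rfl⟩ := hb
    exact ⟨u, hu, (phi_inv F u).symm⟩

theorem card_vJ (F : Facts) : Nat.card vJ = 2 ^ 11 := by
  let q : Fin 11 → GL (Fin 112) (ZMod 2) := fun i => rep (qJ i.val)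
  have hv : vJ.map rep = Subgroup.closure (Set.range q) := by
    rw [vJ, MonoidHom.map_closure]
    congr 1
    ext g
    constructor
    · rintro ⟨_, ⟨i, hi, rfl⟩, rfl⟩; exact ⟨⟨i, hi⟩, rfl⟩
    · rintro ⟨i, rfl⟩; exact ⟨_, ⟨i.val, i.isLt, rfl⟩, rfl⟩
  rw [← Subgroup.card_map_of_injective (K := vJ) (f := rep) F.inj, hv]
  exact JankoFour.card_closure_involutions q lowerWitness.q_sq lowerWitness.q_comm lowerWitness.sep
    lowerWitness.sep_fix lowerWitness.sep_move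

theorem phi_inj (F : Facts) {u v : ℕ} (hu : u < 2 ^ 11) (hv : v < 2 ^ 11) (h : phi u = phi v) :
    u = v := by
  let f : Fin (2 ^ 11) → vJ := fun i => ⟨phi i.val, phi_mem _⟩
  have hf : Function.Surjective f := fun a => by
    obtain ⟨w, hw, e⟩ := exists_phi F a.2
    exact ⟨⟨w, hw⟩, Subtype.ext e⟩
  haveI := Facts.finite F
  have hb := hf.bijective_of_nat_card_le (by rw [Nat.card_fin, card_vJ F])
  exact Fin.val_eq_of_eq (@hb.1 ⟨u, hu⟩ ⟨v, hv⟩ (Subtype.ext h))

/-- Left conjugation by a letter. -/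
theorem conj_tab (F : Facts) {g : J} {T : List ℕ}
    (h : ∀ i < 11, g * qJ i * g⁻¹ = phi (T.getD i 0)) (v : ℕ) :
    g * phi v * g⁻¹ = phi (actT T v) := by
  show (MulAut.conj g).toMonoidHom (phi v) = _
  rw [phi, map_bitProd]
  refine Eq.trans (bitProd_congr (g := fun i => phi (T.getD i 0)) v 11 fun i hi => h i hi) ?_
  rw [bitProd_eq_of_hom phi phi_zero (phi_xor F)]
  rfl

theorem conj_qJ (F : Facts) {g : J} {c : ℕ} (hc : tabJ c = g) (D : List (List ℕ)) {i : ℕ} (hi : i < 11)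
    (hD : D.length = 11) (hl : ∀ a ∈ D.getD i [], a < 11)
    (he : ([c, i + 4], qLetters (D.getD i []) ++ [c]) ∈ eqChecks) :
    g * qJ i * g⁻¹ = phi ((D.map bitsOf).getD i 0) := by
  have e := F.inj (rep_eq he)
  have hq : ((qLetters (D.getD i [])).map tabJ).prod = qList (D.getD i []) := by
    rw [qLetters, List.map_map]; rfl
  rw [List.map_append, List.prod_append, hq, qList_eq F _ hl] at e
  simp only [List.map_cons, List.map_nil, List.prod_cons, List.prod_nil, mul_one, hc] at e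
  rw [List.getD_eq_getElem _ _ (by rw [List.length_map, hD]; exact hi), List.getElem_map,
    ← List.getD_eq_getElem D [] (by rw [hD]; exact hi)]
  exact mul_inv_eq_iff_eq_mul.2 e

theorem conj_x (F : Facts) (v : ℕ) : xJ * phi v * xJ⁻¹ = phi (actT tabX v) := by
  refine conj_tab F (fun i hi => conj_qJ F tabJ_zero conjX hi (by rfl) ?_ ?_) v
  · exact (by decide +kernel : ∀ i : Fin 11, ∀ a ∈ conjX.getD i.val [], a < 11) ⟨i, hi⟩
  · simp only [eqChecks, List.mem_append, List.mem_map, List.mem_range]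
    exact Or.inl (Or.inl (Or.inr ⟨i, hi, rfl⟩))

theorem conj_y (F : Facts) (v : ℕ) : yJ * phi v * yJ⁻¹ = phi (actT tabY v) := by
  refine conj_tab F (fun i hi => conj_qJ F tabJ_one conjY hi (by rfl) ?_ ?_) v
  · exact (by decide +kernel : ∀ i : Fin 11, ∀ a ∈ conjY.getD i.val [], a < 11) ⟨i, hi⟩
  · simp only [eqChecks, List.mem_append, List.mem_map, List.mem_range]
    exact Or.inl (Or.inr ⟨i, hi, rfl⟩)

theorem conj_rA (F : Facts) : ∀ (c v : ℕ), (HBound.lv c)⁻¹ * phi v * HBound.lv c = phi (rA c v)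
  | 0, v => by
    have hx : xJ⁻¹ = xJ := inv_eq_of_mul_eq_one_right (by rw [← pow_two]; exact xJ_sq)
    have h := conj_x F v
    rw [hx] at h
    show xJ⁻¹ * phi v * xJ = _
    rw [hx]; exact h
  | 1, v => by
    have y3 : yJ⁻¹ = yJ * yJ :=
      inv_eq_of_mul_eq_one_right (by rw [← pow_two, ← pow_succ']; exact yJ_cube)
    show yJ⁻¹ * phi v * yJ = phi (actT tabY (actT tabY v))
    rw [← conj_y F, ← conj_y F]
    calc yJ⁻¹ * phi v * yJ = yJ * yJ * phi v * (yJ * yJ)⁻¹ := by rw [← y3, inv_inv]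
      _ = _ := by group
  | n + 2, v => by
    show (yJ⁻¹)⁻¹ * phi v * yJ⁻¹ = phi (actT tabY v)
    rw [inv_inv]; exact conj_y F v

/-- Conjugation by a word is `rW`. -/
theorem conj_rW (F : Facts) : ∀ (w : List ℕ) (v : ℕ),
    (HBound.wv w)⁻¹ * phi v * HBound.wv w = phi (rW w v)
  | [], v => by simp [HBound.wv, rW]
  | c :: w, v => by
    have e : HBound.wv (c :: w) = HBound.lv c * HBound.wv w := by simp [HBound.wv]
    rw [rW, ← conj_rW F w, ← conj_rA F, e]
    group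

theorem conj_rW' (F : Facts) (w : List ℕ) (v : ℕ) :
    HBound.wv w * phi v * (HBound.wv w)⁻¹ = phi (rW (HBound.winv w) v) := by
  rw [← conj_rW F, HBound.wv_winv, inv_inv]

theorem phi_mul_wv (F : Facts) (w : List ℕ) (v : ℕ) :
    phi v * HBound.wv w = HBound.wv w * phi (rW w v) := by
  rw [← conj_rW F]; group

theorem exists_word {m : J} (hm : m ∈ mSub) : ∃ w, HBound.wv w = m := by
  induction hm using Subgroup.closure_induction with
  | mem b hb =>
    rcases hb with rfl | rfl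
    · exact ⟨[0], by simp [HBound.wv, HBound.lv]⟩
    · exact ⟨[1], by simp [HBound.wv, HBound.lv]⟩
  | one => exact ⟨[], HBound.wv_nil⟩
  | mul b c _ _ hb hc =>
    obtain ⟨u, rfl⟩ := hb
    obtain ⟨v, rfl⟩ := hc
    exact ⟨u ++ v, HBound.wv_append u v⟩
  | inv b _ hb =>
    obtain ⟨u, rfl⟩ := hb
    exact ⟨HBound.winv u, HBound.wv_winv u⟩

theorem sJ_eq_qJ : HBound.sJ = qJ 0 := by
  have hx : xJ⁻¹ = xJ := inv_eq_of_mul_eq_one_right (by rw [← pow_two]; exact xJ_sq)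
  rw [qJ, tabJ, show lowWord (0 + 4) =
    [1, 0, 1, 0, 2, 0, 2, 0, 2, 0, 2, 3, 1, 0, 1, 0, 1, 0, 1, 0, 2, 0, 1, 0, 1, 0, 2, 0, 2, 0, 2, 0, 2, 3, 1, 0, 1, 0, 1, 0, 1, 0, 2, 0, 1, 0, 1, 0, 2, 0, 2, 0, 2, 0, 2, 3, 1, 0, 1, 0, 1, 0, 1, 0, 2, 0] by decide +kernel]
  simp [letL, HBound.sJ, HBound.sW, HBound.wv, HBound.lv, pow_succ, mul_assoc, hx]

theorem qGroup_le_vJ (F : Facts) : HBound.qGroup ≤ vJ := by
  have key : ∀ w, HBound.sig w ∈ vJ := fun w => by
    rw [HBound.sig, sJ_eq_qJ, ← phi_two_pow (by norm_num : 0 < 11), conj_rW F]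
    exact phi_mem _
  rw [HBound.qGroup, Subgroup.closure_le]
  intro a ha
  simp only [HBound.qGens, Set.mem_ofPred_eq, List.mem_cons, List.not_mem_nil, or_false] at ha
  rcases ha with rfl | rfl | rfl | rfl | rfl | rfl | rfl | rfl | rfl | rfl | rfl <;> exact key _

theorem qGroup_eq (F : Facts) : HBound.qGroup = vJ := by
  haveI := Facts.finite F
  refine Subgroup.eq_of_le_of_card_ge (qGroup_le_vJ F) ?_
  rw [card_vJ F]
  have h : Nat.card HJ ≤ Nat.card mSub * Nat.card HBound.qGroup := by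
    calc Nat.card HJ = (HJ : Set J).ncard := Nat.card_coe_set_eq _
      _ ≤ ((mSub : Set J) * (HBound.qGroup : Set J)).ncard :=
        Set.ncard_le_ncard (HBound.HJ_subset F.faithful) (Set.toFinite _)
      _ ≤ Nat.card (mSub : Set J) * Nat.card (HBound.qGroup : Set J) := by
        rw [← Nat.card_coe_set_eq]
        exact Set.natCard_mul_le
      _ = _ := rfl
  rw [F.cardH, F.cardM] at h
  omega

theorem HJ_le_normalizer (F : Facts) : HJ ≤ Subgroup.normalizer (vJ : Set J) :=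
  qGroup_eq F ▸ HBound.HJ_le_normalizer F.faithful

theorem mSub_le_HJ : mSub ≤ HJ :=
  Subgroup.closure_mono (by simp [Set.insert_subset_iff])

theorem vJ_le_HJ (F : Facts) : vJ ≤ HJ := qGroup_eq F ▸ HBound.qGroup_le_HJ

theorem HJ_subset (F : Facts) {h : J} (hh : h ∈ HJ) : ∃ v w, v < 2 ^ 11 ∧ h = phi v * HBound.wv w := by
  obtain ⟨m, hm, q, hq, rfl⟩ := HBound.HJ_subset F.faithful hh
  obtain ⟨w, rfl⟩ := exists_word hm
  obtain ⟨v, hv, rfl⟩ := exists_phi F (qGroup_le_vJ F hq)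
  refine ⟨rW (HBound.winv w) v, w, rW_lt _ hv, ?_⟩
  show HBound.wv w * phi v = _
  rw [← conj_rW' F]; group

theorem disjoint_mSub (F : Facts) : Disjoint vJ mSub := by
  haveI := Facts.finite F
  let f : mSub × vJ → HJ := fun p =>
    ⟨p.2.1 * p.1.1, mul_mem (vJ_le_HJ F p.2.2) (mSub_le_HJ p.1.2)⟩
  have hf : Function.Surjective f := fun h => by
    obtain ⟨v, w, -, e⟩ := HJ_subset F h.2
    exact ⟨(⟨_, HBound.wv_mem_mSub w⟩, ⟨_, phi_mem v⟩), Subtype.ext e.symm⟩
  have hb := hf.bijective_of_nat_card_le (by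
    rw [Nat.card_prod, card_vJ F, F.cardM, F.cardH]; norm_num)
  rw [Subgroup.disjoint_def]
  intro a hv hm
  have h := @hb.1 (⟨a, hm⟩, 1) (1, ⟨a, hv⟩) (Subtype.ext (by simp [f]))
  exact congrArg Subtype.val (Prod.mk.inj h).1

theorem split_eq (F : Facts) {u v : ℕ} {a b : J} (ha : a ∈ mSub) (hb : b ∈ mSub)
    (e : phi u * a = phi v * b) : phi u = phi v ∧ a = b := by
  have h : (phi v)⁻¹ * phi u = b * a⁻¹ := by
    rw [inv_mul_eq_iff_eq_mul, ← mul_assoc, ← e, mul_inv_cancel_right]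
  have h1 : (phi v)⁻¹ * phi u = 1 :=
    Subgroup.disjoint_def.1 (disjoint_mSub F) (mul_mem (inv_mem (phi_mem v)) (phi_mem u))
      (h ▸ mul_mem hb (inv_mem ha))
  have h2 : phi u = phi v := (inv_mul_eq_one.1 h1).symm
  exact ⟨h2, mul_left_cancel (h2 ▸ e)⟩

end NModel

open NModel

/-- The normal subgroup of `HJ` is elementary abelian of order `2 ^ 11`. -/
theorem vJ_elem (F : Facts) : Cfsg.IsElementaryAbelian 2 vJ ∧ Nat.card vJ = 2 ^ 11 := by
  refine ⟨⟨⟨⟨fun a b => Subtype.ext ?_⟩⟩, fun a ha => ?_⟩, card_vJ F⟩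
  · obtain ⟨u, -, hu⟩ := exists_phi F a.2
    obtain ⟨v, -, hv⟩ := exists_phi F b.2
    show (a : Cfsg.Spor.J4) * b = b * a
    rw [← hu, ← hv, phi_comm F]
  · obtain ⟨u, -, rfl⟩ := exists_phi F ha
    rw [pow_two, phi_mul_self F]

/-- `HJ` is the split product of `vJ` and `⟨x, y⟩`. -/
theorem HJ_eq (F : Facts) : JankoFour.HJ = vJ ⊔ JankoFour.mSub ∧ Disjoint vJ JankoFour.mSub ∧
    JankoFour.HJ ≤ Subgroup.normalizer (vJ : Set Cfsg.Spor.J4) := by
  refine ⟨le_antisymm (fun h hh => ?_) (sup_le (vJ_le_HJ F) mSub_le_HJ), disjoint_mSub F,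
    NModel.HJ_le_normalizer F⟩
  obtain ⟨v, w, -, rfl⟩ := NModel.HJ_subset F hh
  exact mul_mem (Subgroup.mem_sup_left (phi_mem v))
    (Subgroup.mem_sup_right (JankoFour.HBound.wv_mem_mSub w))

end CfsgLib.JFourAmalgam
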