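import Mathlib.Init

/-!
Generated data for the model of `HJ`: a chain for the centraliser of `zJ` in `⟨x, y⟩` on vectors, the
coordinates of conjugates in `oJ`, and a derivation on twenty-four points.
-/

set_option autoImplicit false

namespace CfsgLib.JFourAmalgam.NModel

/-- Base vectors and transversals as lists of indices of the generators. -/
def chainN : List (Nat × List (List Nat)) :=
  [(414, [[], [0], [2], [4], [0, 1], [0, 2], [0, 3], [0, 4], [2, 0], [2, 1], [2, 3], [2, 4], [4, 0], [4, 1], [4, 4],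
  [0, 1, 0], [0, 1, 3], [0, 1, 4], [0, 2, 4], [0, 3, 4], [0, 4, 2], [0, 4, 3], [0, 4, 4], [2, 0, 4], [2, 1, 3], [2,
  1, 4], [2, 3, 4], [2, 4, 0], [2, 4, 2], [2, 4, 3], [2, 4, 4], [4, 0, 1], [4, 1, 4], [4, 4, 3], [4, 4, 4], [0, 1,
  3, 4], [0, 1, 4, 2], [0, 1, 4, 3], [0, 1, 4, 4], [0, 3, 4, 3], [0, 3, 4, 4], [0, 4, 2, 3], [0, 4, 2, 4], [0, 4, 3,
  0], [0, 4, 3, 4], [0, 4, 4, 2], [0, 4, 4, 3], [2, 1, 3, 4], [2, 1, 4, 3], [2, 1, 4, 4], [2, 3, 4, 0], [2, 3, 4,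
  2], [2, 3, 4, 3], [2, 4, 0, 3], [2, 4, 2, 3], [2, 4, 2, 4], [2, 4, 4, 0], [2, 4, 4, 2], [2, 4, 4, 3], [2, 4, 4,
  4], [4, 1, 4, 3], [4, 4, 3, 2], [4, 4, 3, 4], [4, 4, 4, 3], [0, 1, 3, 4, 3], [0, 1, 4, 2, 3], [0, 1, 4, 2, 4], [0,
  1, 4, 4, 2], [0, 3, 4, 3, 4], [0, 4, 2, 4, 0], [0, 4, 2, 4, 2], [0, 4, 2, 4, 3], [0, 4, 3, 0, 4], [0, 4, 3, 4, 2],
  [0, 4, 3, 4, 4], [0, 4, 4, 2, 3], [2, 1, 3, 4, 2], [2, 1, 4, 4, 3], [2, 3, 4, 0, 2], [2, 3, 4, 2, 0], [2, 3, 4, 3,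
  2], [2, 4, 0, 3, 4], [2, 4, 2, 4, 3], [0, 1, 3, 4, 3, 4], [0, 1, 4, 2, 4, 3], [0, 3, 4, 3, 4, 0], [0, 3, 4, 3, 4,
  2], [0, 4, 2, 4, 2, 4], [0, 4, 2, 4, 3, 0], [0, 4, 3, 4, 4, 4]]), (1232, [[], [0, 3, 0, 3, 2], [2, 1, 4, 0, 4],
  [2, 4, 0, 1, 4]]), (3, [[], [1], [3], [1, 3], [4, 0, 1, 4, 3, 0], [4, 0, 2, 4, 3, 0], [4, 1, 0, 4, 3, 0], [4, 1,
  2, 4, 4, 4], [4, 2, 0, 4, 3, 0], [4, 2, 1, 4, 4, 4], [2, 4, 2, 1, 3, 4, 2], [3, 4, 0, 2, 4, 3, 0]]), (124, [[],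
  [4, 4, 2, 4, 4]]), (1, [[], [2, 0, 3, 0, 2, 3], [1, 4, 3, 4, 2, 4, 1, 4], [2, 1, 3, 2, 1, 3, 2, 3], [4, 1, 3, 4,
  1, 2, 4, 4], [4, 3, 4, 2, 4, 1, 4, 1], [4, 4, 0, 1, 0, 1, 4, 4], [1, 4, 4, 2, 4, 0, 1, 0, 4]]), (4, [[], [0, 1, 0,
  4, 3, 4, 4, 4]])]

/-- Coordinates of the conjugates by `t` of the thirteen generators. -/
def tConj : List (Nat × Nat) :=
  [(1, 0), (2, 5), (4, 39), (8, 17), (17, 54), (33, 16), (65, 16), (0, 1), (0, 2), (0, 4), (0, 8), (0, 16), (0, 32)]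

/-- Coordinates of the conjugates of the seven vectors by the generators. -/
def gConjV : List (List Nat) :=
  [[1, 55, 103, 76, 37, 118, 35], [1, 3, 4, 8, 16, 32, 64], [1, 2, 66, 61, 36, 82, 6], [1, 31, 120, 21, 113, 93,
  61], [1, 57, 13, 32, 43, 8, 113]]

/-- Coordinates of the conjugates of the six words by the generators. -/
def gConjE : List (List Nat) :=
  [[3, 2, 8, 4, 38, 26], [1, 2, 4, 8, 16, 32], [3, 2, 11, 5, 16, 47], [1, 53, 4, 43, 16, 23], [62, 35, 26, 48, 56,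
  24]]

/-- Coordinates of the commutators of the basis with the six words. -/
def vConjE : List (List Nat) :=
  [[76, 52, 51, 12, 71, 51], [77, 53, 50, 12, 70, 50], [49, 78, 79, 105, 39, 72], [44, 113, 78, 63, 59, 23], [60,
  52, 43, 101, 52, 109], [44, 112, 79, 62, 59, 22], [13, 123, 101, 13, 18, 36], [80, 10, 51, 90, 91, 108], [60, 53,
  43, 100, 53, 109], [112, 0, 24, 105, 114, 94], [97, 68, 125, 50, 125, 36]]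

/-- The commutators of the seven vectors with the six words. -/
def pairTab : List (List Nat) :=
  [[0, 0, 0, 0, 0, 0], [621, 0, 621, 0, 621, 0], [0, 621, 0, 621, 621, 621], [0, 0, 0, 621, 0, 621], [0, 0, 0, 621,
  621, 621], [0, 621, 621, 621, 0, 621], [0, 621, 621, 0, 0, 621]]

/-- Coordinates of the commutators of the generators with the element of order three. -/
def threeComm : List Nat :=
  [33, 50, 41, 16, 54]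

/-- Coordinates of the commutators of the basis with the element of order three. -/
def threeCommV : List Nat :=
  [26, 98, 34, 32, 90, 48, 114, 76, 10, 90, 4]

/-- Factors of odd order of the generators, with their orders. -/
def oddParts : List (List (List Nat × Nat)) :=
  [[], [([2, 0, 2, 0, 2, 0, 1, 0, 1, 0, 1, 0, 1, 0, 1, 0, 1, 0, 2, 0, 1, 0, 2, 0, 1, 0, 1, 0], 15), ([0, 1, 0, 1, 0,
  1, 0, 2, 0, 1, 0, 2, 0, 1, 0, 1, 0, 0, 1, 0, 1, 0, 1, 0, 2, 0, 1, 0, 2, 0, 1, 0, 1, 0, 0, 1, 0, 1, 0, 1, 0, 2, 0,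
  1, 0, 2, 0, 1, 0, 1, 0, 2, 0, 2, 0, 2, 0, 1, 0, 1, 0, 1, 2, 0, 1, 0, 2, 0, 1, 0, 2, 0, 1], 15)], [([1, 0, 2, 0, 1,
  0, 1, 0, 1, 0, 2, 0, 1, 0, 2, 0, 1, 0, 1, 0, 1, 0, 2, 0, 1, 0, 1, 0, 1, 0, 2, 0, 1, 0, 2, 0, 1, 0, 1, 0], 3), ([1,
  0, 2, 0, 1, 0, 1, 0, 1, 0, 2, 0, 1, 0, 2, 0, 1, 0, 1, 0, 1, 0, 2, 0, 1, 0, 1, 0, 1, 0, 2, 0, 1, 0, 2, 0, 1, 0, 1,
  0, 1, 0, 2, 0, 1, 0, 1, 0, 1, 0, 2, 0, 1, 0, 2, 0, 1, 0, 1, 0, 1, 0, 2, 0, 1, 0, 1, 0, 1, 0, 2, 0, 1, 0, 2, 0, 1,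
  0, 1, 0, 2, 0, 2, 0, 2, 0, 1, 0, 1, 0, 1], 15)], [([0, 1, 0, 1, 0, 1, 0, 2, 0, 1, 0, 2, 0, 1, 0, 1, 0, 1, 0, 2, 0,
  1, 0, 1, 0, 1, 0, 2, 0, 1, 0, 2, 0, 1, 0, 1, 0, 1, 0, 2], 3), ([1, 0, 2, 0, 1, 0, 1, 0, 1, 0, 2, 0, 1, 0, 2, 0, 1,
  0, 1, 0, 0, 1, 0, 1, 0, 1, 0, 2, 0, 1, 0, 2, 0, 1, 0, 1, 0, 0, 1, 0, 1, 0, 1, 0, 2, 0, 1, 0, 2, 0, 1, 0, 1, 0, 1,
  0, 2, 0, 1, 0, 1, 0, 1, 0, 2, 0, 1, 0, 2, 0, 1, 0, 1, 0, 0, 1, 0, 1, 0, 1, 0, 2, 0, 1, 0, 2, 0, 1, 0, 1, 0, 0, 1,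
  0, 1, 0, 1, 0, 2, 0, 1, 0, 2, 0, 1, 0, 1, 0, 0, 2, 0, 1, 0, 2, 0, 1, 0, 2, 0, 1, 0], 15)], [([1, 0, 2, 0, 1, 0, 1,
  0, 1, 0, 2, 0, 1, 0, 2, 0, 1, 0, 1, 0, 0, 2, 0, 1, 0, 2, 0, 1, 0, 2, 0, 1, 0, 1, 0, 2], 15), ([1, 0, 2, 0, 2, 0,
  1, 0, 2, 0, 1, 0, 2, 0, 1, 0, 0, 1, 0, 1, 0, 1, 0, 2, 0, 1, 0, 2, 0, 1, 0, 1, 0, 0, 1, 0, 1, 0, 1, 0, 2, 0, 1, 0,
  2, 0, 1, 0, 1, 0, 0, 1, 0, 1, 0, 1, 0, 2, 0, 1, 0, 2, 0, 1, 0, 1, 0, 1, 0, 2, 0, 1, 0, 1, 0, 1, 0, 2, 0, 1, 0, 2,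
  0, 1, 0, 1, 0], 15)]]

/-- Commutators spanning the normal subgroup. -/
def spanGens : List (Nat × Nat) :=
  [(0, 0), (0, 1), (0, 2), (0, 3), (0, 4), (1, 0), (1, 1), (1, 2), (1, 3), (1, 4), (2, 0)]

/-- Coordinates of the basis in the commutators. -/
def spanCoef : List Nat :=
  [211, 645, 1561, 1031, 210, 1650, 1177, 996, 677, 100, 1538]

/-- The vector of the pair of the first point and each point. -/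
def duadTab : List Nat :=
  [0, 821, 865, 1088, 835, 1984, 1565, 1221, 602, 293, 1857, 529, 1235, 220, 73, 1414, 1625, 1842, 99, 1425, 1817,
  946, 317, 1199]

end CfsgLib.JFourAmalgam.NModel
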