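import Cfsg.Agent.JFourAmalgam.Defs
import Cfsg.Agent.JFourAmalgam.ModelNBits
import Cfsg.Agent.JFourAmalgam.ModelNData
import Cfsg.Agent.CosetEnum.Engine

/-!
Kernel checks on vectors and permutations for the model of `HJ`.
-/

set_option autoImplicit false
set_option maxRecDepth 100000

namespace CfsgLib.JFourAmalgam.NModel

open CfsgLib.JankoFour.HBound

/-- The vector of `zJ`. -/
abbrev zV : ℕ := 621

/-- The vector of `zJ'`. -/
abbrev zV' : ℕ := 414

/-- A coordinate in the seven vectors. -/
def oVec (a : ℕ) : ℕ := bitXor (fun j => bitsOf (oLists.getD j [])) 7 a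

/-- The word of an element of the span of the six words. -/
def eWord (b : ℕ) : List ℕ :=
  (List.range 6).flatMap fun j => bif b.testBit j then oWords.getD j [] else []

/-- The commutator of a vector with one of the six words. -/
def dK (k v : ℕ) : ℕ := v ^^^ rW (oWords.getD k []) v

/-- The commutator of one of the seven vectors with one of the six words, tabulated. -/
def pairD (j k : ℕ) : ℕ := (pairTab.getD j []).getD k 0

theorem z_checks : bitsOf [0, 2, 3, 5, 6, 9] = zV ∧ bitsOf [1, 2, 3, 4, 7, 8] = zV' ∧
    rA 0 zV = zV' ∧ oVec 1 = zV ∧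
    ((pWords ++ oWords ++ [threeWord]).all fun w => Nat.beq (rW w zV) zV) = true ∧
    ((oddParts.flatten).all fun e => Nat.beq (rW e.1 zV) zV) = true := by
  decide +kernel

/-! ### The orbit of `zV` -/

/-- One sweep of the orbit computation. -/
def stepM : List ℕ → ℕ → ℕ
  | [], S => S
  | v :: l, S => CosetEnum.force
      (bif S.testBit v then S ||| 2 ^ rA 0 v ||| 2 ^ rA 1 v else S) fun T => stepM l T

/-- Several sweeps. -/
def iterM : ℕ → ℕ → ℕ
  | 0, S => S
  | n + 1, S => CosetEnum.force (stepM (List.range 2048) S) fun T => iterM n T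

/-- The orbit as a mask. -/
def orbMask : ℕ := iterM 40 (2 ^ zV)

theorem orbit_count : ((List.range 2048).filter fun v => orbMask.testBit v).length = 1771 := by
  decide +kernel

/-! ### The chain -/

/-- No entry is repeated. -/
def nodupB : List ℕ → Bool
  | [] => true
  | a :: l => (l.all fun b => !(Nat.beq a b)) && nodupB l

theorem nodupB_spec : ∀ l : List ℕ, nodupB l = true → l.Nodup
  | [], _ => List.nodup_nil
  | a :: l, h => by
    simp only [nodupB, Bool.and_eq_true, List.all_eq_true] at h
    refine List.nodup_cons.2 ⟨fun ha => ?_, nodupB_spec l h.2⟩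
    have := h.1 a ha
    simp at this

/-- The transversals of a chain are right. -/
def okC : List (ℕ × List (List ℕ)) → Bool
  | [] => true
  | (b, L) :: D => Nat.blt b 2048 && (nodupB (L.map fun h => rW (expS pWords h) b) &&
      ((D.all fun e => e.2.all fun h => Nat.beq (rW (expS pWords h) b) b) && okC D))

theorem chain_checks : okC chainN = true ∧ (chainN.map fun e => e.2.length).prod = 138240 ∧
    ((chainN.drop 1).map fun e => e.2.length).prod = 1536 ∧
    ((chainN.take 1).map fun e => (e.1, e.2.length)) = [(zV', 90)] := by
  decide +kernel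

/-! ### The extraspecial subgroup -/

theorem pair_checks : ((List.range 7).all fun j => (List.range 6).all fun k =>
      Nat.beq (dK k (oVec (2 ^ j))) (pairD j k) &&
        (Nat.beq (pairD j k) 0 || Nat.beq (pairD j k) zV)) = true ∧
    ((List.range 11).all fun i => (List.range 6).all fun k =>
      Nat.beq (dK k (2 ^ i)) (oVec ((vConjE.getD i []).getD k 0)) &&
        Nat.blt ((vConjE.getD i []).getD k 0) 128) = true := by
  decide +kernel

theorem oVec_checks : nodupB ((List.range 128).map oVec) = true ∧
    ((List.range 128).all fun a => Nat.beq (oVec a) 0 || (Nat.beq (oVec a) zV ||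
      (List.range 6).any fun k => !(Nat.beq (bitXor (fun j => pairD j k) 7 a) 0))) = true ∧
    ((List.range 64).all fun b => Nat.beq b 0 ||
      (List.range 7).any fun j => !(Nat.beq (bitXor (pairD j) 6 b) 0)) = true := by
  decide +kernel

theorem fix_checks : ((List.range 2048).all fun v => Nat.beq v 0 || (Nat.beq v zV ||
    (List.range 6).any fun k => !(Nat.beq (bitXor
      (fun n => oVec ((vConjE.getD n []).getD k 0)) 11 v) 0))) = true := by
  decide +kernel

theorem e_checks : ((List.range 6).all fun j => (List.range 6).all fun k =>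
      samePerm (oWords.getD j [] ++ oWords.getD k []) (oWords.getD k [] ++ oWords.getD j []) &&
        samePerm (oWords.getD j [] ++ oWords.getD j []) []) = true := by
  decide +kernel

theorem normal_checks : ((List.range 5).all fun g =>
    ((List.range 7).all fun j =>
      Nat.beq (rW (winv (pWords.getD g [])) (oVec (2 ^ j))) (oVec ((gConjV.getD g []).getD j 0)) &&
        Nat.blt ((gConjV.getD g []).getD j 0) 128) &&
    (List.range 6).all fun k =>
      samePerm (pWords.getD g [] ++ oWords.getD k [] ++ winv (pWords.getD g []))
        (eWord ((gConjE.getD g []).getD k 0)) &&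
      Nat.blt ((gConjE.getD g []).getD k 0) 64) = true := by
  decide +kernel

theorem tConj_lt : (tConj.all fun e => Nat.blt e.1 128 && Nat.blt e.2 64) = true := by decide +kernel

/-! ### The element of order three -/

theorem three_checks : ((List.range 11).all fun i =>
      Nat.beq (2 ^ i ^^^ rW (winv threeWord) (2 ^ i)) (oVec (threeCommV.getD i 0)) &&
        Nat.blt (threeCommV.getD i 0) 128) = true ∧
    ((List.range 5).all fun g =>
      samePerm (pWords.getD g [] ++ threeWord ++ winv (pWords.getD g []) ++
          (bif Nat.beq g 0 then threeWord else winv threeWord)) (eWord (threeComm.getD g 0)) &&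
        Nat.blt (threeComm.getD g 0) 64) = true ∧
    ((List.range 64).all fun b => (List.range 11).any fun i =>
      !(Nat.beq (rW (threeWord ++ threeWord) (2 ^ i)) (rW (eWord b) (2 ^ i)))) = true := by
  decide +kernel

theorem odd_checks : ((List.range 5).all fun g => Nat.beq g 0 ||
      samePerm (pWords.getD g []) ((oddParts.getD g []).flatMap Prod.fst)) = true ∧
    ((oddParts.flatten).all fun e =>
      Nat.beq (e.2 % 2) 1 && samePerm (List.replicate e.2 e.1).flatten []) = true ∧
    ((List.range 11).all fun i => Nat.beq (bitXor (fun n => 2 ^ (spanGens.getD n (0, 0)).1 ^^^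
        rW (winv (pWords.getD (spanGens.getD n (0, 0)).2 [])) (2 ^ (spanGens.getD n (0, 0)).1)) 11
          (spanCoef.getD i 0)) (2 ^ i)) = true ∧
    ((List.range 11).all fun n => Nat.blt (spanGens.getD n (0, 0)).1 11 &&
      Nat.blt (spanGens.getD n (0, 0)).2 5) = true := by
  decide +kernel

/-! ### The derivation -/

/-- The vector of the pair of the first point and a point. -/
def duad (i : ℕ) : ℕ := duadTab.getD i 0

theorem duad_checks : duad 0 = 0 ∧ (∀ i < 24, duad i < 2 ^ 11) ∧
    (∀ c < 3, ∀ i < 24, pt1 c i < 24 ∧ pt1 (linv c) (pt1 c i) = i ∧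
      rA c (duad i) = duad (pt1 c 0) ^^^ duad (pt1 c i)) ∧
    duad (pt1 0 0) = bitsOf [0, 1, 4, 6, 7, 10] ∧ duad (pt1 1 0) = bitsOf [1, 3, 4, 6, 9] := by
  decide +kernel

theorem duad_separates : ((List.range 24).all fun a => (List.range 24).all fun a' => Nat.beq a a' ||
    (List.range 24).any fun b => (List.range 24).all fun b' =>
      !(Nat.beq (duad a ^^^ duad b) (duad a' ^^^ duad b'))) = true := by
  decide +kernel

end CfsgLib.JFourAmalgam.NModel
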