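import Cfsg.Agent.JFourAmalgam.ModelNP
import Cfsg.Agent.JFourAmalgam.Coords
import Mathlib.GroupTheory.Sylow

/-!
Facts on `pJ` and `dJ`: odd indices and homomorphisms of `pJ` to a group of order two.
-/

set_option autoImplicit false
set_option linter.style.haveILetI false
set_option maxRecDepth 10000

namespace CfsgLib.JFourAmalgam

open CfsgLib.JankoFour NModel

local notation "J" => Cfsg.Spor.J4
local notation "w3" => HBound.wv threeWord

theorem dJ_le_centralizer (A : Cert.ActFacts) : dJ ≤ Subgroup.centralizer ({zJ} : Set J) :=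
  sup_le inf_le_right (Subgroup.zpowers_le.2 (Subgroup.mem_centralizer_singleton_iff.2 A.t_comm))

theorem odd_index_pJ (F : Facts) : Odd ((pJ.subgroupOf dJ).index) := by
  haveI := Facts.finite F
  have h : (pJ.subgroupOf dJ).index * Nat.card pJ ∣ Nat.card J := by
    have e : Nat.card (pJ.subgroupOf dJ) = Nat.card pJ :=
      Nat.card_congr (Subgroup.subgroupOfEquivOfLe (le_sup_left : pJ ≤ dJ)).toEquiv
    rw [← e, Subgroup.index_mul_card]
    exact Subgroup.card_subgroup_dvd_card dJ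
  rw [card_pJ F, F.card, show 86775571046077562880 = 306502345919 * 283115520 by norm_num] at h
  exact Odd.of_dvd_nat (⟨153251172959, by norm_num⟩ : Odd 306502345919)
    (Nat.dvd_of_mul_dvd_mul_right (by norm_num) h)

namespace NModel

/-- A `2`-subgroup has order at most `2 ^ 21`. -/
theorem card_two_le (F : Facts) {S : Subgroup J} (hS : IsPGroup 2 S) : Nat.card S ≤ 2 ^ 21 := by
  haveI := Facts.finite F
  haveI : Fact (Nat.Prime 2) := ⟨Nat.prime_two⟩
  obtain ⟨k, hk⟩ := IsPGroup.iff_card.1 hS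
  have hd : 2 ^ k ∣ Nat.card J := hk ▸ Subgroup.card_subgroup_dvd_card S
  rw [hk]
  refine Nat.pow_le_pow_right (by norm_num) ?_
  by_contra hlt
  have h22 : 2 ^ 22 ∣ Nat.card J := (Nat.pow_dvd_pow 2 (by omega)).trans hd
  rw [F.card] at h22
  norm_num at h22

/-- A subgroup of order `2 ^ 21` contains the `2`-subgroups which it normalises. -/
theorem le_of_normalizes (F : Facts) {R H : Subgroup J} (hR : Nat.card R = 2 ^ 21) (hH : IsPGroup 2 H)
    (hn : R ≤ Subgroup.normalizer (H : Set J)) : H ≤ R := by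
  haveI := Facts.finite F
  have h := card_two_le F ((IsPGroup.of_card hR).to_sup_of_normal_right' hH hn)
  have e : R = R ⊔ H := Subgroup.eq_of_le_of_card_ge le_sup_left (by rw [hR]; exact h)
  exact e ▸ le_sup_right

theorem dK_xor' (k u v : ℕ) : dK k (u ^^^ v) = dK k u ^^^ dK k v := by
  rw [dK, dK, dK, rW_xor]
  simp [Nat.xor_assoc, Nat.xor_left_comm]

theorem eq_of_fix {v : ℕ} (hv : v < 2 ^ 11) (h : ∀ k < 6, dK k v = 0) :
    v = 0 ∨ v = zV := by
  have hc := List.all_eq_true.1 fix_checks v (List.mem_range.2 hv)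
  simp only [Bool.or_eq_true] at hc
  rcases hc with hc | hc | hc
  · exact Or.inl (Nat.eq_of_beq_eq_true hc)
  · exact Or.inr (Nat.eq_of_beq_eq_true hc)
  · exfalso
    obtain ⟨k, hk, hne⟩ := List.any_eq_true.1 hc
    rw [List.mem_range] at hk
    have key : ∀ n ≤ 11, dK k (bitXor (fun i => 2 ^ i) n v) =
        bitXor (fun i => oVec ((vConjE.getD i []).getD k 0)) n v := by
      intro n
      induction n with
      | zero => intro _; show dK k 0 = 0; rw [dK, rW_zero, Nat.xor_self]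
      | succ n ih =>
        intro hn
        rw [bitXor_succ, bitXor_succ, dK_xor', ih (by omega)]
        cases v.testBit n
        · simp [dK, rW_zero]
        · have he := List.all_eq_true.1
            (List.all_eq_true.1 pair_checks.2 n (List.mem_range.2 (by omega))) k (List.mem_range.2 hk)
          rw [Bool.and_eq_true] at he
          simp only [cond_true, Nat.eq_of_beq_eq_true he.1]
    rw [← key 11 le_rfl, bitXor_self hv, h k hk] at hne
    simp at hne

theorem oWord_mem_oJ' {k : ℕ} (hk : k < 6) : HBound.wv (oWords.getD k []) ∈ oJ :=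
  Subgroup.subset_closure (Or.inr ⟨_, by
    rw [List.getD_eq_getElem _ _ (show k < oWords.length from hk)]; exact List.getElem_mem _, rfl⟩)

/-- The involutions centralising a subgroup of order `2 ^ 21` of `pJ` are `zJ`. -/
theorem eq_z_of_comm (F : Facts) (A : Cert.ActFacts) {R : Subgroup J} (hR : Nat.card R = 2 ^ 21)
    (hRp : R ≤ pJ) {c : J} (h2 : c * c = 1) (hc : ∀ r ∈ R, c * r = r * c) : c = 1 ∨ c = zJ := by
  haveI := Facts.finite F
  haveI : Fact (Nat.Prime 2) := ⟨Nat.prime_two⟩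
  have hC : IsPGroup 2 (Subgroup.zpowers c) := by
    obtain ⟨i, -, hi⟩ := (Nat.dvd_prime_pow Nat.prime_two).1
      (show orderOf c ∣ 2 ^ 1 from orderOf_dvd_of_pow_eq_one (by rw [pow_one, pow_two, h2]))
    exact IsPGroup.of_card (n := i) (by rw [Nat.card_zpowers, hi])
  have hcR : c ∈ R := le_of_normalizes F hR hC (fun r hr => Subgroup.centralizer_le_normalizer _
    (Subgroup.mem_centralizer_iff.2 fun y hy => by
      obtain ⟨k, rfl⟩ := Subgroup.mem_zpowers_iff.1 hy
      exact ((show Commute c r from hc r hr).zpow_left k).eq)) (Subgroup.mem_zpowers c)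
  have hV : vJ ≤ R := le_of_normalizes F hR (IsPGroup.of_card (card_vJ F))
    (hRp.trans (inf_le_left.trans (NModel.HJ_le_normalizer F)))
  have hO : oJ ≤ R := le_of_normalizes F hR (IsPGroup.of_card A.card_oJ) fun r hr => by
    have hd : r ∈ dJ := Subgroup.mem_sup_left (hRp hr)
    rw [Subgroup.mem_normalizer_iff]
    refine fun q => ⟨fun hq => A.norm r hd q hq, fun hq => ?_⟩
    have := A.norm r⁻¹ (inv_mem hd) _ hq
    rwa [show r⁻¹ * (r * q * r⁻¹) * r⁻¹⁻¹ = q by group] at this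
  obtain ⟨v, w, hv, hw, rfl⟩ := (mem_pJ_iff F).1 (hRp hcR)
  have hw1 : HBound.wv w = 1 := eq_one_of_comm F (HBound.wv_mem_mSub w) fun u => by
    have h := hc _ (hV (phi_mem u))
    rw [← mul_assoc (phi u), phi_comm F u v, mul_assoc, mul_assoc] at h
    exact mul_left_cancel h
  rw [hw1, mul_one] at hc ⊢
  have hfix : ∀ k < 6, dK k v = 0 := fun k hk => by
    rw [dK, rW_of_comm F hv (hc _ (hO (oWord_mem_oJ' hk))).symm, Nat.xor_self]
  rcases eq_of_fix hv hfix with rfl | rfl
  exacts [Or.inl phi_zero, Or.inr (zJ_eq F).symm]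

theorem card_pair (F : Facts) :
    Nat.card (pJ ⊓ Subgroup.centralizer ({zJ'} : Set J) : Subgroup J) = 2 ^ 20 * 3 := by
  haveI := Facts.finite F
  let W : Subgroup J := wSub ⊓ Subgroup.centralizer ({zJ'} : Set J)
  have hv : ∀ a ∈ vJ, a ∈ Subgroup.centralizer ({zJ'} : Set J) := fun a ha => by
    obtain ⟨u, -, rfl⟩ := exists_phi F ha
    rw [Subgroup.mem_centralizer_singleton_iff, zJ'_eq F, phi_comm F]
  have hle : vJ ≤ pJ ∧ wSub ≤ pJ := sup_le_iff.1 (pJ_eq F).ge
  let f : vJ × W → (pJ ⊓ Subgroup.centralizer ({zJ'} : Set J) : Subgroup J) := fun p =>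
    ⟨p.1.1 * p.2.1, mul_mem (hle.1 p.1.2) (hle.2 p.2.2.1), mul_mem (hv _ p.1.2) p.2.2.2⟩
  have hb : Function.Bijective f := by
    refine ⟨fun p q e => ?_, fun h => ?_⟩
    · obtain ⟨⟨a, ha⟩, ⟨b, hb⟩⟩ := p
      obtain ⟨⟨c, hc⟩, ⟨d, hd⟩⟩ := q
      obtain ⟨u, -, rfl⟩ := exists_phi F ha
      obtain ⟨v, -, rfl⟩ := exists_phi F hc
      obtain ⟨e1, e2⟩ := split_eq F (wSub_le F hb.1).1 (wSub_le F hd.1).1 (congrArg Subtype.val e)
      simp only [e1, e2]
    · obtain ⟨v, w, -, hw, e⟩ := (mem_pJ_iff F).1 h.2.1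
      refine ⟨(⟨_, phi_mem v⟩, ⟨_, hw, ?_⟩), Subtype.ext e.symm⟩
      have := mul_mem (inv_mem (hv _ (phi_mem v))) (e ▸ h.2.2 : phi v * HBound.wv w ∈ _)
      rwa [inv_mul_cancel_left] at this
  rw [← Nat.card_congr (Equiv.ofBijective f hb), Nat.card_prod, card_vJ F,
    show Nat.card W = 1536 from card_wSub_inf F]
  norm_num

end NModel

theorem odd_pair_index (F : Facts) (A : Cert.ActFacts) :
    ∀ K : Subgroup J, pJ ⊓ Subgroup.centralizer ({zJ'} : Set J) ≤ K →
      K ≤ Subgroup.centralizer ({zJ, zJ'} : Set J) → Odd (((HJ ⊓ K).subgroupOf K).index) := by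
  intro K hlo hhi
  haveI := Facts.finite F
  haveI : Fact (Nat.Prime 2) := ⟨Nat.prime_two⟩
  rw [← Nat.not_even_iff_odd]
  intro hev
  have h20 : 2 ^ 20 ∣ Nat.card ((HJ ⊓ K).subgroupOf K) := by
    rw [Nat.card_congr (Subgroup.subgroupOfEquivOfLe (inf_le_right : HJ ⊓ K ≤ K)).toEquiv]
    exact (Dvd.intro 3 (card_pair F).symm).trans
      (Subgroup.card_dvd_of_le (le_inf (inf_le_left.trans inf_le_left) hlo))
  have h21 : 2 ^ 21 ∣ Nat.card K := by
    rw [← Subgroup.index_mul_card ((HJ ⊓ K).subgroupOf K), pow_succ']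
    exact Nat.mul_dvd_mul (even_iff_two_dvd.1 hev) h20
  obtain ⟨S0, hS0⟩ := Sylow.exists_subgroup_card_pow_prime 2 h21
  obtain ⟨R0, hR0⟩ := Sylow.exists_subgroup_card_pow_prime (G := pJ) 2 (n := 21)
    (by rw [card_pJ F]; norm_num)
  set S := S0.map K.subtype with hS
  set R := R0.map pJ.subtype with hR
  have hcS : Nat.card S = 2 ^ 21 := by
    rw [hS, Subgroup.card_map_of_injective K.subtype_injective, hS0]
  have hcR : Nat.card R = 2 ^ 21 := by
    rw [hR, Subgroup.card_map_of_injective pJ.subtype_injective, hR0]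
  obtain ⟨P, hP⟩ := (IsPGroup.of_card hcS : IsPGroup 2 S).exists_le_sylow
  obtain ⟨Q, hQ⟩ := (IsPGroup.of_card hcR : IsPGroup 2 R).exists_le_sylow
  have eP : S = P := Subgroup.eq_of_le_of_card_ge hP (by rw [hcS]; exact card_two_le F P.2)
  have eQ : R = Q := Subgroup.eq_of_le_of_card_ge hQ (by rw [hcR]; exact card_two_le F Q.2)
  obtain ⟨g, hg⟩ := MulAction.exists_smul_eq J P Q
  have hmem : ∀ r ∈ R, g⁻¹ * r * g ∈ S := by
    intro r hr
    rw [eQ, ← hg, Sylow.coe_subgroup_smul, Subgroup.mem_pointwise_smul_iff_inv_smul_mem, ← eP] at hr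
    simpa [MulAut.smul_def, MulAut.conj_inv_apply] using hr
  have key : ∀ a : J, a * a = 1 → (∀ s ∈ S, a * s = s * a) →
      g * a * g⁻¹ = 1 ∨ g * a * g⁻¹ = zJ := by
    intro a ha hs
    refine eq_z_of_comm F A hcR (Subgroup.map_subtype_le R0) ?_ fun r hr => ?_
    · calc g * a * g⁻¹ * (g * a * g⁻¹) = g * (a * a) * g⁻¹ := by group
        _ = 1 := by rw [ha]; group
    · calc g * a * g⁻¹ * r = g * (a * (g⁻¹ * r * g)) * g⁻¹ := by group
        _ = g * ((g⁻¹ * r * g) * a) * g⁻¹ := by rw [hs _ (hmem r hr)]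
        _ = r * (g * a * g⁻¹) := by group
  have hcomm : ∀ a ∈ ({zJ, zJ'} : Set J), ∀ s ∈ S, a * s = s * a := fun a ha s hs =>
    Subgroup.mem_centralizer_iff.1 (hhi (Subgroup.map_subtype_le S0 hs)) a ha
  have hne : ∀ u, u < 2 ^ 11 → u ≠ 0 → g * phi u * g⁻¹ ≠ 1 := fun u hu h0 e =>
    h0 (phi_inj F hu (by norm_num) ((conj_eq_one_iff.1 e).trans phi_zero.symm))
  have h1 := (key zJ (by rw [zJ_eq F, phi_mul_self F]) (hcomm _ (Or.inl rfl))).resolve_left
    (by rw [zJ_eq F]; exact hne _ (by norm_num) (by norm_num))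
  have h2 := (key zJ' (by rw [zJ'_eq F, phi_mul_self F]) (hcomm _ (Or.inr rfl))).resolve_left
    (by rw [zJ'_eq F]; exact hne _ (by norm_num) (by norm_num))
  have h3 := mul_left_cancel (mul_right_cancel (h1.trans h2.symm))
  rw [zJ_eq F, zJ'_eq F] at h3
  exact absurd (phi_inj F (by norm_num) (by norm_num) h3) (by norm_num)

namespace NModel

theorem phi_oVec_mem (F : Facts) (a : ℕ) : phi (oVec a) ∈ oJ := by
  rw [oVec, ← bitProd_eq_of_hom phi phi_zero (phi_xor F)]
  refine bitProd_mem _ _ _ fun j hj => ?_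
  have hl : j < oLists.length := hj
  rw [← qList_eq F, List.getD_eq_getElem _ _ hl]
  · exact Subgroup.subset_closure (Or.inl ⟨_, List.getElem_mem _, rfl⟩)
  · rw [List.getD_eq_getElem _ _ hl]
    exact (by decide +kernel : ∀ l ∈ oLists, ∀ i ∈ l, i < 11) _ (List.getElem_mem hl)

theorem eWord_mem (b : ℕ) : HBound.wv (eWord b) ∈ oJ := by
  have h : ∀ n ≤ 6,
      HBound.wv ((List.range n).flatMap fun j => bif b.testBit j then oWords.getD j [] else []) ∈ oJ := by
    intro n
    induction n with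
    | zero => exact fun _ => one_mem _
    | succ n ih =>
      intro hn
      rw [List.range_succ, List.flatMap_append, HBound.wv_append]
      refine mul_mem (ih (by omega)) ?_
      rw [List.flatMap_cons, List.flatMap_nil, List.append_nil]
      cases b.testBit n
      · rw [cond_false, HBound.wv_nil]; exact one_mem _
      · rw [cond_true]; exact oWord_mem_oJ' (show n < 6 by omega)
  exact h 6 le_rfl

theorem three_comm_phi (F : Facts) {v : ℕ} (hv : v < 2 ^ 11) :
    phi v * w3 * (phi v)⁻¹ * (w3)⁻¹ ∈ oJ := by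
  rw [phi_inv F, mul_assoc (phi v), mul_assoc (phi v), conj_rW' F, ← phi_xor F]
  have key : ∀ n ≤ 11, phi (bitXor (fun i => 2 ^ i) n v ^^^
      rW (HBound.winv threeWord) (bitXor (fun i => 2 ^ i) n v)) ∈ oJ := by
    intro n
    induction n with
    | zero =>
      intro _
      rw [show bitXor (fun i => 2 ^ i) 0 v = 0 from rfl, rW_zero, Nat.xor_self, phi_zero]
      exact one_mem _
    | succ n ih =>
      intro hn
      rw [bitXor_succ]
      cases v.testBit n
      · simpa using ih (by omega)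
      · simp only [cond_true]
        have h := List.all_eq_true.1 three_checks.1 n (List.mem_range.2 (by omega))
        rw [Bool.and_eq_true] at h
        have e : ∀ a b c d : ℕ, a ^^^ b ^^^ (c ^^^ d) = a ^^^ c ^^^ (b ^^^ d) := fun a b c d => by
          simp [Nat.xor_assoc, Nat.xor_left_comm]
        rw [rW_xor, e, phi_xor F, Nat.eq_of_beq_eq_true h.1]
        exact mul_mem (ih (by omega)) (phi_oVec_mem F _)
  have := key 11 le_rfl
  rwa [bitXor_self hv] at this

theorem gen_three (F : Facts) {k : ℕ} (hk : k < 5) :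
    HBound.wv (pWords.getD k []) * w3 * (HBound.wv (pWords.getD k []))⁻¹ *
      (bif Nat.beq k 0 then w3 else (w3)⁻¹) ∈ oJ := by
  have h := List.all_eq_true.1 three_checks.2.1 k (List.mem_range.2 hk)
  rw [Bool.and_eq_true] at h
  have e := F.faithful _ _ h.1
  rw [HBound.wv_append, HBound.wv_append, HBound.wv_append, HBound.wv_winv] at e
  cases hb : Nat.beq k 0 <;> rw [hb] at e <;> simp only [cond_true, cond_false] at e ⊢
  · rw [HBound.wv_winv] at e
    rw [e]
    exact eWord_mem _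
  · rw [e]
    exact eWord_mem _

theorem two_sq : ∀ x : Multiplicative (ZMod 2), x * x = 1 := by decide

theorem pWord_mem (F : Facts) {k : ℕ} (hk : k < 5) : HBound.wv (pWords.getD k []) ∈ pJ := by
  rw [pJ_eq F]
  exact Subgroup.mem_sup_right (Subgroup.subset_closure ⟨_, by
    rw [List.getD_eq_getElem _ _ (show k < pWords.length from hk)]; exact List.getElem_mem _, rfl⟩)

/-- The kernel of a homomorphism of `pJ`, seen in the whole group. -/
def kerJ (χ : pJ →* Multiplicative (ZMod 2)) : Subgroup J := χ.ker.map pJ.subtype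

theorem mem_kerJ {χ : pJ →* Multiplicative (ZMod 2)} {a : J} (h : a ∈ pJ) :
    a ∈ kerJ χ ↔ χ ⟨a, h⟩ = 1 := by
  constructor
  · rintro ⟨b, hb, e⟩
    obtain rfl : b = ⟨a, h⟩ := Subtype.ext e
    exact hb
  · exact fun e => ⟨⟨a, h⟩, e, rfl⟩

theorem phi_mem_kerJ (F : Facts) (χ : pJ →* Multiplicative (ZMod 2)) (v : ℕ) : phi v ∈ kerJ χ := by
  have hp : ∀ u, phi u ∈ pJ := fun u => by rw [pJ_eq F]; exact Subgroup.mem_sup_left (phi_mem u)
  refine bitProd_mem _ _ _ fun i hi => ?_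
  have h := List.all_eq_true.1 odd_checks.2.2.1 i (List.mem_range.2 hi)
  rw [← phi_two_pow hi, ← Nat.eq_of_beq_eq_true h, ← bitProd_eq_of_hom phi phi_zero (phi_xor F)]
  refine bitProd_mem _ _ _ fun n hn => ?_
  have hn' := List.all_eq_true.1 odd_checks.2.2.2 n (List.mem_range.2 hn)
  rw [Bool.and_eq_true, Nat.blt_eq, Nat.blt_eq] at hn'
  obtain ⟨i0, k0, e0⟩ : ∃ i0 k0, spanGens.getD n (0, 0) = (i0, k0) := ⟨_, _, rfl⟩
  rw [e0] at hn' ⊢
  show phi (2 ^ i0 ^^^ rW (HBound.winv (pWords.getD k0 [])) (2 ^ i0)) ∈ kerJ χ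
  rw [phi_xor F, ← conj_rW' F]
  have hg := pWord_mem F hn'.2
  refine (mem_kerJ (mul_mem (hp _) (mul_mem (mul_mem hg (hp _)) (inv_mem hg)))).2 ?_
  rw [show (⟨_, mul_mem (hp _) (mul_mem (mul_mem hg (hp _)) (inv_mem hg))⟩ : pJ) =
    ⟨phi (2 ^ i0), hp _⟩ * (⟨_, hg⟩ * ⟨phi (2 ^ i0), hp _⟩ * ⟨_, hg⟩⁻¹) from rfl, map_mul, map_mul,
    map_mul, map_inv, mul_comm (χ ⟨_, hg⟩) (χ ⟨phi (2 ^ i0), _⟩), mul_inv_cancel_right, two_sq]

theorem odd_mem_kerJ (χ : pJ →* Multiplicative (ZMod 2)) {a : J} (ha : a ∈ pJ) {n : ℕ} (hn : n % 2 = 1)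
    (h : a ^ n = 1) : a ∈ kerJ χ := by
  refine (mem_kerJ ha).2 ?_
  have h1 : χ ⟨a, ha⟩ ^ n = 1 := by
    rw [← map_pow, show (⟨a, ha⟩ : pJ) ^ n = 1 from Subtype.ext h, map_one]
  rw [← Nat.div_add_mod n 2, hn, pow_succ, pow_mul, pow_two, two_sq, one_pow, one_mul] at h1
  exact h1

theorem gen_mem_kerJ (F : Facts) (χ : pJ →* Multiplicative (ZMod 2)) {k : ℕ} (hk : k < 5) (h0 : k ≠ 0) :
    HBound.wv (pWords.getD k []) ∈ kerJ χ := by
  have h := List.all_eq_true.1 odd_checks.1 k (List.mem_range.2 hk)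
  rw [Bool.or_eq_true] at h
  rw [F.faithful _ _ (h.resolve_left fun e => h0 (Nat.eq_of_beq_eq_true e))]
  have hl : oddParts.getD k [] = oddParts[k]'hk := List.getD_eq_getElem _ _ _
  have key : ∀ l : List (List ℕ × ℕ), (∀ e ∈ l, e ∈ oddParts.flatten) →
      HBound.wv (l.flatMap Prod.fst) ∈ kerJ χ := by
    intro l
    induction l with
    | nil => exact fun _ => one_mem _
    | cons e l ih =>
      intro hle
      rw [List.flatMap_cons, HBound.wv_append]
      refine mul_mem ?_ (ih fun x hx => hle x (List.mem_cons_of_mem _ hx))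
      have he := List.all_eq_true.1 odd_checks.2.1 e (hle e List.mem_cons_self)
      rw [Bool.and_eq_true] at he
      have hz := List.all_eq_true.1 z_checks.2.2.2.2.2 e (hle e List.mem_cons_self)
      have hm := mem_centralizer_z F hz
      refine odd_mem_kerJ χ (⟨mSub_le_HJ hm.1, hm.2⟩ : HBound.wv e.1 ∈ pJ) (Nat.eq_of_beq_eq_true he.1) ?_
      have hr : ∀ m, HBound.wv (List.replicate m e.1).flatten = HBound.wv e.1 ^ m := fun m => by
        induction m with
        | zero => rw [pow_zero, List.replicate_zero, List.flatten_nil, HBound.wv_nil]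
        | succ m ihm =>
          rw [List.replicate_succ, List.flatten_cons, HBound.wv_append, ihm, pow_succ']
      rw [← hr, F.faithful _ _ he.2, HBound.wv_nil]
  refine key _ fun e he => ?_
  rw [hl] at he
  exact List.mem_flatten.2 ⟨_, List.getElem_mem _, he⟩

end NModel

theorem hom_two_pJ (F : Facts) (A : Cert.ActFacts) (h3 : w3 * w3 ∉ oJ) :
    ∀ χ : pJ →* Multiplicative (ZMod 2), ∀ a : pJ,
      (a : J) * w3 * (a : J)⁻¹ * (w3)⁻¹ ∈ oJ → χ a = 1 := by
  intro χ
  obtain ⟨h, hh⟩ : ∃ h : J, h = w3 := ⟨_, rfl⟩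
  rw [← hh] at h3 ⊢
  have hn : ∀ {d q : J}, d ∈ pJ → q ∈ oJ → d * q * d⁻¹ ∈ oJ := fun hd hq =>
    A.norm _ (Subgroup.mem_sup_left hd) _ hq
  have hh' : h ∈ pJ := hh ▸ A.three_mem
  have hn1 : ∀ {q : J}, q ∈ oJ → h * q * h⁻¹ ∈ oJ := hn hh'
  have hn2 : ∀ {q : J}, q ∈ oJ → h⁻¹ * q * h ∈ oJ := fun hq => by
    simpa using hn (inv_mem hh') hq
  obtain ⟨c, hc⟩ : ∃ c, c = χ ⟨_, pWord_mem F (show 0 < 5 by norm_num)⟩ := ⟨_, rfl⟩
  let P : pJ → Prop := fun a =>
    ((a : J) * h * (a : J)⁻¹ * h⁻¹ ∈ oJ ∧ χ a = 1) ∨ ((a : J) * h * (a : J)⁻¹ * h ∈ oJ ∧ χ a = c)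
  have hmul : ∀ a b, P a → P b → P (a * b) := by
    intro a b ha hb
    simp only [P, Subgroup.coe_mul, map_mul]
    rcases ha with ⟨ha, ea⟩ | ⟨ha, ea⟩ <;> rcases hb with ⟨hb, eb⟩ | ⟨hb, eb⟩
    · refine Or.inl ⟨?_, by rw [ea, eb, one_mul]⟩
      convert mul_mem (hn a.2 hb) ha using 1
      group
    · refine Or.inr ⟨?_, by rw [ea, eb, one_mul]⟩
      convert mul_mem (hn a.2 hb) (hn2 (inv_mem ha)) using 1
      group
    · refine Or.inr ⟨?_, by rw [ea, eb, mul_one]⟩
      convert mul_mem (hn a.2 hb) ha using 1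
      group
    · refine Or.inl ⟨?_, by rw [ea, eb, two_sq]⟩
      convert mul_mem (hn a.2 hb) (hn1 (inv_mem ha)) using 1
      group
  have hinv : ∀ a, P a → P a⁻¹ := by
    intro a ha
    simp only [P, Subgroup.coe_inv, map_inv, inv_inv]
    rcases ha with ⟨ha, ea⟩ | ⟨ha, ea⟩
    · refine Or.inl ⟨?_, by rw [ea, inv_one]⟩
      convert hn (inv_mem a.2) (inv_mem ha) using 1
      group
    · refine Or.inr ⟨?_, by rw [ea]; exact inv_eq_of_mul_eq_one_right (two_sq c)⟩
      convert hn2 (hn (inv_mem a.2) ha) using 1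
      group
  have hall : ∀ x ∈ pJ, ∀ hx : x ∈ pJ, P ⟨x, hx⟩ := by
    have e : pJ = Subgroup.closure ((vJ : Set J) ∪ {a | ∃ w ∈ pWords, a = HBound.wv w}) := by
      rw [Subgroup.closure_union, Subgroup.closure_eq, ← pJ_eq F]
    intro x hx0
    rw [e] at hx0
    induction hx0 using Subgroup.closure_induction with
    | mem y hy =>
      intro hy'
      rcases hy with hy | ⟨w, hw, rfl⟩
      · obtain ⟨v, hv, rfl⟩ := exists_phi F hy
        refine Or.inl ⟨?_, (mem_kerJ hy').1 (phi_mem_kerJ F χ v)⟩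
        rw [hh]; exact three_comm_phi F hv
      · obtain ⟨k, hk, rfl⟩ := List.getElem_of_mem hw
        have hg := gen_three F (show k < 5 from hk)
        rw [← hh, List.getD_eq_getElem _ _ hk] at hg
        by_cases h0 : k = 0
        · subst h0
          refine Or.inr ⟨hg, ?_⟩
          rw [hc]
          exact congrArg χ (Subtype.ext rfl)
        · rw [show Nat.beq k 0 = false from Bool.eq_false_iff.2 fun e => h0 (Nat.eq_of_beq_eq_true e),
            cond_false] at hg
          refine Or.inl ⟨hg, (mem_kerJ hy').1 ?_⟩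
          rw [← List.getD_eq_getElem _ [] hk]
          exact gen_mem_kerJ F χ hk h0
    | one =>
      intro hy'
      refine Or.inl ⟨?_, map_one χ⟩
      show (1 : J) * h * (1 : J)⁻¹ * h⁻¹ ∈ oJ
      rw [show (1 : J) * h * (1 : J)⁻¹ * h⁻¹ = 1 by group]
      exact one_mem _
    | mul y z hy hz ihy ihz =>
      intro _
      exact hmul _ _ (ihy (e.symm ▸ hy)) (ihz (e.symm ▸ hz))
    | inv y hy ihy =>
      intro _
      exact hinv _ (ihy (e.symm ▸ hy))
  intro a ha
  rcases hall a a.2 a.2 with ⟨-, ea⟩ | ⟨hI, -⟩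
  · exact ea
  · refine absurd ?_ h3
    convert mul_mem (inv_mem ha) hI using 1
    group

end CfsgLib.JFourAmalgam
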