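import Cfsg.Agent.JFourAmalgam.ModelNBase
import Cfsg.Agent.JFourAmalgam.ModelNChecks
import Cfsg.Agent.HNCert.Chain

/-!
The centralizer of `zJ` in `HJ`: the orbit of `zJ` under `⟨x, y⟩` has length `1771`, and a chain on
vectors shows that the words `pWords` generate its stabilizer.
-/

set_option autoImplicit false
set_option linter.style.haveILetI false
set_option maxRecDepth 10000

namespace CfsgLib.JFourAmalgam.NModel

open CfsgLib.JankoFour CfsgLib.HNCert

local notation "J" => Cfsg.Spor.J4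

/-- The subgroup generated by the words. -/
def wSub : Subgroup J := Subgroup.closure {a | ∃ w ∈ pWords, a = HBound.wv w}

theorem zJ_eq (F : Facts) : zJ = phi zV := by
  rw [zJ, qList_eq F _ (by decide), z_checks.1]

theorem zJ'_eq (F : Facts) : zJ' = phi zV' := by
  rw [zJ', qList_eq F _ (by decide), z_checks.2.1]

theorem wv_comm_phi (F : Facts) (w : List ℕ) (v : ℕ) (h : rW w v = v) :
    HBound.wv w * phi v = phi v * HBound.wv w := by
  rw [phi_mul_wv F, h]

theorem rW_of_comm (F : Facts) {w : List ℕ} {v : ℕ} (hv : v < 2 ^ 11)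
    (h : HBound.wv w * phi v = phi v * HBound.wv w) : rW w v = v := by
  refine phi_inj F (rW_lt w hv) hv ?_
  rw [← conj_rW F, mul_assoc, ← h, inv_mul_cancel_left]

theorem mem_centralizer_z (F : Facts) {w : List ℕ} (h : Nat.beq (rW w zV) zV = true) :
    HBound.wv w ∈ mSub ⊓ Subgroup.centralizer ({zJ} : Set J) := by
  refine ⟨HBound.wv_mem_mSub w, Subgroup.mem_centralizer_singleton_iff.2 ?_⟩
  rw [zJ_eq F, wv_comm_phi F w zV (Nat.eq_of_beq_eq_true h)]

theorem wSub_le (F : Facts) : wSub ≤ mSub ⊓ Subgroup.centralizer ({zJ} : Set J) := by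
  rw [wSub, Subgroup.closure_le]
  rintro _ ⟨w, hw, rfl⟩
  exact mem_centralizer_z F (List.all_eq_true.1 z_checks.2.2.2.2.1 w
    (List.mem_append_left _ (List.mem_append_left _ hw)))

/-- An orbit bounds the index of a stabilizer. -/
theorem card_stab_mul_le (F : Facts) {W : Subgroup J} {v : ℕ} {l : List ℕ} (hl : l.Nodup)
    (hw : ∀ u ∈ l, u < 2 ^ 11 ∧ ∃ w, HBound.wv w ∈ W ∧ rW w v = u) :
    Nat.card (W ⊓ Subgroup.centralizer ({phi v} : Set J) : Subgroup J) * l.length ≤ Nat.card W := by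
  classical
  haveI := Facts.finite F
  let C : Subgroup W := (Subgroup.centralizer ({phi v} : Set J)).subgroupOf W
  have hC : Nat.card C = Nat.card (W ⊓ Subgroup.centralizer ({phi v} : Set J) : Subgroup J) := by
    refine Eq.trans ?_ (Nat.card_congr (Subgroup.subgroupOfEquivOfLe
      (inf_le_left : W ⊓ Subgroup.centralizer ({phi v} : Set J) ≤ W)).toEquiv)
    rw [Subgroup.inf_subgroupOf_left]
  choose hlt w hwW hwv using hw
  let f : Fin l.length → W ⧸ C := fun i =>
    QuotientGroup.mk ⟨(HBound.wv (w (l.get i) (List.get_mem l i)))⁻¹, inv_mem (hwW _ (List.get_mem l i))⟩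
  have hf : Function.Injective f := by
    intro i j e
    have e' := QuotientGroup.eq.1 e
    simp only [C, Subgroup.mem_subgroupOf, Subgroup.coe_mul, Subgroup.coe_inv, inv_inv,
      Subgroup.mem_centralizer_singleton_iff] at e'
    refine hl.injective_get (phi_inj F (hlt _ (List.get_mem l i)) (hlt _ (List.get_mem l j)) ?_)
    have e1 := (conj_rW F (w (l.get i) (List.get_mem l i)) v).trans
      (congrArg phi (hwv _ (List.get_mem l i)))
    have e2 := (conj_rW F (w (l.get j) (List.get_mem l j)) v).trans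
      (congrArg phi (hwv _ (List.get_mem l j)))
    rw [← e1, ← e2]
    generalize HBound.wv (w (l.get i) (List.get_mem l i)) = g at e' ⊢
    generalize HBound.wv (w (l.get j) (List.get_mem l j)) = k at e' ⊢
    calc g⁻¹ * phi v * g = g⁻¹ * (g * k⁻¹ * phi v) * k := by rw [e']; group
      _ = _ := by group
  have hn : l.length ≤ C.index := by
    rw [Subgroup.index_eq_card]
    refine le_trans ?_ (Nat.card_le_card_of_injective f hf)
    rw [Nat.card_fin]
  rw [← hC]
  calc Nat.card C * l.length ≤ Nat.card C * C.index := Nat.mul_le_mul le_rfl hn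
    _ = _ := Subgroup.card_mul_index C

/-- The mask only contains vectors of the orbit. -/
def GoodM (S : ℕ) : Prop := ∀ v, S.testBit v = true → ∃ w, rW w zV = v

theorem goodM_or {S v : ℕ} (h : GoodM S) {c : ℕ} (hv : S.testBit v = true) :
    ∀ u, (2 ^ rA c v).testBit u = true → ∃ w, rW w zV = u := fun u hu => by
  obtain ⟨w, hw⟩ := h v hv
  rw [Nat.testBit_two_pow, decide_eq_true_eq] at hu
  exact ⟨w ++ [c], by rw [rW_append, hw, ← hu]; rfl⟩

theorem goodM_step : ∀ (l : List ℕ) (S : ℕ), GoodM S → GoodM (stepM l S)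
  | [], _, h => h
  | v :: l, S, h => by
    rw [stepM, CosetEnum.force_eq]
    refine goodM_step l _ ?_
    cases hv : S.testBit v
    · exact h
    · intro u hu
      simp only [cond_true, Nat.testBit_or, Bool.or_eq_true] at hu
      rcases hu with (hu | hu) | hu
      exacts [h u hu, goodM_or h hv u hu, goodM_or h hv u hu]

theorem goodM_iter : ∀ (n : ℕ) (S : ℕ), GoodM S → GoodM (iterM n S)
  | 0, _, h => h
  | n + 1, S, h => by
    rw [iterM, CosetEnum.force_eq]
    exact goodM_iter n _ (goodM_step _ S h)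

theorem card_stabM_mul_le (F : Facts) :
    Nat.card (mSub ⊓ Subgroup.centralizer ({zJ} : Set J) : Subgroup J) * 1771 ≤ 244823040 := by
  rw [zJ_eq F, ← F.cardM, ← orbit_count]
  refine card_stab_mul_le F (List.nodup_range.filter _) fun u hu => ?_
  simp only [List.mem_filter, List.mem_range] at hu
  have hg : GoodM orbMask := goodM_iter _ _ fun v hv => ⟨[], by
    rw [Nat.testBit_two_pow, decide_eq_true_eq] at hv
    exact hv⟩
  obtain ⟨w, hw⟩ := hg u hu.2
  exact ⟨by omega, w, HBound.wv_mem_mSub w, hw⟩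

/-- Conjugation as an action. -/
def cAct : J →* Equiv.Perm J where
  toFun g := (MulAut.conj g).toEquiv
  map_one' := by ext a; simp
  map_mul' g h := by ext a; simp [mul_assoc]

theorem mv_cAct (g p : J) : mv cAct g p = g⁻¹ * p * g := by
  simp [mv, cAct, Equiv.Perm.inv_def, MulAut.conj_symm_apply]

/-- The chain in the group. -/
def mkC (D : List (ℕ × List (List ℕ))) : List (J × List J) :=
  D.map fun e => (phi e.1, e.2.map fun h => HBound.wv (HBound.expS pWords h))

theorem expS_mem (h : List ℕ) : HBound.wv (HBound.expS pWords h) ∈ wSub := by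
  induction h with
  | nil => exact one_mem _
  | cons i h ih =>
    rw [show HBound.expS pWords (i :: h) = pWords.getD i [] ++ HBound.expS pWords h by
      simp [HBound.expS], HBound.wv_append]
    refine mul_mem ?_ ih
    rcases lt_or_ge i pWords.length with hl | hg
    · exact Subgroup.subset_closure ⟨_, by rw [List.getD_eq_getElem _ _ hl]; exact List.getElem_mem hl, rfl⟩
    · rw [List.getD_eq_default _ _ hg, HBound.wv_nil]; exact one_mem _

theorem mkC_mem (D : List (ℕ × List (List ℕ))) : ∀ e ∈ mkC D, ∀ u ∈ e.2, u ∈ wSub := by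
  intro e he u hu
  obtain ⟨e', -, rfl⟩ := List.mem_map.1 he
  obtain ⟨h, -, rfl⟩ := List.mem_map.1 hu
  exact expS_mem h

theorem size_mkC : ∀ D : List (ℕ × List (List ℕ)), size (mkC D) = (D.map fun e => e.2.length).prod
  | [] => rfl
  | e :: D => by
    show size (mkC D) * (e.2.map _).length = _
    rw [size_mkC D, List.length_map, List.map_cons, List.prod_cons, mul_comm]

theorem ok_mkC (F : Facts) : ∀ D : List (ℕ × List (List ℕ)), okC D = true → Ok cAct (mkC D)
  | [], _ => trivial
  | (b, L) :: D, h => by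
    simp only [okC, Bool.and_eq_true, Nat.blt_eq, List.all_eq_true] at h
    obtain ⟨hb, hn, hf, hc⟩ := h
    refine ⟨?_, ?_, ok_mkC F D hc⟩
    · rw [List.map_map]
      have e : (fun u => mv cAct u (phi b)) ∘ (fun h => HBound.wv (HBound.expS pWords h)) =
          phi ∘ fun h => rW (HBound.expS pWords h) b := funext fun h => by
        simp only [Function.comp_apply, mv_cAct, conj_rW F]
      rw [e, ← List.map_map]
      refine (nodupB_spec _ hn).map_on fun u hu v hv e => ?_
      obtain ⟨h, -, rfl⟩ := List.mem_map.1 hu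
      obtain ⟨k, -, rfl⟩ := List.mem_map.1 hv
      exact phi_inj F (rW_lt _ hb) (rW_lt _ hb) e
    · intro e he u hu
      obtain ⟨e', he', rfl⟩ := List.mem_map.1 he
      obtain ⟨h, hh, rfl⟩ := List.mem_map.1 hu
      rw [mv_cAct, conj_rW F, Nat.eq_of_beq_eq_true (hf e' he' h hh)]

theorem le_card_wSub (F : Facts) : 138240 ≤ Nat.card wSub := by
  haveI := Facts.finite F
  have h := size_le (W := wSub) (ok_mkC F _ chain_checks.1) (mkC_mem chainN)
  rwa [size_mkC, chain_checks.2.1] at h

theorem wSub_eq (F : Facts) : wSub = mSub ⊓ Subgroup.centralizer ({zJ} : Set J) := by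
  haveI := Facts.finite F
  refine Subgroup.eq_of_le_of_card_ge (wSub_le F) (le_trans ?_ (le_card_wSub F))
  exact Nat.le_of_mul_le_mul_right ((card_stabM_mul_le F).trans_eq (by norm_num)) (by norm_num : 0 < 1771)

theorem card_wSub (F : Facts) : Nat.card wSub = 138240 := by
  have h1 := le_card_wSub F
  have h2 := card_stabM_mul_le F
  rw [← wSub_eq F] at h2
  omega

/-- Only the identity of `⟨x, y⟩` centralises `vJ`. -/
theorem eq_one_of_comm (F : Facts) {m : J} (hm : m ∈ mSub) (h : ∀ v, m * phi v = phi v * m) : m = 1 := by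
  haveI := Facts.finite F
  have hz : m ∈ wSub := by
    rw [wSub_eq F]
    exact ⟨hm, Subgroup.mem_centralizer_singleton_iff.2 (by rw [zJ_eq F, h])⟩
  refine eq_of_imgs (π := cAct) (ok_mkC F _ chain_checks.1) (mkC_mem chainN)
    (by rw [card_wSub F, size_mkC, chain_checks.2.1]) hz (one_mem _) ?_
  refine List.map_congr_left fun e he => ?_
  obtain ⟨e', -, rfl⟩ := List.mem_map.1 he
  rw [mv_cAct, mv_one, mul_assoc, ← h, inv_mul_cancel_left]

theorem actEq_imp (F : Facts) {v w : List ℕ} (e : HBound.wv v = HBound.wv w) {u : ℕ} (hu : u < 2 ^ 11) :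
    rW v u = rW w u :=
  phi_inj F (rW_lt _ hu) (rW_lt _ hu) (by rw [← conj_rW F, e, conj_rW F])

/-- The second stabilizer has order `1536`. -/
theorem card_wSub_inf (F : Facts) :
    Nat.card (wSub ⊓ Subgroup.centralizer ({zJ'} : Set J) : Subgroup J) = 1536 := by
  haveI := Facts.finite F
  obtain ⟨b, L, D, e⟩ : ∃ b L D, chainN = (b, L) :: D := ⟨_, _, _, rfl⟩
  have h1 := chain_checks.2.2.1
  have h2 := chain_checks.2.2.2
  have hok := chain_checks.1
  rw [e] at h1 h2 hok
  simp only [List.take_succ_cons, List.take_zero, List.map_cons, List.map_nil, List.cons.injEq,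
    Prod.mk.injEq, and_true] at h2
  obtain ⟨hb, hL⟩ := h2
  subst hb
  simp only [okC, Bool.and_eq_true, Nat.blt_eq, List.all_eq_true] at hok
  obtain ⟨hb, hn, hf, hc⟩ := hok
  have low : size (mkC D) ≤ Nat.card (wSub ⊓ Subgroup.centralizer ({zJ'} : Set J) : Subgroup J) := by
    refine size_le (ok_mkC F D hc) fun e he u hu =>
      Subgroup.mem_inf.2 ⟨mkC_mem D e he u hu, Subgroup.mem_centralizer_singleton_iff.2 ?_⟩
    obtain ⟨e', he', rfl⟩ := List.mem_map.1 he
    obtain ⟨h, hh, rfl⟩ := List.mem_map.1 hu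
    rw [zJ'_eq F,
      wv_comm_phi F _ _ (Nat.eq_of_beq_eq_true (hf e' he' h hh))]
  have up := card_stab_mul_le F (W := wSub) (v := zV') (nodupB_spec _ hn) (by
    intro u hu
    obtain ⟨h, -, rfl⟩ := List.mem_map.1 hu
    exact ⟨rW_lt _ hb, _, expS_mem h, rfl⟩)
  rw [List.length_map, hL, card_wSub F, ← zJ'_eq F] at up
  rw [size_mkC] at low
  simp only [List.drop_succ_cons, List.drop_zero] at h1
  omega

end NModel

open NModel JankoFour

/-- The centralizer of `zJ` in `HJ` is `vJ` extended by the words. -/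
theorem pJ_eq (F : Facts) :
    pJ = vJ ⊔ Subgroup.closure {a | ∃ w ∈ pWords, a = HBound.wv w} := by
  show pJ = vJ ⊔ wSub
  refine le_antisymm (fun h hh => ?_) (sup_le (fun a ha => ⟨vJ_le_HJ F ha, Subgroup.mem_centralizer_singleton_iff.2 ?_⟩) ?_)
  · obtain ⟨hH, hC⟩ := hh
    obtain ⟨v, w, -, rfl⟩ := NModel.HJ_subset F hH
    refine mul_mem (Subgroup.mem_sup_left (phi_mem v)) (Subgroup.mem_sup_right ?_)
    rw [wSub_eq F]
    refine ⟨HBound.wv_mem_mSub w, ?_⟩
    have hv : phi v ∈ Subgroup.centralizer ({zJ} : Set Cfsg.Spor.J4) := by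
      rw [Subgroup.mem_centralizer_singleton_iff, zJ_eq F, phi_comm F]
    have := mul_mem (inv_mem hv) hC
    rwa [inv_mul_cancel_left] at this
  · obtain ⟨v, -, rfl⟩ := exists_phi F ha
    rw [zJ_eq F, phi_comm F]
  · rw [wSub_eq F]
    exact inf_le_inf mSub_le_HJ le_rfl

theorem mem_pJ_iff (F : Facts) {h : Cfsg.Spor.J4} :
    h ∈ pJ ↔ ∃ v w, v < 2 ^ 11 ∧ HBound.wv w ∈ wSub ∧ h = phi v * HBound.wv w := by
  constructor
  · rintro ⟨hH, hC⟩
    obtain ⟨v, w, hv, rfl⟩ := NModel.HJ_subset F hH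
    refine ⟨v, w, hv, ?_, rfl⟩
    rw [wSub_eq F]
    refine ⟨HBound.wv_mem_mSub w, ?_⟩
    have h1 : phi v ∈ Subgroup.centralizer ({zJ} : Set Cfsg.Spor.J4) := by
      rw [Subgroup.mem_centralizer_singleton_iff, zJ_eq F, phi_comm F]
    have := mul_mem (inv_mem h1) hC
    rwa [inv_mul_cancel_left] at this
  · rintro ⟨v, w, -, hw, rfl⟩
    rw [pJ_eq F]
    exact mul_mem (Subgroup.mem_sup_left (phi_mem v)) (Subgroup.mem_sup_right hw)

/-- The order of the centralizer of `zJ` in `HJ`. -/
theorem card_pJ (F : Facts) : Nat.card pJ = 283115520 := by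
  haveI := Facts.finite F
  have hle : vJ ≤ pJ ∧ wSub ≤ pJ := sup_le_iff.1 (pJ_eq F).ge
  let f : vJ × wSub → pJ := fun p => ⟨p.1.1 * p.2.1, mul_mem (hle.1 p.1.2) (hle.2 p.2.2)⟩
  have hb : Function.Bijective f := by
    refine ⟨fun p q e => ?_, fun h => ?_⟩
    · obtain ⟨⟨a, ha⟩, ⟨b, hb⟩⟩ := p
      obtain ⟨⟨c, hc⟩, ⟨d, hd⟩⟩ := q
      obtain ⟨u, -, rfl⟩ := exists_phi F ha
      obtain ⟨v, -, rfl⟩ := exists_phi F hc
      obtain ⟨e1, e2⟩ := split_eq F (wSub_le F hb).1 (wSub_le F hd).1 (congrArg Subtype.val e)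
      simp only [e1, e2]
    · obtain ⟨v, w, -, hw, e⟩ := (mem_pJ_iff F).1 h.2
      exact ⟨(⟨_, phi_mem v⟩, ⟨_, hw⟩), Subtype.ext e.symm⟩
  rw [← Nat.card_congr (Equiv.ofBijective f hb), Nat.card_prod, card_vJ F, card_wSub F]
  norm_num

end CfsgLib.JFourAmalgam
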