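import Cfsg.Agent.JFourAmalgam.ToNModel
import Cfsg.Agent.JFourEleven.Model
import Cfsg.Agent.JFourEleven.Complement

/-!
# The map of the presented subgroup `HJ` onto the normalizer of an elementary abelian subgroup of order `2 ^ 11`

The normalizer is the split extension of the subgroup, with the coordinates of the even cocode, by M24; so is
`HJ` (`ToNModel`). The involution `zJ` is not a pair of points, so its image is conjugate to `z` in the
normalizer.
-/

set_option autoImplicit false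
set_option linter.style.haveILetI false
set_option linter.unusedSectionVars false

namespace CfsgLib.JFourAmalgam

open Cfsg CfsgLib.LargeFischerJ CfsgLib.JFourEleven Matrix
open CfsgLib.MTwentyThreeUnique.Gl11 (V M vecOf ext_cols)
open CfsgLib.MTwentyFourUnique.Gl11 (repD24 repM24 repD24_injective repM24_injective)
open CfsgLib.JankoFour (mSub HJ)

/-- Coordinates on the layer with the map of the normalizer onto M24. -/
theorem exists_coord_hom {G : Type*} [Group G] [Finite G] {z : G} {A R : Subgroup G} (D : Layer z A R) :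
    ∃ (κ : A → V) (τ : Subgroup.normalizer (A : Set G) →* Cfsg.M24),
      Function.Bijective κ ∧ (∀ x y, κ (x * y) = κ x + κ y) ∧ Function.Surjective τ ∧
      (∀ m, τ m = 1 ↔ (m : G) ∈ A) ∧
      (∀ (m : Subgroup.normalizer (A : Set G)) (x : A),
        repD24 (τ m) *ᵥ κ x = κ ⟨(m : G) * x * (m : G)⁻¹, D.conj_mem m.2 x.2⟩) ∧
      ∀ x : A, (x : G) ∈ Layer.others z A → ∃ p q, Cocode.duad p q = κ x := by
  classical
  set N := Subgroup.normalizer (A : Set G) with hN
  obtain ⟨ι, rho, hbij, hlin, h0, hker, hrho⟩ := exists_linear_rep D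
  have hr : Nat.card rho.range = 244823040 := by
    have h := Subgroup.card_eq_card_quotient_mul_card_subgroup rho.ker
    rw [Nat.card_congr (QuotientGroup.quotientKerEquivRange rho).toEquiv, hker,
      Nat.card_congr (Subgroup.subgroupOfEquivOfLe Subgroup.le_normalizer).toEquiv, D.cardA,
      D.card_normalizer, D.main.1] at h
    omega
  obtain ⟨e⟩ := nonempty_iso_M24 hr rho.range.subtype Subtype.val_injective
  obtain ⟨a, b, d, ha, hb, hd, hab, hdb⟩ := Cocode.exists_frame
  obtain ⟨X, hX⟩ := CfsgLib.MTwentyFourUnique.exists_range_of_rep hr rho.range.subtype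
    Subtype.val_injective (e.symm a) (e.symm b) (e.symm d) (by rw [MulEquiv.orderOf_eq, ha])
    (by rw [MulEquiv.orderOf_eq, hb]) (by rw [← map_pow, hd, map_one])
    (by rw [← map_inv, ← map_mul, ← map_mul, hab, map_pow])
    (by rw [← map_inv, ← map_mul, ← map_mul, hdb, map_pow])
  let π : rho.range →* GL (Fin 11) (ZMod 2) := (MulAut.conj X).toMonoidHom.comp rho.range.subtype
  have hπ : Function.Injective π := (MulAut.conj X).injective.comp Subtype.val_injective
  let κ : A → V := fun x => (X : M) *ᵥ ι x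
  have hκ : Function.Bijective κ := by
    refine ⟨fun x y h => hbij.1 ?_, fun v => ?_⟩
    · have := congrArg ((↑X⁻¹ : M) *ᵥ ·) h
      simpa [κ, Matrix.mulVec_mulVec] using this
    · obtain ⟨x, hx⟩ := hbij.2 ((↑X⁻¹ : M) *ᵥ v)
      exact ⟨x, by simp [κ, hx, Matrix.mulVec_mulVec]⟩
  have hκeq : ∀ (m : N) (x : A), (π (rho.rangeRestrict m) : M) *ᵥ κ x =
      κ ⟨(m : G) * x * (m : G)⁻¹, D.conj_mem m.2 x.2⟩ := by
    intro m x
    show ((X : M) * (rho m : M) * (↑X⁻¹ : M)) *ᵥ ((X : M) *ᵥ ι x) = (X : M) *ᵥ _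
    rw [Matrix.mulVec_mulVec, mul_assoc, Units.inv_mul, mul_one, ← Matrix.mulVec_mulVec, hrho]
  have hadd : ∀ x y : A, κ (x * y) = κ x + κ y := fun x y => by
    show (X : M) *ᵥ ι (x * y) = _
    rw [hlin, Matrix.mulVec_add]
  let S : Set V := κ '' {x : A | (x : G) ∈ Layer.others z A}
  have hScard : Nat.card S = 276 := by
    rw [Nat.card_image_of_injective hκ.1, ← D.card_others]
    exact Nat.card_congr ⟨fun x => ⟨x.1.1, x.2⟩, fun x => ⟨⟨x.1, x.2.1⟩, x.2⟩, fun _ => rfl,
      fun _ => rfl⟩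
  have hS0 : (0 : V) ∉ S := by
    rintro ⟨x, hx, hx0⟩
    have h2 : ι x = 0 := by
      have := congrArg ((↑X⁻¹ : M) *ᵥ ·) hx0
      simpa [κ, Matrix.mulVec_mulVec] using this
    exact hx.2.1 (congrArg Subtype.val (h0 x h2))
  have hcl : ∀ m ∈ N, ∀ c ∈ Layer.others z A, m * c * m⁻¹ ∈ Layer.others z A := fun m hm c hc =>
    ⟨D.conj_mem hm hc.1, fun h => hc.2.1 (conj_eq_one_iff.1 h), fun h => hc.2.2 (by
      have := Layer.isConj_conj (m := m⁻¹) h
      simpa [mul_assoc] using this)⟩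
  have hinv : ∀ (φ : Cfsg.M24 →* M), π.range = φ.toHomUnits.range →
      ∀ σ, ∀ v, v ∈ S → φ σ *ᵥ v ∈ S := by
    rintro φ hφ σ _ ⟨x, hx, rfl⟩
    obtain ⟨⟨_, m, rfl⟩, hk⟩ : φ.toHomUnits σ ∈ π.range := hφ ▸ ⟨σ, rfl⟩
    refine ⟨⟨_, D.conj_mem m.2 x.2⟩, hcl m m.2 x hx, ?_⟩
    have hk' : π (rho.rangeRestrict m) = φ.toHomUnits σ := hk
    rw [← hκeq, hk', MonoidHom.coe_toHomUnits]
  have hD : π.range = repD24.toHomUnits.range := hX.resolve_left fun h =>
    Cocode.not_code hScard hS0 (hinv repM24 h)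
  have hSd := Cocode.eq_duads hScard hS0 (hinv repD24 hD)
  have hinj : Function.Injective (repD24.toHomUnits : Cfsg.M24 →* GL (Fin 11) (ZMod 2)) :=
    fun s t h => repD24_injective (congrArg Units.val h)
  let E : rho.range ≃* Cfsg.M24 := (MonoidHom.ofInjective hπ).trans
    ((MulEquiv.subgroupCongr hD).trans (MonoidHom.ofInjective hinj).symm)
  have hE : ∀ k, repD24 (E k) = (π k : M) := fun k => by
    have h := (MonoidHom.ofInjective hinj).apply_symm_apply
      ((MulEquiv.subgroupCongr hD) (MonoidHom.ofInjective hπ k))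
    exact congrArg (fun u : (repD24.toHomUnits : Cfsg.M24 →* GL (Fin 11) (ZMod 2)).range =>
      ((u.1 : GL (Fin 11) (ZMod 2)) : M)) h
  refine ⟨κ, E.toMonoidHom.comp rho.rangeRestrict, hκ, hadd, E.surjective.comp rho.rangeRestrict_surjective,
    fun m => ?_, fun m x => ?_, fun x hx => ?_⟩
  · show E (rho.rangeRestrict m) = 1 ↔ _
    rw [MulEquiv.map_eq_one_iff, ← MonoidHom.mem_ker, MonoidHom.ker_rangeRestrict, hker, Subgroup.mem_subgroupOf]
  · show repD24 (E (rho.rangeRestrict m)) *ᵥ κ x = _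
    rw [hE, hκeq]
  · obtain ⟨p, q, -, e⟩ := (hSd (κ x)).1 ⟨x, hx, rfl⟩
    exact ⟨p, q, e⟩

/-- `HJ` is isomorphic to the normalizer of an elementary abelian subgroup of order `2 ^ 11`, with `zJ` sent
to `z`. -/
theorem exists_nMap (F : Facts) (Md : CfsgLib.JankoFourIndex.Model) {G : Type*} [Group G] [Finite G]
    [IsSimpleGroup G] (hG : ¬ IsMulCommutative G) {z : G} (hJ : Cfsg.IsOfJankoFourTypeAt z) :
    Nonempty (NMap G z) := by
  classical
  obtain ⟨L⟩ := nonempty_setting hJ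
  have D : Layer z L.A L.E := L.layer hG
  set A := L.A with hA
  set N := Subgroup.normalizer (A : Set G) with hN
  obtain ⟨κ, τ, hκ, hadd, hτ, hker, heq, hoth⟩ := exists_coord_hom D
  obtain ⟨-, K, hK, hKA, hKN, -⟩ := L.split_of_card hG (V := A) L.elem L.card_A
  -- the complement is M24
  let φ : K →* Cfsg.M24 := τ.comp (Subgroup.inclusion hK)
  have hφ : Function.Bijective φ := by
    refine ⟨(injective_iff_map_eq_one φ).2 fun k hk => ?_, fun s => ?_⟩
    · have hkA : (k : G) ∈ A := (hker (Subgroup.inclusion hK k)).1 hk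
      have : (k : G) ∈ K ⊓ A := ⟨k.2, hkA⟩
      rw [hKA] at this
      exact Subtype.ext (Subgroup.mem_bot.1 this)
    · obtain ⟨m, rfl⟩ := hτ s
      have hm : (m : G) ∈ ((K ⊔ A : Subgroup G) : Set G) := by rw [hKN]; exact m.2
      rw [Subgroup.coe_mul_of_left_le_normalizer_right K A hK] at hm
      obtain ⟨k, hk, a, ha, e⟩ := hm
      refine ⟨⟨k, hk⟩, ?_⟩
      have e' : m = Subgroup.inclusion hK ⟨k, hk⟩ * ⟨a, Subgroup.le_normalizer ha⟩ := Subtype.ext e.symm
      show τ (Subgroup.inclusion hK ⟨k, hk⟩) = τ m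
      rw [e', map_mul, (hker ⟨a, Subgroup.le_normalizer ha⟩).2 ha, mul_one]
  let φe := MulEquiv.ofBijective φ hφ
  let g : mSub →* N := (Subgroup.inclusion hK).comp (φe.symm.toMonoidHom.comp (thetaJ Md))
  have hgτ : ∀ n, τ (g n) = thetaJ Md n := fun n => φe.apply_symm_apply (thetaJ Md n)
  have hgA : ∀ n, (g n : G) ∈ A → n = 1 := fun n hn => (thetaJ_bijective F Md).1 (by
    rw [map_one, ← hgτ, (hker (g n)).2 hn])
  -- the coordinates
  let ν := Equiv.ofBijective κ hκ
  have hν : ∀ v, κ (ν.symm v) = v := fun v => ν.apply_symm_apply v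
  have hκ1 : κ 1 = 0 := by
    have h := hadd 1 1
    rw [mul_one] at h
    exact left_eq_add.1 h
  let f : Multiplicative V →* G := MonoidHom.mk' (fun v => ((ν.symm v.toAdd : A) : G)) fun u v => by
    have e : ν.symm (u * v).toAdd = ν.symm u.toAdd * ν.symm v.toAdd :=
      hκ.1 (by rw [hν, hadd, hν, hν, toAdd_mul])
    show ((ν.symm (u * v).toAdd : A) : G) = _
    rw [e]
    rfl
  have hfA : ∀ v, f v ∈ A := fun v => (ν.symm v.toAdd : A).2
  have hf1 : ∀ v, f v = 1 → v = 1 := fun v h => by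
    have e : ν.symm v.toAdd = 1 := Subtype.ext h
    have e' := congrArg κ e
    rw [hν, hκ1] at e'
    exact Multiplicative.toAdd.injective e'
  have hconj : ∀ (n : mSub) (v : V), (g n : G) * f (Multiplicative.ofAdd v) * (g n : G)⁻¹ =
      f (Multiplicative.ofAdd (repD24 (thetaJ Md n) *ᵥ v)) := fun n v => by
    have e : (⟨(g n : G) * (ν.symm v : A) * (g n : G)⁻¹, D.conj_mem (g n).2 (ν.symm v : A).2⟩ : A) =
        ν.symm (repD24 (thetaJ Md n) *ᵥ v) := hκ.1 (by rw [← heq, hν, hν, hgτ])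
    exact congrArg Subtype.val e
  -- the decomposition of `HJ`
  choose vv nn hdec using fun a : HJ => exists_decomp F Md a.2
  have uniq : ∀ {v w : Multiplicative V} {n m : mSub},
      psiJ F v * (n : Cfsg.Spor.J4) = psiJ F w * m → v = w ∧ n = m := fun {v w n m} h => by
    have h' : psiJ F (w⁻¹ * v) = ((m * n⁻¹ : mSub) : Cfsg.Spor.J4) := by
      rw [map_mul, map_inv, Subgroup.coe_mul, Subgroup.coe_inv, inv_mul_eq_iff_eq_mul, ← mul_assoc, ← h,
        mul_inv_cancel_right]
    obtain ⟨h1, h2⟩ := eq_one_of_psiJ F Md h'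
    exact ⟨(inv_mul_eq_one.1 h1).symm, (mul_inv_eq_one.1 h2).symm⟩
  have hval : ∀ (a : HJ) v (n : mSub), psiJ F v * (n : Cfsg.Spor.J4) = a →
      f (vv a) * (g (nn a) : G) = f v * g n := fun a v n h => by
    obtain ⟨e1, e2⟩ := uniq ((hdec a).trans h.symm)
    rw [e1, e2]
  let e0 : HJ →* G := MonoidHom.mk' (fun a => f (vv a) * (g (nn a) : G)) fun a b => by
    refine (hval _ (vv a * Multiplicative.ofAdd (repD24 (thetaJ Md (nn a)) *ᵥ (vv b).toAdd)) (nn a * nn b)
      ?_).trans ?_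
    · rw [map_mul, ← conj_psiJ, ofAdd_toAdd, Subgroup.coe_mul, Subgroup.coe_mul, ← hdec a, ← hdec b]
      group
    · rw [map_mul, ← hconj, ofAdd_toAdd, map_mul, Subgroup.coe_mul]
      group
  have he0 : ∀ a, e0 a = f (vv a) * (g (nn a) : G) := fun _ => rfl
  have hn1 : ∀ a, e0 a ∈ A → nn a = 1 := fun a h => hgA _ ((mul_mem_cancel_left (hfA (vv a))).1 h)
  have hinj : Function.Injective e0 := (injective_iff_map_eq_one e0).2 fun a h => by
    have hn := hn1 a (h ▸ one_mem A)
    rw [he0, hn, map_one, OneMemClass.coe_one, mul_one] at h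
    refine Subtype.ext ?_
    rw [← hdec a, hf1 _ h, hn, map_one, OneMemClass.coe_one, OneMemClass.coe_one, mul_one]
  have hV : ∀ a : HJ, (a : Cfsg.Spor.J4) ∈ vJ ↔ e0 a ∈ A := fun a => by
    rw [← range_psiJ F]
    constructor
    · rintro ⟨v, hv⟩
      rw [he0, hval a v 1 (by rw [OneMemClass.coe_one, mul_one, hv]), map_one, OneMemClass.coe_one, mul_one]
      exact hfA v
    · intro h
      exact ⟨vv a, by rw [← hdec a, hn1 a h, OneMemClass.coe_one, mul_one]⟩
  -- the involution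
  set a0 : A := ν.symm zVec with ha0
  have ha1 : (a0 : G) ≠ 1 := fun h => zVec_not_duad.1 (by
    rw [← hν zVec, ← ha0, show a0 = 1 from Subtype.ext h, hκ1])
  have hz : IsConj z (a0 : G) := by
    by_contra hc
    obtain ⟨p, q, e⟩ := hoth a0 ⟨a0.2, ha1, hc⟩
    exact zVec_not_duad.2 p q (e.trans (hν zVec))
  obtain ⟨c, hc⟩ := isConj_iff.1 hz
  obtain ⟨m, hm, hmz⟩ := D.fusion z D.z_mem c (hc ▸ a0.2)
  rw [hc] at hmz
  let e : HJ →* G := (MulAut.conj m⁻¹).toMonoidHom.comp e0
  have hinj' : Function.Injective e := (MulAut.conj m⁻¹).injective.comp hinj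
  have he : ∀ a, e a = m⁻¹ * e0 a * m := fun a => by
    show m⁻¹ * e0 a * m⁻¹⁻¹ = _
    rw [inv_inv]
  have hle : e.range ≤ N := by
    rintro _ ⟨a, rfl⟩
    rw [he, he0]
    exact mul_mem (mul_mem (inv_mem hm) (mul_mem (Subgroup.le_normalizer (hfA _)) (g (nn a)).2)) hm
  have hcard : Nat.card N ≤ Nat.card e.range := by
    rw [← Nat.card_congr (MonoidHom.ofInjective hinj').toEquiv, F.cardH, D.card_normalizer, D.main.1]
    norm_num
  refine ⟨{
    e := e
    inj := hinj'
    range_eq := ⟨A, L.elem, L.card_A, Subgroup.eq_of_le_of_card_ge hle hcard, fun a => ?_⟩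
    map_z := fun h => ?_ }⟩
  · rw [hV, he]
    have hiff := Subgroup.mem_normalizer_iff.1 (inv_mem hm) (e0 a)
    rwa [inv_inv] at hiff
  · have hp : psiJ F (Multiplicative.ofAdd zVec) * ((1 : mSub) : Cfsg.Spor.J4) = (⟨zJ, h⟩ : HJ) := by
      rw [OneMemClass.coe_one, mul_one, psiJ_zVec]
    rw [he, he0, hval _ _ 1 hp, map_one, OneMemClass.coe_one, mul_one]
    show m⁻¹ * (a0 : G) * m = z
    rw [← hmz]
    group

end CfsgLib.JFourAmalgam
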