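import Cfsg.Agent.JFourAmalgam.Final
import Cfsg.Agent.JFourAmalgam.FactsProof
import Cfsg.Agent.JFourAmalgam.ToN
import Cfsg.Agent.JFourType.Bridge

/-!
# The fourth Janko group from its type, and consequences of the isomorphism
-/

set_option autoImplicit false

namespace CfsgLib.JFourAmalgam

variable {G : Type*} [Group G]

/-- A group of Janko-four type is `J₄`, given the model facts and the subgroup criterion. -/
theorem isoJ4_of_type (M : ModelFacts) [Finite G] [IsSimpleGroup G] (hG : ¬ IsMulCommutative G) {z : G}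
    (hJ : Cfsg.IsOfJankoFourTypeAt z) (hend : EndGame G z) : Cfsg.Spor.IsoJ4 G :=
  (exists_nMap facts JankoFourM24.model hG hJ).elim fun N => M.isoJ4 facts hJ N hend

theorem card_of_iso (h : Cfsg.Spor.IsoJ4 G) : Nat.card G = 86775571046077562880 :=
  h.elim fun e => (Nat.card_congr e.toEquiv).trans JankoFour.card_eq

theorem isJ4_of_iso [IsSimpleGroup G] (h : Cfsg.Spor.IsoJ4 G) : Cfsg.IsJ4 G :=
  ⟨inferInstance, card_of_iso h⟩

/-- A simple group with an involution whose centralizer is not commutative is not commutative. -/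
theorem not_comm_of_type {z : G} (hJ : Cfsg.IsOfJankoFourTypeAt z) : ¬ IsMulCommutative G := by
  intro hc
  obtain ⟨P, -, hE, hcard, -⟩ := hJ
  have htop : Subgroup.center ↥(Cfsg.twoCoreOfCentralizer z) = ⊤ :=
    eq_top_iff.2 fun a _ => Subgroup.mem_center_iff.2 fun b => Subtype.ext (hc.is_comm.comm _ _)
  have h2 := hE.2
  rw [htop, Subgroup.card_top, hcard] at h2
  norm_num at h2

end CfsgLib.JFourAmalgam
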