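import Mathlib.GroupTheory.Transfer
import Mathlib.GroupTheory.Index

/-!
# A homomorphism on a finite group from its action on a normal subgroup

`A` is generated by `P` and `t`, `P` has odd index, `e` is a homomorphism of `P` into `H`, and the action
of `t` on `Q ≤ P` is realised by an element of `H`. If only `1` and the central involution `z` of `H`
centralize the image of `Q`, then some homomorphism of `A` into `H` differs from `e` on `P` only by `z`.
-/

set_option autoImplicit false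

namespace CfsgLib.JFourAmalgam

open scoped IsMulCommutative

variable {A G : Type*} [Group A] [Group G]

/-- The data of the extension problem. -/
structure Extension (A G : Type*) [Group A] [Group G] where
  /-- the subgroup of odd index -/
  P : Subgroup A
  /-- the acted subgroup -/
  Q : Subgroup A
  Q_le : Q ≤ P
  normal : ∀ a : A, ∀ q ∈ Q, a * q * a⁻¹ ∈ Q
  /-- the map on `P` -/
  e : P →* G
  /-- the target -/
  H : Subgroup G
  e_mem : ∀ p, e p ∈ H
  /-- the further generator -/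
  t : A
  gen : P ⊔ Subgroup.zpowers t = ⊤
  odd : Odd P.index
  /-- the involution in the centre of the target -/
  z : G
  z_mem : z ∈ H
  z_sq : z * z = 1
  z_central : ∀ h ∈ H, z * h = h * z
  /-- the element acting as `t` -/
  g : G
  g_mem : g ∈ H
  g_act : ∀ (q : A) (hq : q ∈ Q),
    g * e ⟨q, Q_le hq⟩ * g⁻¹ = e ⟨t * q * t⁻¹, Q_le (normal t q hq)⟩
  cent : ∀ h ∈ H, (∀ (q : A) (hq : q ∈ Q), h * e ⟨q, Q_le hq⟩ = e ⟨q, Q_le hq⟩ * h) → h = 1 ∨ h = z

namespace Extension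

variable (X : Extension A G)

/-- The pairs acting in the same way. -/
def same : Subgroup (A × G) where
  carrier := {x | x.2 ∈ X.H ∧ ∀ (q : A) (hq : q ∈ X.Q),
    x.2 * X.e ⟨q, X.Q_le hq⟩ * x.2⁻¹ = X.e ⟨x.1 * q * x.1⁻¹, X.Q_le (X.normal x.1 q hq)⟩}
  one_mem' := ⟨one_mem _, fun q hq => by simp⟩
  mul_mem' := by
    rintro ⟨a, u⟩ ⟨b, v⟩ ⟨hu, ha⟩ ⟨hv, hb⟩
    refine ⟨mul_mem hu hv, fun q hq => ?_⟩
    have h1 := ha _ (X.normal b q hq)
    have h2 := hb q hq
    simp only at h1 h2 ⊢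
    rw [← h2] at h1
    simp only [Prod.fst_mul, Prod.snd_mul]
    calc u * v * X.e ⟨q, X.Q_le hq⟩ * (u * v)⁻¹
        = u * (v * X.e ⟨q, X.Q_le hq⟩ * v⁻¹) * u⁻¹ := by group
      _ = X.e ⟨a * (b * q * b⁻¹) * a⁻¹, X.Q_le (X.normal a _ (X.normal b q hq))⟩ := h1
      _ = _ := congrArg X.e (Subtype.ext (show a * (b * q * b⁻¹) * a⁻¹ = a * b * q * (a * b)⁻¹ by group))
  inv_mem' := by
    rintro ⟨a, u⟩ ⟨hu, ha⟩
    refine ⟨inv_mem hu, fun q hq => ?_⟩
    have h1 := ha _ (X.normal a⁻¹ q hq)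
    simp only [Prod.fst_inv, Prod.snd_inv] at h1 ⊢
    rw [show X.e ⟨a * (a⁻¹ * q * a⁻¹⁻¹) * a⁻¹, X.Q_le (X.normal a _ (X.normal a⁻¹ q hq))⟩
      = X.e ⟨q, X.Q_le hq⟩ from congrArg X.e (Subtype.ext
        (show a * (a⁻¹ * q * a⁻¹⁻¹) * a⁻¹ = q by group))] at h1
    rw [← h1]
    group

/-- The pairs generated by the graph of `e` and `(t, g)`. -/
def rel : Subgroup (A × G) := ((MonoidHom.prod X.P.subtype X.e).range) ⊔ Subgroup.zpowers (X.t, X.g)

theorem rel_le_same : X.rel ≤ X.same := by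
  refine sup_le ?_ (Subgroup.zpowers_le.2 ⟨X.g_mem, X.g_act⟩)
  rintro _ ⟨p, rfl⟩
  refine ⟨X.e_mem p, fun q hq => ?_⟩
  simp only [MonoidHom.prod_apply, Subgroup.coe_subtype]
  rw [← map_inv, ← map_mul, ← map_mul]
  rfl

/-- The first projection. -/
def fstHom : X.rel →* A := (MonoidHom.fst A G).comp X.rel.subtype

theorem fstHom_surjective : Function.Surjective X.fstHom := by
  rw [← MonoidHom.range_eq_top, eq_top_iff, ← X.gen]
  refine sup_le (fun p hp => ?_) (Subgroup.zpowers_le.2 ?_)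
  · exact ⟨⟨(p, X.e ⟨p, hp⟩), Subgroup.mem_sup_left ⟨⟨p, hp⟩, rfl⟩⟩, rfl⟩
  · exact ⟨⟨(X.t, X.g), Subgroup.mem_sup_right (Subgroup.mem_zpowers _)⟩, rfl⟩

theorem snd_cases (r : X.rel) (h : X.fstHom r = 1) : (r : A × G).2 = 1 ∨ (r : A × G).2 = X.z := by
  obtain ⟨hH, hact⟩ := X.rel_le_same r.2
  refine X.cent _ hH fun q hq => mul_inv_eq_iff_eq_mul.1 ((hact q hq).trans (congrArg X.e (Subtype.ext ?_)))
  change (r : A × G).1 = 1 at h
  show (r : A × G).1 * q * (r : A × G).1⁻¹ = q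
  rw [h]; group

theorem snd_mem (r : X.rel) : (r : A × G).2 ∈ X.H := (X.rel_le_same r.2).1

/-- Over `P` a pair differs from the graph by the central involution. -/
theorem snd_cases_P (r : X.rel) (h : X.fstHom r ∈ X.P) :
    (r : A × G).2 = X.e ⟨_, h⟩ ∨ (r : A × G).2 = X.e ⟨_, h⟩ * X.z := by
  let s : X.rel := ⟨(X.fstHom r, X.e ⟨_, h⟩), Subgroup.mem_sup_left ⟨⟨_, h⟩, rfl⟩⟩
  rcases X.snd_cases (s⁻¹ * r) (by rw [map_mul, map_inv]; exact inv_mul_eq_one.2 rfl) with h1 | h1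
  · exact Or.inl (inv_mul_eq_one.1 h1).symm
  · exact Or.inr (inv_mul_eq_iff_eq_mul.1 h1)

/-- A homomorphism of the whole group, equal to `e` on `P` up to the central involution. -/
theorem exists_hom : ∃ ψ : A →* G, (∀ a, ψ a ∈ X.H) ∧
    ∀ p : X.P, ψ p = X.e p ∨ ψ p = X.e p * X.z := by
  classical
  suffices h : ∃ K : Subgroup X.rel, Function.Bijective (X.fstHom.comp K.subtype) by
    obtain ⟨K, hK⟩ := h
    let iso := MulEquiv.ofBijective _ hK
    let ψ : A →* G := ((MonoidHom.snd A G).comp (X.rel.subtype.comp K.subtype)).comp iso.symm.toMonoidHom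
    refine ⟨ψ, fun a => X.snd_mem _, fun p => ?_⟩
    have hp : X.fstHom (iso.symm (p : A) : X.rel) = p := iso.apply_symm_apply _
    have hp' : X.fstHom (iso.symm (p : A) : X.rel) ∈ X.P := by rw [hp]; exact p.2
    have e : X.e ⟨_, hp'⟩ = X.e p := congrArg X.e (Subtype.ext hp)
    rw [← e]
    exact X.snd_cases_P _ hp'
  by_cases hz : ((1 : A), X.z) ∈ X.rel ∧ X.z ≠ 1
  swap
  · refine ⟨⊤, (injective_iff_map_eq_one _).2 fun r hr => ?_, fun a => ?_⟩
    · refine Subtype.ext (Subtype.ext (Prod.ext hr ?_))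
      rcases X.snd_cases r hr with h | h
      · exact h
      · refine by_contra fun hne => hz ⟨?_, fun h1 => hne (h.trans h1)⟩
        rw [← h]
        exact (show ((1 : A), (r : A × G).2) = (r : A × G) from Prod.ext (Eq.symm hr) rfl) ▸ r.1.2
    · obtain ⟨r, hr⟩ := X.fstHom_surjective a
      exact ⟨⟨r, Subgroup.mem_top _⟩, hr⟩
  · obtain ⟨hz, hz1⟩ := hz
    let c : X.rel := ⟨(1, X.z), hz⟩
    let W : Subgroup X.rel := X.P.comap X.fstHom
    have hW : W.index = X.P.index := Subgroup.index_comap_of_surjective _ X.fstHom_surjective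
    have hmem : ∀ w : W, (X.e ⟨_, w.2⟩)⁻¹ * (w.1 : A × G).2 ∈ Subgroup.zpowers X.z := fun w => by
      rcases X.snd_cases_P w.1 w.2 with h | h <;> rw [h]
      · simp
      · simp
    let ϕ : W →* Subgroup.zpowers X.z :=
      MonoidHom.mk' (fun w => ⟨_, hmem w⟩) fun v w => Subtype.ext (by
        show (X.e ⟨_, (v * w).2⟩)⁻¹ * ((v.1 : A × G).2 * (w.1 : A × G).2) =
          ((X.e ⟨_, v.2⟩)⁻¹ * (v.1 : A × G).2) * ((X.e ⟨_, w.2⟩)⁻¹ * (w.1 : A × G).2)
        have hc : (X.e ⟨_, v.2⟩)⁻¹ * (v.1 : A × G).2 * (X.e ⟨_, w.2⟩)⁻¹ =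
            (X.e ⟨_, w.2⟩)⁻¹ * ((X.e ⟨_, v.2⟩)⁻¹ * (v.1 : A × G).2) := by
          obtain ⟨k, hk⟩ := hmem v
          rw [← hk]
          exact Commute.zpow_left (X.z_central _ (inv_mem (X.e_mem _))) k
        rw [show (⟨_, (v * w).2⟩ : X.P) = ⟨_, v.2⟩ * ⟨_, w.2⟩ from Subtype.ext (map_mul X.fstHom v.1 w.1),
          map_mul, mul_inv_rev, ← mul_assoc ((X.e ⟨_, v.2⟩)⁻¹ * _), hc]
        simp only [mul_assoc])
    have : W.FiniteIndex := ⟨by rw [hW]; intro h; simpa [h] using X.odd⟩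
    let T : X.rel →* Subgroup.zpowers X.z := MonoidHom.transfer ϕ
    have hcc : ∀ r : X.rel, c * r = r * c := fun r => Subtype.ext (Prod.ext
      (by show (1 : A) * _ = _ * 1; simp) (X.z_central _ (X.snd_mem r)))
    have hTc : (T c : G) = X.z := by
      have hc2 : c ^ 2 = 1 := Subtype.ext (Prod.ext (by show (1 : A) ^ 2 = 1; simp)
        (by show X.z ^ 2 = 1; rw [pow_two]; exact X.z_sq))
      have hk : c ^ W.index = c := by
        obtain ⟨m, hm⟩ := (hW ▸ X.odd : Odd W.index)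
        rw [hm, pow_succ, pow_mul, hc2, one_pow, one_mul]
      rw [show T c = ϕ ⟨c ^ W.index, _⟩ from MonoidHom.transfer_eq_pow ϕ c fun k g _ => by
        rw [mul_assoc, (Commute.pow_left (hcc g) k).eq, inv_mul_cancel_left]]
      have hcW : c ∈ W := one_mem X.P
      rw [show ϕ ⟨c ^ W.index, _⟩ = ϕ ⟨c, hcW⟩ from congrArg ϕ (Subtype.ext hk)]
      show (X.e ⟨_, hcW⟩)⁻¹ * X.z = X.z
      rw [show (⟨_, hcW⟩ : X.P) = 1 from Subtype.ext rfl, map_one, inv_one, one_mul]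
    refine ⟨T.ker, (injective_iff_map_eq_one _).2 fun r hr => ?_, fun a => ?_⟩
    · rcases X.snd_cases r.1 hr with h | h
      · exact Subtype.ext (Subtype.ext (Prod.ext hr h))
      · have : r.1 = c := Subtype.ext (Prod.ext hr h)
        refine absurd ?_ hz1
        rw [← hTc, ← this, MonoidHom.mem_ker.1 r.2]
        rfl
    · obtain ⟨r, hr⟩ := X.fstHom_surjective a
      obtain ⟨k, hk⟩ := (T r).2
      refine ⟨⟨r * c ^ (-k), ?_⟩, ?_⟩
      · rw [MonoidHom.mem_ker, map_mul, map_zpow]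
        refine Subtype.ext ?_
        rw [Subgroup.coe_mul, Subgroup.coe_zpow, hTc, ← hk]
        simp
      · show X.fstHom (r * c ^ (-k)) = a
        rw [map_mul, map_zpow, show X.fstHom c = 1 from rfl, one_zpow, mul_one, hr]

end Extension

end CfsgLib.JFourAmalgam
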